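import Mathlib
import Cfsg.Agent.Lib.helper14.BR0Defs

/-! S4700 split (helper14), pieces AL (`III_lift`) and AR (`arith_R`): pure arithmetic. -/

set_option autoImplicit false

namespace Cfsg.Agent.Lib.helper58.BR

open Cfsg Cfsg.Agent.Lib.helper14.BR

/-- AL : alternative (III) lifts from `G / O_{p'}(G)` to `G`. -/
theorem III_lift (p n n' j : ℕ) (hp : 0 < p) (h : 1 + n * p = (1 + n' * p) * (1 + j * p))
    (h3 : III n' p) : III n p := by
  obtain ⟨h', u, hh, hu, e⟩ := h3
  have hn : n = n' + j + n' * j * p := by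
    have h1 : n * p = (n' + j + n' * j * p) * p := by
      have : (1 + n' * p) * (1 + j * p) = 1 + (n' + j + n' * j * p) * p := by ring
      omega
    exact Nat.eq_of_mul_eq_mul_right hp h1
  refine ⟨h' + j * (h' * p + u + 1), u, by positivity, hu, ?_⟩
  have h2 : n * (u + 1) = n' * (u + 1) + j * (u + 1) + j * p * (n' * (u + 1)) := by
    rw [hn]; ring
  rw [h2, e]; ring

/-- AR. -/
theorem arith_R (p e n a b t y R : ℕ) (hp : p.Prime) (hab : 1 + a + b = e)
    (ht : t * e = p - 1) (hn1 : 1 ≤ n)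
    (hcase : (b = a * n ∧ y = e) ∨
      (∃ σ : ℕ, 1 ≤ σ ∧ b = a * n + σ ∧ t * σ = n + 1 ∧ y + e = p * σ))
    (hsq : 1 + a * (1 + n * p) ^ 2 + b * (p - 1) ^ 2 + t * y ^ 2 + p ^ 2 * R =
      e * p * (1 + n * p)) : R = n := by
  have hp1 : 1 ≤ p := hp.one_lt.le
  have hpz : (p : ℤ) ≠ 0 := by exact_mod_cast hp.ne_zero
  have ht' : (t : ℤ) * e = p - 1 := by
    have := congrArg (Nat.cast : ℕ → ℤ) ht
    push_cast [Nat.cast_sub hp1] at this
    exact this
  have hsq' : (1 : ℤ) + a * (1 + n * p) ^ 2 + b * (p - 1) ^ 2 + t * y ^ 2 + p ^ 2 * R =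
      e * p * (1 + n * p) := by
    have := congrArg (Nat.cast : ℕ → ℤ) hsq
    push_cast [Nat.cast_sub hp1] at this
    exact this
  have hab' : (1 : ℤ) + a + b = e := by exact_mod_cast hab
  have key : (p : ℤ) ^ 2 * R = p ^ 2 * n := by
    rcases hcase with ⟨hb, hy⟩ | ⟨σ, -, hb, hσ, hy⟩
    · have hb' : (b : ℤ) = a * n := by exact_mod_cast hb
      have hy' : (y : ℤ) = e := by exact_mod_cast hy
      rw [hb', hy'] at hsq'
      rw [hb'] at hab'
      linear_combination hsq' - e * ht' - (1 + n * p ^ 2) * hab'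
    · have hb' : (b : ℤ) = a * n + σ := by exact_mod_cast hb
      have hσ' : (t : ℤ) * σ = n + 1 := by exact_mod_cast hσ
      have hy' : (y : ℤ) = p * σ - e := by
        have : (y : ℤ) + e = p * σ := by exact_mod_cast hy
        linarith
      rw [hb', hy'] at hsq'
      rw [hb'] at hab'
      linear_combination hsq' - p ^ 2 * σ * hσ' - (e - 2 * p * σ) * ht' - (1 + n * p ^ 2) * hab'
  have h2 : ((p : ℤ) ^ 2) ≠ 0 := pow_ne_zero 2 hpz
  have : (R : ℤ) = n := mul_left_cancel₀ h2 key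
  exact_mod_cast this

end Cfsg.Agent.Lib.helper58.BR
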