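import Mathlib
import Cfsg.Agent.Lib.helper89.S60Defs

/-!
helper58: S6000 piece CLS2 (`s60_invol_class`): an involution of `GL_4(F)` (`2 ≠ 0`) is conjugate under
`SL_4(F)` to a diagonal matrix `Dk F k`.
-/

set_option autoImplicit false

namespace Cfsg.Agent.Lib.helper89.S60

open Matrix Cfsg Cfsg.Geo Module

/-- The eigenspaces of an involution are complementary. -/
theorem h58s60_invol_compl {F : Type*} [Field F] {V : Type*} [AddCommGroup V] [Module F V]
    (h2 : (2 : F) ≠ 0) (T : Module.End F V) (hTT : ∀ v, T (T v) = v) :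
    IsCompl (LinearMap.ker (T + 1)) (LinearMap.ker (T - 1)) := by
  refine IsCompl.symm ?_
  constructor
  · rw [Submodule.disjoint_def]
    intro v h1 h2'
    rw [LinearMap.mem_ker, LinearMap.sub_apply, Module.End.one_apply, sub_eq_zero] at h1
    rw [LinearMap.mem_ker, LinearMap.add_apply, Module.End.one_apply, h1] at h2'
    have h3 : (2 : F) • v = 0 := by
      rw [two_smul]
      exact h2'
    exact (smul_eq_zero.mp h3).resolve_left h2
  · rw [codisjoint_iff, eq_top_iff]
    intro v _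
    have hv : v = (2 : F)⁻¹ • (v + T v) + (2 : F)⁻¹ • (v - T v) := by
      rw [← smul_add]
      have h3 : v + T v + (v - T v) = (2 : F) • v := by
        rw [two_smul]
        abel
      rw [h3, smul_smul, inv_mul_cancel₀ h2, one_smul]
    rw [hv]
    apply Submodule.add_mem_sup
    · rw [LinearMap.mem_ker, LinearMap.sub_apply, Module.End.one_apply, map_smul, map_add, hTT,
        sub_eq_zero, add_comm]
    · rw [LinearMap.mem_ker, LinearMap.add_apply, Module.End.one_apply, map_smul, map_sub, hTT,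
        ← smul_add]
      have h3 : T v - v + (v - T v) = 0 := by abel
      rw [h3, smul_zero]

/-- CLS2 (L). -/
theorem s60_invol_class {F : Type*} [Field F] (h2 : (2 : F) ≠ 0) (x : GL (Fin 4) F)
    (hx : (x : Matrix (Fin 4) (Fin 4) F) * (x : Matrix (Fin 4) (Fin 4) F) = 1) :
    ∃ g ∈ specialLinear (Fin 4) F, ∃ k : ℕ, k ≤ 4 ∧ ((g⁻¹ * x * g : GL (Fin 4) F) : Matrix (Fin 4) (Fin 4) F) = Dk F k := by
  classical
  obtain ⟨X, hX⟩ : ∃ X : Matrix (Fin 4) (Fin 4) F, X = (x : Matrix (Fin 4) (Fin 4) F) := ⟨_, rfl⟩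
  rw [← hX] at hx
  obtain ⟨T, hT⟩ : ∃ T : Module.End F (Fin 4 → F), T = Matrix.toLin' X := ⟨_, rfl⟩
  have hTT : ∀ v, T (T v) = v := by
    intro v
    rw [hT, Matrix.toLin'_apply, Matrix.toLin'_apply, Matrix.mulVec_mulVec, hx, Matrix.one_mulVec]
  obtain ⟨Em, hEm⟩ : ∃ Em : Submodule F (Fin 4 → F), Em = LinearMap.ker (T + 1) := ⟨_, rfl⟩
  obtain ⟨Ep, hEp⟩ : ∃ Ep : Submodule F (Fin 4 → F), Ep = LinearMap.ker (T - 1) := ⟨_, rfl⟩
  have hc : IsCompl Em Ep := by
    rw [hEm, hEp]
    exact h58s60_invol_compl h2 T hTT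
  have hmemEm : ∀ v ∈ Em, T v = -v := by
    intro v hv
    rw [hEm, LinearMap.mem_ker, LinearMap.add_apply, Module.End.one_apply] at hv
    exact eq_neg_of_add_eq_zero_left hv
  have hmemEp : ∀ v ∈ Ep, T v = v := by
    intro v hv
    rw [hEp, LinearMap.mem_ker, LinearMap.sub_apply, Module.End.one_apply] at hv
    exact sub_eq_zero.1 hv
  have hdim : Module.finrank F Em + Module.finrank F Ep = 4 := by
    have h1 := Submodule.finrank_add_eq_of_isCompl hc
    simpa using h1
  let bm : Basis (Fin (Module.finrank F Em)) F Em := Module.finBasis F Em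
  let bp : Basis (Fin (Module.finrank F Ep)) F Ep := Module.finBasis F Ep
  let B0 : Basis (Fin (Module.finrank F Em) ⊕ Fin (Module.finrank F Ep)) F (Fin 4 → F) :=
    (bm.prod bp).map (Submodule.prodEquivOfIsCompl Em Ep hc)
  let e : Fin (Module.finrank F Em) ⊕ Fin (Module.finrank F Ep) ≃ Fin 4 :=
    finSumFinEquiv.trans (finCongr hdim)
  let B : Basis (Fin 4) F (Fin 4 → F) := B0.reindex e
  have hB : ∀ j : Fin 4, T (B j) = (if (j : ℕ) < Module.finrank F Em then (-1 : F) else 1) • B j := by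
    intro j
    obtain ⟨s, rfl⟩ := e.surjective j
    have hBs : B (e s) = B0 s := by simp [B]
    rw [hBs]
    rcases s with i | i
    · have h1 : B0 (Sum.inl i) = (bm i : Fin 4 → F) := by
        simp [B0, Submodule.coe_prodEquivOfIsCompl']
      have h3 : ((e (Sum.inl i) : Fin 4) : ℕ) < Module.finrank F Em := by
        simp [e]
      rw [if_pos h3, h1]
      rw [neg_one_smul]
      exact hmemEm _ (bm i).2
    · have h1 : B0 (Sum.inr i) = (bp i : Fin 4 → F) := by
        simp [B0, Submodule.coe_prodEquivOfIsCompl']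
      have h3 : ¬ ((e (Sum.inr i) : Fin 4) : ℕ) < Module.finrank F Em := by
        simp [e]
      rw [if_neg h3, h1]
      rw [one_smul]
      exact hmemEp _ (bp i).2
  obtain ⟨P, hP⟩ : ∃ P : Matrix (Fin 4) (Fin 4) F, P = Matrix.of (fun i j => B j i) := ⟨_, rfl⟩
  have hPdet : IsUnit P.det := by
    have h1 : P = (Pi.basisFun F (Fin 4)).toMatrix B := by
      rw [hP]
      ext i j
      simp [Basis.toMatrix_apply]
    rw [h1, ← Basis.det_apply]
    exact Basis.isUnit_det _ _
  have hXP : X * P = P * Dk F (Module.finrank F Em) := by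
    ext i j
    have h1 : (X *ᵥ B j) i = (if (j : ℕ) < Module.finrank F Em then (-1 : F) else 1) * B j i := by
      have h0 := congrFun (hB j) i
      rw [hT, Matrix.toLin'_apply] at h0
      simpa using h0
    rw [hP]
    unfold Dk
    rw [Matrix.mul_diagonal, Matrix.of_apply]
    calc (X * Matrix.of (fun i j => B j i)) i j = (X *ᵥ B j) i := rfl
      _ = _ := h1
      _ = _ := mul_comm _ _
  obtain ⟨δ, hδ⟩ : ∃ δ : F, δ = P.det := ⟨_, rfl⟩
  have hδ0 : δ ≠ 0 := by
    rw [hδ]
    exact hPdet.ne_zero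
  obtain ⟨c, hc'⟩ : ∃ c : Fin 4 → F, c = fun j => if j = 0 then δ⁻¹ else 1 := ⟨_, rfl⟩
  obtain ⟨P', hP'⟩ : ∃ P' : Matrix (Fin 4) (Fin 4) F, P' = P * Matrix.diagonal c := ⟨_, rfl⟩
  have hdet : P'.det = 1 := by
    rw [hP', Matrix.det_mul, Matrix.det_diagonal, Fin.prod_univ_four, ← hδ, hc']
    simp [hδ0]
  have hXP' : X * P' = P' * Dk F (Module.finrank F Em) := by
    rw [hP', ← Matrix.mul_assoc, hXP, Matrix.mul_assoc, Matrix.mul_assoc]
    congr 1
    unfold Dk
    rw [Matrix.diagonal_mul_diagonal, Matrix.diagonal_mul_diagonal]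
    congr 1
    funext j
    exact mul_comm _ _
  have hunit : IsUnit P'.det := by
    rw [hdet]
    exact isUnit_one
  obtain ⟨g, hg⟩ : ∃ g : GL (Fin 4) F, (g : Matrix (Fin 4) (Fin 4) F) = P' :=
    ⟨Matrix.nonsingInvUnit P' hunit, rfl⟩
  refine ⟨g, ?_, Module.finrank F Em, by omega, ?_⟩
  · unfold specialLinear
    rw [MonoidHom.mem_ker]
    apply Units.ext
    rw [Matrix.GeneralLinearGroup.val_det_apply, hg, hdet]
    rfl
  · rw [Units.val_mul, Units.val_mul, hg, ← hX, Matrix.mul_assoc, hXP', ← Matrix.mul_assoc]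
    have h1 : ((g⁻¹ : GL (Fin 4) F) : Matrix (Fin 4) (Fin 4) F) * P' = 1 := by
      rw [← hg]
      exact Units.inv_mul g
    rw [h1, Matrix.one_mul]

end Cfsg.Agent.Lib.helper89.S60
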