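import Mathlib
import Cfsg.Agent.Lib.helper5.Rep
import Cfsg.Agent.Lib.helper43.Constituent
import Cfsg.Agent.Lib.helper16.PermChar
import Cfsg.Agent.Lib.helper82.CharInt
import Cfsg.Agent.Lib.helper82.CharDeg
import Cfsg.Agent.Lib.helper82.CharQuot
import Cfsg.Agent.Lib.helper82.CharSums
import Cfsg.Agent.Lib.helper83.CharBasic
import Cfsg.Agent.Lib.helper83.CharBasic2
import Cfsg.Agent.Lib.helper81.CharBasic

/-!
Shared lemmas (helper58): the representation-theoretic half of "the kernel of the characters of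
degree prime to `p`".

* `rep_eq_one_of_fixed`: a normal subgroup fixing a nonzero vector of an irreducible
  representation acts trivially.
* `sum_eq_add_prime_mul_of_fixed`: orbit counting for a `p`-group with a unique fixed point.
* `rep_eq_one_of_centralizer_inf`: a normal subgroup `N` with `C_N(P) = 1` acts trivially in
  every irreducible representation of degree prime to `p`.
* `exists_sylow_eigenvector`: a representation of degree prime to `p` has a common eigenvector
  for a Sylow `p`-subgroup.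
* `irr_eq_of_mem_sup_commutator`: a normal subgroup `L ≤ N [P, P]` is in the kernel of every
  irreducible character of degree prime to `p`.
-/

set_option autoImplicit false

namespace Cfsg.Agent.Lib.helper58

open Cfsg Module
open scoped ComplexConjugate

universe u

/-- A normal subgroup fixing a nonzero vector of an irreducible representation acts trivially. -/
theorem rep_eq_one_of_fixed {G V : Type*} [Group G] [AddCommGroup V] [Module ℂ V]
    (ρ : Representation ℂ G V) [ρ.IsIrreducible] (L : Subgroup G) [hL : L.Normal] (v : V)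
    (hv : v ≠ 0) (hfix : ∀ x ∈ L, ρ x v = v) : ∀ x ∈ L, ρ x = 1 := by
  obtain ⟨W, hW⟩ : ∃ W : Submodule ℂ V, ∀ w, w ∈ W ↔ ∀ x ∈ L, ρ x w = w := by
    refine ⟨{ carrier := {w | ∀ x ∈ L, ρ x w = w}
              add_mem' := ?_
              zero_mem' := ?_
              smul_mem' := ?_ }, fun w => Iff.rfl⟩
    · intro a b ha hb x hx
      rw [map_add, ha x hx, hb x hx]
    · intro x hx
      rw [map_zero]
    · intro c a ha x hx
      rw [map_smul, ha x hx]
  have hinv : ∀ g w, w ∈ W → ρ g w ∈ W := by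
    intro g w hw
    rw [hW] at hw ⊢
    intro x hx
    have h1 : ρ x (ρ g w) = ρ g (ρ (g⁻¹ * x * g) w) := by
      rw [← Module.End.mul_apply, ← Module.End.mul_apply, ← map_mul, ← map_mul]
      congr 2
      group
    rw [h1, hw _ (hL.conj_mem' x hx g)]
  rcases Cfsg.Agent.Lib.helper5.irr_submodule_eq_bot_or_top ρ W hinv with h | h
  · exfalso
    apply hv
    have h2 : v ∈ W := (hW v).2 hfix
    rw [h] at h2
    exact (Submodule.mem_bot ℂ).1 h2
  · intro x hx
    apply LinearMap.ext
    intro w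
    have h2 : w ∈ W := by
      rw [h]
      exact Submodule.mem_top
    exact (hW w).1 h2 x hx

/-- Orbit counting: if a `p`-group acts on a finite set with a unique fixed point `x₀` and `f` is
an invariant function with algebraic integer values, then `∑ f ≡ f x₀` modulo `p`. -/
theorem sum_eq_add_prime_mul_of_fixed {P X : Type*} [Group P] [Fintype X] [MulAction P X]
    {p : ℕ} [Fact p.Prime] (hP : IsPGroup p P) (f : X → ℂ)
    (hf : ∀ (u : P) (x : X), f (u • x) = f x) (hint : ∀ x, IsIntegral ℤ (f x)) (x₀ : X)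
    (hx₀ : ∀ u : P, u • x₀ = x₀) (huniq : ∀ x : X, (∀ u : P, u • x = x) → x = x₀) :
    ∃ α : ℂ, IsIntegral ℤ α ∧ ∑ x, f x = f x₀ + p * α := by
  classical
  have hfib : ∀ v : ℂ, ∃ c : ℕ, (Finset.univ.filter (fun x => f x = v)).card
      = (if v = f x₀ then 1 else 0) + p * c := by
    intro v
    let S : SubMulAction P X :=
      { carrier := {x | f x = v}
        smul_mem' := fun u x hx => by
          show f (u • x) = v
          rw [hf]
          exact hx }
    have hmemS : ∀ x : X, x ∈ S ↔ f x = v := fun x => Iff.rfl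
    have hmod := hP.card_modEq_card_fixedPoints (α := S)
    have hcardS : Nat.card S = (Finset.univ.filter (fun x => f x = v)).card := by
      rw [Nat.card_eq_fintype_card, ← Fintype.card_subtype]
      exact Fintype.card_congr (Equiv.subtypeEquivRight (fun x => hmemS x))
    have hval : ∀ (a : S) (u : P), ((u • a : S) : X) = u • (a : X) := fun a u => rfl
    have hfixed : ∀ a : S, a ∈ MulAction.fixedPoints P S → (a : X) = x₀ := by
      intro a ha
      apply huniq
      intro u
      rw [← hval, ha u]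
    have hfixcard : Nat.card (MulAction.fixedPoints P S) = if v = f x₀ then 1 else 0 := by
      split_ifs with hv
      · rw [Nat.card_eq_one_iff_unique]
        refine ⟨⟨?_⟩, ⟨⟨⟨x₀, (hmemS x₀).2 hv.symm⟩, fun u => Subtype.ext (hx₀ u)⟩⟩⟩
        rintro ⟨a, ha⟩ ⟨b, hb⟩
        apply Subtype.ext
        apply Subtype.ext
        show (a : X) = (b : X)
        rw [hfixed a ha, hfixed b hb]
      · rw [Nat.card_eq_zero]
        left
        constructor
        rintro ⟨a, ha⟩
        apply hv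
        rw [← hfixed a ha]
        exact ((hmemS a).1 a.2).symm
    rw [hcardS, hfixcard] at hmod
    have hle : (if v = f x₀ then 1 else 0) ≤ (Finset.univ.filter (fun x => f x = v)).card := by
      split_ifs with hv
      · rw [Nat.succ_le_iff, Finset.card_pos]
        exact ⟨x₀, Finset.mem_filter.2 ⟨Finset.mem_univ _, hv.symm⟩⟩
      · exact Nat.zero_le _
    obtain ⟨c, hc⟩ := (Nat.modEq_iff_dvd' hle).1 hmod.symm
    exact ⟨c, by omega⟩
  choose c hc using hfib
  refine ⟨∑ v ∈ Finset.univ.image f, (c v : ℂ) * v, ?_, ?_⟩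
  · apply IsIntegral.sum
    intro v hv
    obtain ⟨x, -, rfl⟩ := Finset.mem_image.1 hv
    exact (isIntegral_algebraMap (R := ℤ) (A := ℂ) (x := (c (f x) : ℤ))).mul (hint x) |>
      (by simpa using ·)
  · have h1 : ∑ x, f x = ∑ v ∈ Finset.univ.image f,
        (Finset.univ.filter (fun x => f x = v)).card • v :=
      Finset.sum_comp (fun v : ℂ => v) f
    rw [h1, Finset.mul_sum]
    have h2 : ∀ v ∈ Finset.univ.image f, (Finset.univ.filter (fun x => f x = v)).card • v
        = (if v = f x₀ then v else 0) + (p : ℂ) * ((c v : ℂ) * v) := by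
      intro v _
      rw [hc v, nsmul_eq_mul]
      split_ifs <;> push_cast <;> ring
    rw [Finset.sum_congr rfl h2, Finset.sum_add_distrib, Finset.sum_ite_eq',
      if_pos (Finset.mem_image_of_mem f (Finset.mem_univ x₀))]

/-- The conjugation action of a subgroup on a normal subgroup. -/
@[reducible] def conjMulAction {G : Type*} [Group G] (P N : Subgroup G) [hN : N.Normal] :
    MulAction ↥P ↥N where
  smul u n := ⟨(u : G) * (n : G) * (u : G)⁻¹, hN.conj_mem n n.2 u⟩
  one_smul n := Subtype.ext (by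
    show ((1 : ↥P) : G) * (n : G) * ((1 : ↥P) : G)⁻¹ = n
    simp)
  mul_smul u v n := Subtype.ext (by
    show ((u * v : ↥P) : G) * (n : G) * ((u * v : ↥P) : G)⁻¹
      = (u : G) * ((v : G) * (n : G) * (v : G)⁻¹) * (u : G)⁻¹
    simp [mul_assoc])

/-- A normal subgroup `N` with `C_N(P) = 1` acts trivially in every irreducible representation
of degree prime to `p`. -/
theorem rep_eq_one_of_centralizer_inf {G : Type u} [Group G] [Finite G] {p : ℕ} [Fact p.Prime]
    (P : Sylow p G) (N : Subgroup G) [hNn : N.Normal]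
    (hN : N ⊓ Subgroup.centralizer ((P : Subgroup G) : Set G) = ⊥) {n : ℕ}
    (ρ : Representation ℂ G (Fin n → ℂ)) [ρ.IsIrreducible] (hdeg : ¬ p ∣ n) :
    ∀ x ∈ N, ρ x = 1 := by
  classical
  let _ : Fintype ↥N := Fintype.ofFinite _
  let _ := conjMulAction (P : Subgroup G) N
  have hsm : ∀ (u : ↥(P : Subgroup G)) (a : ↥N),
      ((u • a : ↥N) : G) = (u : G) * (a : G) * (u : G)⁻¹ := fun u a => rfl
  obtain ⟨α, hα, hS⟩ := sum_eq_add_prime_mul_of_fixed (P := ↥(P : Subgroup G)) (X := ↥N) P.2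
    (fun a : ↥N => ρ.character (a : G))
    (fun u a => by
      show ρ.character ((u • a : ↥N) : G) = ρ.character (a : G)
      rw [hsm, Representation.char_conj])
    (fun a => Cfsg.Agent.Lib.helper82.isIntegral_char ρ (a : G)) 1
    (fun u => Subtype.ext (by rw [hsm]; simp))
    (fun a ha => by
      have h1 : (a : G) ∈ N ⊓ Subgroup.centralizer ((P : Subgroup G) : Set G) := by
        refine Subgroup.mem_inf.2 ⟨a.2, ?_⟩
        rw [Subgroup.mem_centralizer_iff]
        intro h hh
        have h2 := congrArg Subtype.val (ha ⟨h, hh⟩)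
        rw [hsm] at h2
        have h3 : h * (a : G) = (h * (a : G) * h⁻¹) * h := by group
        rw [h3]
        exact congrArg (· * h) h2
      rw [hN] at h1
      exact Subtype.ext (Subgroup.mem_bot.1 h1))
  have h1 : ρ.character ((1 : ↥N) : G) = (n : ℂ) := by
    rw [OneMemClass.coe_one, Representation.char_one]
    simp
  have hne : ∑ a : ↥N, ρ.character (a : G) ≠ 0 := by
    intro h0
    rw [hS, h1] at h0
    exact hdeg (Cfsg.Agent.Lib.helper16.nat_dvd_of_add_mul_integral n p α hα h0)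
  rw [Cfsg.Agent.Lib.helper43.sum_char_subgroup_eq ρ N] at hne
  have hfr : 0 < finrank ℂ (Representation.invariants
      (ρ.comp N.subtype : Representation ℂ ↥N (Fin n → ℂ))) := by
    rw [Nat.pos_iff_ne_zero]
    intro h
    apply hne
    rw [h]
    simp
  obtain ⟨⟨v, hvmem⟩, hv0⟩ := (Module.finrank_pos_iff_exists_ne_zero (R := ℂ)).1 hfr
  have hv0' : v ≠ 0 := fun h => hv0 (Subtype.ext h)
  exact rep_eq_one_of_fixed ρ N v hv0' (fun x hx => hvmem ⟨x, hx⟩)

/-- A representation of degree prime to `p` has a common eigenvector for a Sylow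
`p`-subgroup. -/
theorem exists_sylow_eigenvector {G : Type u} [Group G] [Finite G] {p : ℕ} [Fact p.Prime]
    (P : Sylow p G) {n : ℕ} (ρ : Representation ℂ G (Fin n → ℂ)) (hdeg : ¬ p ∣ n) :
    ∃ (f : ↥(P : Subgroup G) →* ℂˣ) (v : Fin n → ℂ), v ≠ 0 ∧
      ∀ u : ↥(P : Subgroup G), ρ (u : G) v = (f u : ℂ) • v := by
  classical
  let _ : Fintype ↥(P : Subgroup G) := Fintype.ofFinite _
  have hpp : p.Prime := Fact.out
  have hχP : IsCharacter ↥(P : Subgroup G) (fun u : ↥(P : Subgroup G) => ρ.character (u : G)) :=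
    ⟨n, ρ.comp (P : Subgroup G).subtype, rfl⟩
  obtain ⟨m, hm1, -, hm3⟩ := Cfsg.Agent.Lib.helper82.exists_nat_decomp hχP
  have hn : n = ∑ ψ : IrrCharacter ↥(P : Subgroup G), m ψ * charDegree (ψ : ↥(P : Subgroup G) → ℂ) := by
    have h1 : ρ.character (((1 : ↥(P : Subgroup G)) : G)) = (n : ℂ) := by
      rw [OneMemClass.coe_one, Representation.char_one]
      simp
    rw [h1] at hm3
    exact_mod_cast hm3
  obtain ⟨ψ, hψm, hψ1⟩ : ∃ ψ : IrrCharacter ↥(P : Subgroup G), m ψ ≠ 0 ∧
      charDegree (ψ : ↥(P : Subgroup G) → ℂ) = 1 := by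
    by_contra hcon
    apply hdeg
    rw [hn]
    apply Finset.dvd_sum
    intro ψ _
    by_cases h0 : m ψ = 0
    · rw [h0, zero_mul]
      exact dvd_zero p
    · apply Dvd.dvd.mul_left
      have hd := Cfsg.Agent.Lib.helper82.irr_degree_dvd_card ψ
      obtain ⟨k, hk⟩ := (IsPGroup.iff_card).1 P.2
      rw [hk] at hd
      obtain ⟨j, -, hj⟩ := (Nat.dvd_prime_pow hpp).1 hd
      rcases Nat.eq_zero_or_pos j with h | h
      · exfalso
        apply hcon
        refine ⟨ψ, h0, ?_⟩
        rw [hj, h, pow_zero]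
      · rw [hj]
        exact dvd_pow_self p h.ne'
  have hψone : (ψ : ↥(P : Subgroup G) → ℂ) 1 = 1 := by
    rw [Cfsg.Agent.Lib.helper82.irr_one_eq ψ, hψ1, Nat.cast_one]
  obtain ⟨f, hf⟩ := Cfsg.Agent.Lib.helper82.exists_hom_of_linear
    (Cfsg.Agent.Lib.helper83.isCharacter_of_irr ψ.2) hψone
  have hnorm : ∀ u : ↥(P : Subgroup G), conj (f u : ℂ) = (((f u)⁻¹ : ℂˣ) : ℂ) := by
    intro u
    have h1 : (f u : ℂ) ^ (orderOf u) = 1 := by
      rw [← Units.val_pow_eq_pow_val, ← map_pow, pow_orderOf_eq_one, map_one, Units.val_one]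
    have h2 : ‖(f u : ℂ)‖ = 1 := Complex.norm_eq_one_of_pow_eq_one h1 (orderOf_pos u).ne'
    rw [Units.val_inv_eq_inv_val]
    exact (Complex.inv_eq_conj h2).symm
  have hinner := hm1 ψ
  rw [Cfsg.Agent.Lib.helper83.classInner_def] at hinner
  have hsum0 : ∑ u : ↥(P : Subgroup G), ρ.character (u : G) * (((f u)⁻¹ : ℂˣ) : ℂ) ≠ 0 := by
    intro h0
    apply hψm
    have h2 : ∑ u : ↥(P : Subgroup G), ρ.character (u : G) * conj ((ψ : ↥(P : Subgroup G) → ℂ) u)
        = 0 := by
      rw [← h0]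
      refine Finset.sum_congr rfl (fun u _ => ?_)
      rw [hf u, hnorm u]
    rw [h2, mul_zero] at hinner
    exact_mod_cast hinner.symm
  obtain ⟨e, he⟩ : ∃ e : End ℂ (Fin n → ℂ),
      e = ∑ u : ↥(P : Subgroup G), (((f u)⁻¹ : ℂˣ) : ℂ) • ρ (u : G) := ⟨_, rfl⟩
  have htr : LinearMap.trace ℂ (Fin n → ℂ) e
      = ∑ u : ↥(P : Subgroup G), ρ.character (u : G) * (((f u)⁻¹ : ℂˣ) : ℂ) := by
    rw [he, map_sum]
    refine Finset.sum_congr rfl (fun u _ => ?_)
    rw [map_smul, smul_eq_mul, mul_comm]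
    rfl
  have he0 : e ≠ 0 := by
    intro h0
    apply hsum0
    rw [← htr, h0, map_zero]
  obtain ⟨w, hw⟩ : ∃ w, e w ≠ 0 := by
    by_contra hcon
    refine he0 (LinearMap.ext (fun w => ?_))
    by_contra h
    exact hcon ⟨w, h⟩
  refine ⟨f, e w, hw, ?_⟩
  intro u₀
  have hew : ∀ w', e w' = ∑ u : ↥(P : Subgroup G), (((f u)⁻¹ : ℂˣ) : ℂ) • ρ (u : G) w' := by
    intro w'
    rw [he, LinearMap.sum_apply]
    rfl
  rw [hew w, map_sum, Finset.smul_sum]
  rw [← Equiv.sum_comp (Equiv.mulLeft u₀)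
    (fun u : ↥(P : Subgroup G) => (f u₀ : ℂ) • ((((f u)⁻¹ : ℂˣ) : ℂ) • ρ (u : G) w))]
  refine Finset.sum_congr rfl (fun u _ => ?_)
  simp only [Equiv.coe_mulLeft]
  rw [map_smul, smul_smul, map_mul, mul_inv_rev, Units.val_mul, ← mul_assoc]
  have h3 : (f u₀ : ℂ) * (((f u)⁻¹ : ℂˣ) : ℂ) * (((f u₀)⁻¹ : ℂˣ) : ℂ) = (((f u)⁻¹ : ℂˣ) : ℂ) := by
    rw [mul_comm (f u₀ : ℂ), mul_assoc, ← Units.val_mul, mul_inv_cancel, Units.val_one, mul_one]
  rw [h3, Subgroup.coe_mul, map_mul]
  rfl

/-- A normal subgroup `L ≤ N [P, P]`, where `N` is normal with `C_N(P) = 1`, lies in the kernel of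
every irreducible character of degree prime to `p`. -/
theorem irr_eq_of_mem_sup_commutator {G : Type u} [Group G] [Finite G] {p : ℕ} [Fact p.Prime]
    (P : Sylow p G) (N : Subgroup G) [hNn : N.Normal]
    (hN : N ⊓ Subgroup.centralizer ((P : Subgroup G) : Set G) = ⊥)
    (L : Subgroup G) [hLn : L.Normal]
    (hL : L ≤ N ⊔ ⁅(P : Subgroup G), (P : Subgroup G)⁆)
    (χ : IrrCharacter G) (hdeg : ¬ p ∣ charDegree (χ : G → ℂ)) (x : G) (hx : x ∈ L) :
    (χ : G → ℂ) x = (χ : G → ℂ) 1 := by
  classical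
  obtain ⟨n, ρ, hirr, hρ⟩ := χ.2
  have := hirr
  have hn : charDegree (χ : G → ℂ) = n := by
    have h1 : (χ : G → ℂ) 1 = (n : ℂ) := by
      rw [← hρ, Representation.char_one]
      simp
    rw [Cfsg.Agent.Lib.helper82.irr_one_eq χ] at h1
    exact_mod_cast h1
  rw [hn] at hdeg
  have hN1 := rep_eq_one_of_centralizer_inf P N hN ρ hdeg
  obtain ⟨f, v, hv0, hv⟩ := exists_sylow_eigenvector P ρ hdeg
  have hfix : ∀ y ∈ L, ρ y v = v := by
    intro y hy
    have hy' : y ∈ ((N ⊔ ⁅(P : Subgroup G), (P : Subgroup G)⁆ : Subgroup G) : Set G) := hL hy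
    rw [Subgroup.normal_mul] at hy'
    obtain ⟨a, ha, b, hb, rfl⟩ := Set.mem_mul.1 hy'
    rw [map_mul, hN1 a ha, one_mul]
    have hb' : b ∈ ⁅(P : Subgroup G), (P : Subgroup G)⁆ := hb
    rw [← Subgroup.map_subtype_commutator] at hb'
    obtain ⟨b', hb'', rfl⟩ := hb'
    have h1 : f b' = 1 := (Abelianization.commutator_subset_ker f) hb''
    have h2 := hv b'
    rw [h1, Units.val_one, one_smul] at h2
    exact h2
  have hL1 := rep_eq_one_of_fixed ρ L v hv0 hfix
  rw [← hρ]
  show ρ.character x = ρ.character 1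
  unfold Representation.character
  have h3 : ρ x = ρ 1 := by rw [hL1 x hx, map_one]
  rw [h3]

end Cfsg.Agent.Lib.helper58
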