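import Mathlib
import Cfsg.Agent.Lib.helper24.S6eDefs

/-!
S6002 split, piece AQT (`s6_sp_quart`): an element `x` of `Sp_4(F)` (`2 ≠ 0`) with `x ^ 4 = 1` and
`x ^ 2 ≠ ± 1` has non-zero trace.

Proof: `y = x + x⁻¹ = x - J xᵀ J` is self-adjoint for the symplectic form, and for trace zero the
square of such a matrix is scalar (a polynomial identity); but `y ^ 2 = 2 x ^ 2 + 2`.
-/

set_option autoImplicit false

namespace Cfsg.Agent.Lib.helper24

open Matrix Cfsg Cfsg.Geo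

/-- Block form of `X - J Xᵀ J`. -/
theorem helper58_blk {F : Type*} [CommRing F] (A B C D : Matrix (Fin 2) (Fin 2) F) :
    Matrix.fromBlocks A B C D - J (Fin 2) F * (Matrix.fromBlocks A B C D)ᵀ * J (Fin 2) F =
      Matrix.fromBlocks (A + Dᵀ) (B - Bᵀ) (C - Cᵀ) (D + Aᵀ) := by
  rw [Matrix.J, Matrix.fromBlocks_transpose, Matrix.fromBlocks_multiply,
    Matrix.fromBlocks_multiply, sub_eq_add_neg, Matrix.fromBlocks_neg, Matrix.fromBlocks_add]
  congr 1 <;> simp [sub_eq_add_neg]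

/-- For a `4 × 4` matrix `X` of trace zero, the square of `X - J Xᵀ J` is a scalar matrix. -/
theorem helper58_sq_scalar {F : Type*} [CommRing F] (X : Matrix S6I S6I F)
    (htr : Matrix.trace X = 0) :
    ∃ s : F, (X - J (Fin 2) F * Xᵀ * J (Fin 2) F) * (X - J (Fin 2) F * Xᵀ * J (Fin 2) F) =
      s • (1 : Matrix S6I S6I F) := by
  obtain ⟨A, B, C, D, rfl⟩ : ∃ A B C D : Matrix (Fin 2) (Fin 2) F, X = Matrix.fromBlocks A B C D :=
    ⟨X.toBlocks₁₁, X.toBlocks₁₂, X.toBlocks₂₁, X.toBlocks₂₂, (Matrix.fromBlocks_toBlocks X).symm⟩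
  have h : D 1 1 = -(A 0 0) - A 1 1 - D 0 0 := by
    have h0 := htr
    simp only [Matrix.trace, Matrix.diag_apply, Fintype.sum_sum_type, Fin.sum_univ_two,
      Matrix.fromBlocks_apply₁₁, Matrix.fromBlocks_apply₂₂] at h0
    linear_combination h0
  refine ⟨-((A 0 0 + D 0 0) * (A 1 1 + D 1 1) - (A 0 1 + D 1 0) * (A 1 0 + D 0 1)) -
    (B 0 1 - B 1 0) * (C 0 1 - C 1 0), ?_⟩
  rw [helper58_blk, Matrix.fromBlocks_multiply, ← Matrix.fromBlocks_one, Matrix.fromBlocks_smul,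
    Matrix.fromBlocks_inj]
  refine ⟨?_, ?_, ?_, ?_⟩
  · ext i j
    fin_cases i <;> fin_cases j <;>
      simp [Matrix.mul_apply, Fin.sum_univ_two, h] <;> ring
  · ext i j
    fin_cases i <;> fin_cases j <;>
      simp [Matrix.mul_apply, Fin.sum_univ_two, h] <;> ring
  · ext i j
    fin_cases i <;> fin_cases j <;>
      simp [Matrix.mul_apply, Fin.sum_univ_two, h] <;> ring
  · ext i j
    fin_cases i <;> fin_cases j <;>
      simp [Matrix.mul_apply, Fin.sum_univ_two, h] <;> ring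

theorem s6_sp_quart {F : Type*} [Field F] (h2 : (2 : F) ≠ 0) (x : GL S6I F) (hx : x ∈ spGL 2 F)
    (h4 : (x : Matrix S6I S6I F) ^ 4 = 1) (hne1 : (x : Matrix S6I S6I F) ^ 2 ≠ 1) (hne2 : (x : Matrix S6I S6I F) ^ 2 ≠ -1) :
    Matrix.trace (x : Matrix S6I S6I F) ≠ 0 := by
  intro htr
  set X : Matrix S6I S6I F := (x : Matrix S6I S6I F) with hX
  have hform : ∀ u v : S6I → F, sympForm 2 F (X *ᵥ u) (X *ᵥ v) = sympForm 2 F u v := hx
  have hJ : Xᵀ * J (Fin 2) F * X = J (Fin 2) F := by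
    ext i j
    have h0 := hform (Pi.single i 1) (Pi.single j 1)
    simp only [sympForm] at h0
    rw [Matrix.mulVec_mulVec, ← Matrix.vecMul_transpose, ← Matrix.dotProduct_mulVec,
      Matrix.mulVec_mulVec] at h0
    simpa [Matrix.mul_assoc] using h0
  set Y : Matrix S6I S6I F := -(J (Fin 2) F * Xᵀ * J (Fin 2) F) with hY
  have hYX : Y * X = 1 := by
    rw [hY, Matrix.neg_mul, Matrix.mul_assoc, Matrix.mul_assoc, ← Matrix.mul_assoc Xᵀ, hJ,
      Matrix.J_squared, neg_neg]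
  have hXY : X * Y = 1 := mul_eq_one_comm.1 hYX
  have hX6 : X ^ 6 = X ^ 2 := by
    have : X ^ 6 = X ^ 4 * X ^ 2 := by rw [← pow_add]
    rw [this, h4, one_mul]
  have hY3 : Y = X ^ 3 := by
    calc Y = Y * (X * X ^ 3) := by rw [← pow_succ', h4, mul_one]
      _ = X ^ 3 := by rw [← mul_assoc, hYX, one_mul]
  have hM : X - J (Fin 2) F * Xᵀ * J (Fin 2) F = X + Y := by rw [hY, sub_eq_add_neg]
  obtain ⟨s, hs⟩ := helper58_sq_scalar X htr
  rw [hM] at hs
  have hsq : (X + Y) * (X + Y) = (2 : F) • X ^ 2 + (2 : F) • (1 : Matrix S6I S6I F) := by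
    have e1 : (X + Y) * (X + Y) = X * X + X * Y + Y * X + Y * Y := by
      rw [add_mul, mul_add, mul_add, ← add_assoc]
    have e2 : Y * Y = X ^ 2 := by rw [hY3, ← pow_add, hX6]
    rw [e1, hXY, hYX, e2, ← pow_two, two_smul, two_smul]
    abel
  have hX2 : X ^ 2 = ((s - 2) / 2) • (1 : Matrix S6I S6I F) := by
    have e3 : (2 : F) • X ^ 2 = (s - 2) • (1 : Matrix S6I S6I F) := by
      rw [sub_smul, ← hs, hsq, add_sub_cancel_right]
    have e4 : X ^ 2 = (2 : F)⁻¹ • ((2 : F) • X ^ 2) := by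
      rw [smul_smul, inv_mul_cancel₀ h2, one_smul]
    rw [e4, e3, smul_smul, div_eq_inv_mul]
  set c : F := (s - 2) / 2 with hc
  have hc2 : c * c = 1 := by
    have e5 : X ^ 4 = (c * c) • (1 : Matrix S6I S6I F) := by
      have : X ^ 4 = X ^ 2 * X ^ 2 := by rw [← pow_add]
      rw [this, hX2, Matrix.smul_mul, Matrix.mul_smul, one_mul, smul_smul]
    rw [h4] at e5
    have e6 := congrFun (congrFun e5 (Sum.inl 0)) (Sum.inl 0)
    simpa using e6.symm
  have hc1 : c = 1 ∨ c = -1 := by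
    have : (c - 1) * (c + 1) = 0 := by linear_combination hc2
    rcases mul_eq_zero.1 this with h | h
    · exact Or.inl (sub_eq_zero.1 h)
    · exact Or.inr (eq_neg_of_add_eq_zero_left h)
  rcases hc1 with h | h
  · apply hne1
    rw [hX2, h, one_smul]
  · apply hne2
    rw [hX2, h, neg_smul, one_smul]

end Cfsg.Agent.Lib.helper24
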