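import Mathlib
import Cfsg.Agent.Lib.helper24.S6eDefs
import Cfsg.Agent.Lib.helper58.S6eAQT

/-!
S6002 split, piece ASQ (`s6_sq`): squares of the elements of `R` are `± 1`.
-/

set_option autoImplicit false

namespace Cfsg.Agent.Lib.helper24

open Matrix Cfsg Cfsg.Geo

theorem s6_sq {F : Type*} [Field F] (h2 : (2 : F) ≠ 0) (R : Subgroup (GL S6I F))
    (hRs : IsSymplecticTypeGroup 2 R) (hRf : R ≤ spGL 2 F)
    (htr : ∀ s ∈ R, (s : Matrix S6I S6I F) ≠ 1 → (s : Matrix S6I S6I F) ≠ -1 → Matrix.trace (s : Matrix S6I S6I F) = 0) :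
    ∀ s ∈ R, (s : Matrix S6I S6I F) * (s : Matrix S6I S6I F) = 1 ∨ (s : Matrix S6I S6I F) * (s : Matrix S6I S6I F) = -1 := by
  intro s hs
  have hexp : Monoid.exponent R = 4 := by
    rw [hRs.exponent_eq]
    rfl
  have hs4 : (⟨s, hs⟩ : R) ^ 4 = 1 := by
    rw [← hexp]
    exact Monoid.pow_exponent_eq_one _
  have hs4g : s ^ 4 = 1 := by
    have h0 := congrArg (Subtype.val : R → GL S6I F) hs4
    simpa using h0
  have hs4' : (s : Matrix S6I S6I F) ^ 4 = 1 := by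
    have h0 := congrArg (fun g : GL S6I F => (g : Matrix S6I S6I F)) hs4g
    simpa using h0
  by_contra hcon
  obtain ⟨hn1, hn2⟩ := not_or.1 hcon
  have hsq1 : (s : Matrix S6I S6I F) ^ 2 ≠ 1 := by
    rw [pow_two]
    exact hn1
  have hsq2 : (s : Matrix S6I S6I F) ^ 2 ≠ -1 := by
    rw [pow_two]
    exact hn2
  have hne1 : (s : Matrix S6I S6I F) ≠ 1 := by
    intro h
    apply hn1
    rw [h, mul_one]
  have hne2 : (s : Matrix S6I S6I F) ≠ -1 := by
    intro h
    apply hn1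
    rw [h, neg_mul_neg, mul_one]
  exact s6_sp_quart h2 s (hRf hs) hs4' hsq1 hsq2 (htr s hs hne1 hne2)

end Cfsg.Agent.Lib.helper24
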