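import Mathlib
import Cfsg.Agent.Lib.helper95.APDefs

/-!
S2276 split, piece PLUMB (`plumb`): permutations `a`, `b` whose cycle types are sub-multisets of
those of `U`, `W` (with enough fixed points) can be realised as the restrictions of `U` and of a
conjugate of `W` to a common invariant subset.
-/

set_option autoImplicit false

namespace Cfsg.Agent.Lib.helper95.AP

open Equiv

/-- A permutation `a` whose cycle type is a sub-multiset of that of `U` (with room for the fixed
points) embeds equivariantly. -/
theorem helper58_embed {α β : Type*} [Fintype α] [DecidableEq α] [Fintype β] [DecidableEq β]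
    (U : Perm β) (a : Perm α) (ha : a.cycleType ≤ U.cycleType)
    (hcard : Fintype.card α + U.support.card ≤ Fintype.card β + a.support.card) :
    ∃ ι : α ↪ β, ∀ i, U (ι i) = ι (a i) := by
  classical
  set D : Multiset ℕ := U.cycleType - a.cycleType with hD
  have hsum : U.cycleType = a.cycleType + D := (add_tsub_cancel_of_le ha).symm
  have hs : U.support.card = a.support.card + D.sum := by
    rw [← Perm.sum_cycleType, ← Perm.sum_cycleType, hsum, Multiset.sum_add]
  have hle : Fintype.card α ≤ Fintype.card β := by omega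
  obtain ⟨ι₀⟩ := Function.Embedding.nonempty_of_card_le hle
  have hcC : Fintype.card {x : β // ¬ (x ∈ Set.range ι₀)} = Fintype.card β - Fintype.card α := by
    rw [Fintype.card_subtype_compl (fun x => x ∈ Set.range ι₀)]
    congr 1
    exact (Fintype.card_congr (Equiv.ofInjective ι₀ ι₀.injective)).symm
  have hD2 : ∀ c ∈ D, 2 ≤ c := by
    intro c hc
    exact Perm.two_le_of_mem_cycleType (Multiset.mem_of_le (Multiset.sub_le_self _ _) hc)
  obtain ⟨ρ, hρ⟩ := (Perm.exists_with_cycleType_iff {x : β // ¬ (x ∈ Set.range ι₀)}).mpr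
    ⟨by rw [hcC]; omega, hD2⟩
  set U₀ : Perm β := a.viaFintypeEmbedding ι₀ * Perm.ofSubtype ρ with hU₀
  have hdisj : Perm.Disjoint (a.viaFintypeEmbedding ι₀) (Perm.ofSubtype ρ) := by
    intro x
    by_cases hx : x ∈ Set.range ι₀
    · right
      exact Perm.ofSubtype_apply_of_not_mem ρ (not_not.2 hx)
    · left
      exact Perm.viaFintypeEmbedding_apply_notMem_range a ι₀ hx
  have hct : U₀.cycleType = U.cycleType := by
    rw [hU₀, hdisj.cycleType_mul, Perm.cycleType_ofSubtype, hρ, hsum]
    congr 1
    exact Perm.cycleType_extendDomain _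
  obtain ⟨h, hh⟩ := isConj_iff.1 (Perm.isConj_iff_cycleType_eq.2 hct)
  refine ⟨ι₀.trans h.toEmbedding, ?_⟩
  intro i
  have h1 : U₀ (ι₀ i) = ι₀ (a i) := by
    rw [hU₀, Perm.mul_apply,
      Perm.ofSubtype_apply_of_not_mem ρ (not_not.2 (Set.mem_range_self i)),
      Perm.viaFintypeEmbedding_apply_image]
  rw [← hh]
  simp only [Function.Embedding.trans_apply, Equiv.coe_toEmbedding, Perm.mul_apply]
  have h2 : h⁻¹ (h (ι₀ i)) = ι₀ i := by
    rw [Perm.inv_eq_iff_eq]
  rw [h2, h1]

theorem plumb {n m : ℕ} (U W : Perm (Fin n)) (a b : Perm (Fin m))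
    (ha : a.cycleType ≤ U.cycleType) (ha' : m - a.support.card ≤ n - U.support.card)
    (hb : b.cycleType ≤ W.cycleType) (hb' : m - b.support.card ≤ n - W.support.card) :
    ∃ (ι : Fin m ↪ Fin n) (g : Perm (Fin n)),
      (∀ i, U (ι i) = ι (a i)) ∧ (∀ i, (g * W * g⁻¹) (ι i) = ι (b i)) := by
  classical
  have ha1 : a.support.card ≤ m := by
    have := Finset.card_le_univ a.support
    simpa using this
  have hb1 : b.support.card ≤ m := by
    have := Finset.card_le_univ b.support
    simpa using this
  have hU1 : U.support.card ≤ n := by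
    have := Finset.card_le_univ U.support
    simpa using this
  have hW1 : W.support.card ≤ n := by
    have := Finset.card_le_univ W.support
    simpa using this
  obtain ⟨ι₁, h₁⟩ := helper58_embed U a ha (by simp only [Fintype.card_fin]; omega)
  obtain ⟨ι₂, h₂⟩ := helper58_embed W b hb (by simp only [Fintype.card_fin]; omega)
  let e : {x : Fin n // x ∈ Set.range ι₂} ≃ {x : Fin n // x ∈ Set.range ι₁} :=
    (Equiv.ofInjective ι₂ ι₂.injective).symm.trans (Equiv.ofInjective ι₁ ι₁.injective)
  have hg : ∀ i, e.extendSubtype (ι₂ i) = ι₁ i := by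
    intro i
    rw [Equiv.extendSubtype_apply_of_mem e (ι₂ i) (Set.mem_range_self i)]
    simp only [e, Equiv.trans_apply]
    rw [Equiv.ofInjective_symm_apply]
    rfl
  refine ⟨ι₁, e.extendSubtype, h₁, ?_⟩
  intro i
  have h3 : (e.extendSubtype)⁻¹ (ι₁ i) = ι₂ i := by
    rw [Perm.inv_eq_iff_eq]
    exact (hg i).symm
  rw [Perm.mul_apply, Perm.mul_apply, h3, h₂, hg]

end Cfsg.Agent.Lib.helper95.AP
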