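import Mathlib
import Cfsg.Agent.Lib.helper58.SU3Sylow

/-!
# Diagonal automorphisms of the Sylow 2-subgroup of `SU 3 F q`

For a group `G` with coordinates `c : UCoord G F q` and `μ : Fˣ`, the map
`(a, b) ↦ (μ a, μ^(q+1) b)` is an automorphism `c.diagAut hF μ` of `G`; this gives a homomorphism
`c.diagAut hF : Fˣ →* MulAut G`.  The subgroup `c.diagK hF` (image of the `μ` with `μ^(q-1) = 1`)
is cyclic and acts regularly on the involutions of `G`.
-/

set_option autoImplicit false

namespace Cfsg.Agent.Lib.helper58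

open Cfsg
open Cfsg.Agent.Lib.helper7

section Diag

variable {F : Type*} [Field F] [Fintype F] {q : ℕ} {G : Type*} [Group G]

theorem UCoord.exists_diag (hF : Fintype.card F = q ^ 2) (c : UCoord G F q) (μ : F) (g : G) :
    ∃ h : G, c.fst h = μ * c.fst g ∧ c.snd h = μ * μ ^ q * c.snd g := by
  apply c.exists_eq
  rw [mul_pow (μ * μ ^ q), frob_norm hF μ, mul_pow μ, ← mul_add, c.rel]
  ring

/-- The endomorphism `(a, b) ↦ (μ a, μ^(q+1) b)`. -/
noncomputable def UCoord.diagHom (hF : Fintype.card F = q ^ 2) (c : UCoord G F q) (μ : F) :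
    G →* G where
  toFun g := Classical.choose (c.exists_diag hF μ g)
  map_one' := by
    have h := Classical.choose_spec (c.exists_diag hF μ 1)
    apply c.ext
    · rw [h.1, c.fst_one, mul_zero]
    · rw [h.2, c.snd_one, mul_zero]
  map_mul' g h := by
    have h1 := Classical.choose_spec (c.exists_diag hF μ (g * h))
    have h2 := Classical.choose_spec (c.exists_diag hF μ g)
    have h3 := Classical.choose_spec (c.exists_diag hF μ h)
    apply c.ext
    · rw [h1.1, c.fst_mul, c.fst_mul, h2.1, h3.1]; ring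
    · rw [h1.2, c.snd_mul, c.snd_mul, h2.2, h3.2, h2.1, h3.1, mul_pow]; ring

theorem UCoord.fst_diagHom (hF : Fintype.card F = q ^ 2) (c : UCoord G F q) (μ : F) (g : G) :
    c.fst (c.diagHom hF μ g) = μ * c.fst g :=
  (Classical.choose_spec (c.exists_diag hF μ g)).1

theorem UCoord.snd_diagHom (hF : Fintype.card F = q ^ 2) (c : UCoord G F q) (μ : F) (g : G) :
    c.snd (c.diagHom hF μ g) = μ * μ ^ q * c.snd g :=
  (Classical.choose_spec (c.exists_diag hF μ g)).2

theorem UCoord.diagHom_mul (hF : Fintype.card F = q ^ 2) (c : UCoord G F q) (μ ν : F) (g : G) :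
    c.diagHom hF (μ * ν) g = c.diagHom hF μ (c.diagHom hF ν g) := by
  apply c.ext
  · rw [c.fst_diagHom, c.fst_diagHom, c.fst_diagHom]; ring
  · rw [c.snd_diagHom, c.snd_diagHom, c.snd_diagHom, mul_pow]; ring

theorem UCoord.diagHom_one (hF : Fintype.card F = q ^ 2) (c : UCoord G F q) (g : G) :
    c.diagHom hF 1 g = g := by
  apply c.ext
  · rw [c.fst_diagHom, one_mul]
  · rw [c.snd_diagHom, one_pow, one_mul, one_mul]

/-- The diagonal automorphisms `(a, b) ↦ (μ a, μ^(q+1) b)`, `μ ∈ Fˣ`. -/
noncomputable def UCoord.diagAut (hF : Fintype.card F = q ^ 2) (c : UCoord G F q) :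
    Fˣ →* MulAut G where
  toFun μ :=
    { toFun := c.diagHom hF (μ : F)
      invFun := c.diagHom hF ((μ⁻¹ : Fˣ) : F)
      left_inv := fun g => by
        rw [← c.diagHom_mul, ← Units.val_mul, inv_mul_cancel, Units.val_one, c.diagHom_one]
      right_inv := fun g => by
        rw [← c.diagHom_mul, ← Units.val_mul, mul_inv_cancel, Units.val_one, c.diagHom_one]
      map_mul' := map_mul _ }
  map_one' := by
    ext g
    exact c.diagHom_one hF g
  map_mul' μ ν := by
    ext g
    exact c.diagHom_mul hF _ _ g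

theorem UCoord.fst_diagAut (hF : Fintype.card F = q ^ 2) (c : UCoord G F q) (μ : Fˣ) (g : G) :
    c.fst (c.diagAut hF μ g) = μ * c.fst g :=
  c.fst_diagHom hF μ g

theorem UCoord.snd_diagAut (hF : Fintype.card F = q ^ 2) (c : UCoord G F q) (μ : Fˣ) (g : G) :
    c.snd (c.diagAut hF μ g) = μ * (μ : F) ^ q * c.snd g :=
  c.snd_diagHom hF μ g

/-- The cyclic group of diagonal automorphisms with `μ` in the subfield of order `q`. -/
noncomputable def UCoord.diagK (hF : Fintype.card F = q ^ 2) (c : UCoord G F q) :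
    Subgroup (MulAut G) :=
  Subgroup.map (c.diagAut hF) (powMonoidHom (q - 1) : Fˣ →* Fˣ).ker

theorem UCoord.isCyclic_diagK (hF : Fintype.card F = q ^ 2) (c : UCoord G F q) :
    IsCyclic (c.diagK hF) := by
  have hs := MonoidHom.subgroupMap_surjective (c.diagAut hF) (powMonoidHom (q - 1) : Fˣ →* Fˣ).ker
  exact isCyclic_of_surjective _ hs

omit [Fintype F] in
theorem sq_injective_of_two (h2 : (2 : F) = 0) {x y : F} (h : x ^ 2 = y ^ 2) : x = y := by
  have h1 : (x - y) ^ 2 = 0 := by linear_combination h + (y ^ 2 - x * y) * h2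
  exact sub_eq_zero.mp (pow_eq_zero_iff (by norm_num) |>.mp h1)

/-- The group `diagK` is regular on the involutions. -/
theorem UCoord.diagK_regular (hF : Fintype.card F = q ^ 2) (h2 : (2 : F) = 0) (c : UCoord G F q)
    (x y : G) (hx1 : x ≠ 1) (hx : x * x = 1) (hy1 : y ≠ 1) (hy : y * y = 1) :
    ∃! k : c.diagK hF, (k : MulAut G) x = y := by
  have hq := two_le_of_card_sq hF
  have hx0 : c.fst x = 0 := (c.sq_eq_one_iff hF h2 x).mp (by rw [pow_two]; exact hx)
  have hy0 : c.fst y = 0 := (c.sq_eq_one_iff hF h2 y).mp (by rw [pow_two]; exact hy)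
  have hbx : c.snd x ≠ 0 := fun h => hx1 ((c.eq_one_iff x).mpr ⟨hx0, h⟩)
  have hby : c.snd y ≠ 0 := fun h => hy1 ((c.eq_one_iff y).mpr ⟨hy0, h⟩)
  have hfx : c.snd x ^ q = c.snd x := by
    have := c.rel x
    rw [hx0, zero_mul] at this
    linear_combination this - c.snd x * h2
  have hfy : c.snd y ^ q = c.snd y := by
    have := c.rel y
    rw [hy0, zero_mul] at this
    linear_combination this - c.snd y * h2
  -- a square root of `snd y / snd x`
  have hsurj : Function.Surjective (fun s : F => s ^ 2) :=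
    Finite.injective_iff_surjective.mp (fun s t h => sq_injective_of_two h2 h)
  obtain ⟨s, hs⟩ := hsurj (c.snd y / c.snd x)
  have hs : s ^ 2 = c.snd y / c.snd x := hs
  have hs0 : s ≠ 0 := by
    rintro rfl
    rw [zero_pow (by norm_num)] at hs
    exact (div_ne_zero hby hbx) hs.symm
  have hsq : s ^ q = s := by
    apply sq_injective_of_two h2
    rw [← pow_mul, mul_comm, pow_mul, hs, div_pow, hfx, hfy]
  have hmem : Units.mk0 s hs0 ∈ (powMonoidHom (q - 1) : Fˣ →* Fˣ).ker := by
    rw [MonoidHom.mem_ker, powMonoidHom_apply]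
    apply Units.ext
    rw [Units.val_pow_eq_pow_val, Units.val_mk0, Units.val_one]
    have h3 : s ^ (q - 1) * s = 1 * s := by
      rw [← pow_succ, Nat.sub_add_cancel (by omega), hsq, one_mul]
    exact mul_right_cancel₀ hs0 h3
  have key : ∀ t : F, t ^ q = t → (t * t ^ q * c.snd x = c.snd y ↔ t = s) := by
    intro t ht
    rw [ht, ← pow_two]
    constructor
    · intro h
      apply sq_injective_of_two h2
      rw [hs, eq_div_iff hbx, h]
    · rintro rfl
      rw [hs, div_mul_cancel₀ _ hbx]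
  refine ⟨⟨c.diagAut hF (Units.mk0 s hs0), Subgroup.mem_map_of_mem _ hmem⟩, ?_, ?_⟩
  · apply c.ext
    · show c.fst (c.diagAut hF (Units.mk0 s hs0) x) = c.fst y
      rw [c.fst_diagAut, hx0, mul_zero, hy0]
    · show c.snd (c.diagAut hF (Units.mk0 s hs0) x) = c.snd y
      rw [c.snd_diagAut, Units.val_mk0]
      exact (key s hsq).mpr rfl
  · rintro ⟨k, hk⟩ hkx
    obtain ⟨μ, hμ, rfl⟩ := Subgroup.mem_map.mp hk
    have hμq : (μ : F) ^ q = μ := by
      rw [MonoidHom.mem_ker, powMonoidHom_apply] at hμ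
      have h3 : ((μ ^ (q - 1) : Fˣ) : F) = 1 := by rw [hμ]; rfl
      rw [Units.val_pow_eq_pow_val] at h3
      calc (μ : F) ^ q = (μ : F) ^ (q - 1) * μ := by
            rw [← pow_succ, Nat.sub_add_cancel (by omega)]
        _ = μ := by rw [h3, one_mul]
    have hkx' : c.snd (c.diagAut hF μ x) = c.snd y := congrArg c.snd hkx
    rw [c.snd_diagAut] at hkx'
    have hμs : (μ : F) = s := (key _ hμq).mp hkx'
    apply Subtype.ext
    show c.diagAut hF μ = c.diagAut hF (Units.mk0 s hs0)
    congr 1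
    exact Units.ext hμs

end Diag

end Cfsg.Agent.Lib.helper58
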