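import Mathlib
import Cfsg.Agent.Lib.helper26.S4409Defs

/-!
S4409 split, piece KFN3 (`kfn3`): if `Aut Y` is a 2-group, an element of odd order normalizing `Y`
centralizes `Y`.
-/

set_option autoImplicit false

namespace Cfsg.Agent.Lib.helper26.S4409

variable {G : Type*} [Group G]

theorem kfn3 [Finite G] (Y : Subgroup G) (h2 : IsPGroup 2 (MulAut ↥Y)) (g : G)
    (hg : g ∈ Subgroup.normalizer (Y : Set G)) (hodd : Odd (orderOf g)) :
    g ∈ Subgroup.centralizer (Y : Set G) := by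
  set φ : MulAut ↥Y := Y.normalizerMonoidHom ⟨g, hg⟩ with hφ
  have h1 : φ ^ orderOf g = 1 := by
    rw [hφ, ← map_pow]
    have : (⟨g, hg⟩ : Subgroup.normalizer (Y : Set G)) ^ orderOf g = 1 := by
      apply Subtype.ext
      simp [pow_orderOf_eq_one]
    rw [this, map_one]
  obtain ⟨k, hk⟩ := h2 φ
  have hc : Nat.Coprime (orderOf g) (2 ^ k) :=
    Nat.Coprime.pow_right k (Nat.coprime_two_right.2 hodd)
  have h3 : orderOf φ = 1 :=
    Nat.Coprime.eq_one_of_dvd (Nat.Coprime.coprime_dvd_left (orderOf_dvd_of_pow_eq_one h1) hc)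
      (orderOf_dvd_of_pow_eq_one hk)
  have h4 : φ = 1 := orderOf_eq_one_iff.1 h3
  have h5 : (⟨g, hg⟩ : Subgroup.normalizer (Y : Set G)) ∈ Y.normalizerMonoidHom.ker := by
    rw [MonoidHom.mem_ker]
    exact h4
  rw [Subgroup.normalizerMonoidHom_ker, Subgroup.mem_subgroupOf] at h5
  exact h5

end Cfsg.Agent.Lib.helper26.S4409
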