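import Cfsg.Agent.Lib.helper81.WTDefs

/-!
# S4414 piece E3 (`fix_bc_le`): fixed points commute with base change (hard inclusion)
-/

set_option autoImplicit false

namespace Cfsg.Agent.Lib.helper81.WT

open scoped TensorProduct

universe u v w

/-- [E3] fixed points commute with base change (hard inclusion) -/
theorem fix_bc_le {S : Type u} [Group S] [Finite S] {E : Type v} [AddCommGroup E] [Module (ZMod 2) E] [Finite E]
    (ρ : Representation (ZMod 2) S E)
    (F : Type w) [Field F] [Finite F] [Algebra (ZMod 2) F] (T : Subgroup S) (v : F ⊗[ZMod 2] E)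
    (hv : v ∈ fixT (bc F ρ) T) :
    v ∈ Submodule.span F ((fun e : E => (1 : F) ⊗ₜ[ZMod 2] e) '' {e : E | ∀ s ∈ T, ρ s e = e}) := by
  classical
  let b := Module.Free.chooseBasis (ZMod 2) F
  let c := TensorProduct.equivFinsuppOfBasisLeft (N := E) b
  have key : ∀ (s : S) (x : F ⊗[ZMod 2] E) (i : Module.Free.ChooseBasisIndex (ZMod 2) F),
      c (bc F ρ s x) i = ρ s (c x i) := by
    intro s x i
    induction x using TensorProduct.induction_on with
    | zero => simp
    | tmul a e =>
      rw [bc_tmul]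
      simp only [c, TensorProduct.equivFinsuppOfBasisLeft_apply_tmul_apply, map_smul]
    | add x y hx hy => simp only [map_add, Finsupp.add_apply, hx, hy]
  have hfix : ∀ i, ∀ s ∈ T, ρ s (c v i) = c v i := by
    intro i s hs
    rw [← key, hv s hs]
  have hv' : v = (c v).sum fun i n => b i ⊗ₜ[ZMod 2] n := by
    rw [← TensorProduct.equivFinsuppOfBasisLeft_symm_apply (N := E) b (c v)]
    exact (LinearEquiv.symm_apply_apply c v).symm
  rw [hv', Finsupp.sum]
  refine Submodule.sum_mem _ fun i _ => ?_
  have h1 : b i ⊗ₜ[ZMod 2] (c v i) = (b i) • ((1 : F) ⊗ₜ[ZMod 2] (c v i)) := by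
    rw [TensorProduct.smul_tmul', smul_eq_mul, mul_one]
  rw [h1]
  exact Submodule.smul_mem _ _ (Submodule.subset_span ⟨c v i, hfix i, rfl⟩)

end Cfsg.Agent.Lib.helper81.WT
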