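import Mathlib
import Cfsg.Agent.Lib.helper58.BSQ8d
import Cfsg.Agent.Lib.helper20.PrincipalIdem
import Cfsg.Agent.Lib.helper82.CharQuot
import Cfsg.Agent.Lib.helper78.KleinBlock

/-!
# Principal 2-block of a group with quaternion Sylow 2-subgroup of order 8, part A (helper58)

Group-theoretic set-up (`q8_no_complement`, `q8t_central`, `q8_two_elt_rep`), the Osima
criterion `sum_pRegular_ne_zero` (a member of the principal block has nonzero sum over the
`p`-regular elements), the comparison of `2`-regular sums along the quotient by a central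
involution, and `q8_principal_x_ne_zero`: a character of the principal `2`-block that is trivial
on the central involution does not vanish at the element `x` of order 4.
-/

set_option autoImplicit false

namespace Cfsg.Agent.Lib.helper58

open Cfsg Cfsg.Agent.Lib.helper20 Cfsg.Agent.Lib.helper81
open Cfsg.Agent.Lib.helper18 (quat_conj_into orderOf_conj_eq')

universe u

section GroupTheory

variable {G : Type u} [Group G] [Finite G] {S : Sylow 2 G}

/-- If `O(G) = 1` and `G ≠ S` then `S` has no normal complement. -/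
theorem q8_no_complement
    (hO : ∀ N : Subgroup G, N.Normal → Odd (Nat.card N) → N = ⊥)
    (hG : (S : Subgroup G) ≠ ⊤) :
    ∀ N : Subgroup G, N.Normal → ¬ Subgroup.IsComplement' N (S : Subgroup G) := by
  intro N hN hc
  have hodd : Odd (Nat.card N) := by
    have h1 := hc.card_mul_card
    have h2 := Subgroup.card_mul_index (S : Subgroup G)
    have h3 : Nat.card N = (S : Subgroup G).index := by
      have hpos : 0 < Nat.card (S : Subgroup G) := Nat.card_pos
      have : Nat.card N * Nat.card (S : Subgroup G)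
          = (S : Subgroup G).index * Nat.card (S : Subgroup G) := by
        rw [h1, mul_comm, h2]
      exact Nat.eq_of_mul_eq_mul_right hpos this
    rw [h3, ← Nat.not_even_iff_odd, even_iff_two_dvd]
    have : Fact (Nat.Prime 2) := ⟨Nat.prime_two⟩
    exact S.not_dvd_index
  have hbot := hO N hN hodd
  rw [hbot] at hc
  exact hG (Subgroup.isComplement'_bot_left.mp hc)

/-- If `O(G) = 1` the involution of a quaternion Sylow 2-subgroup of order 8 is central
(Brauer–Suzuki). -/
theorem q8t_central (e : ↥(S : Subgroup G) ≃* QuaternionGroup 2)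
    (hO : ∀ N : Subgroup G, N.Normal → Odd (Nat.card N) → N = ⊥) :
    ∀ g : G, g * q8t e = q8t e * g := by
  have hcard := q8_center_card e hO
  have : Nontrivial (Subgroup.center G) := by
    rw [← Finite.one_lt_card_iff_nontrivial, hcard]
    norm_num
  obtain ⟨z, hz⟩ := exists_ne (1 : Subgroup.center G)
  have hz2 : (z : G) ^ 2 = 1 := by
    have h := pow_card_eq_one' (G := Subgroup.center G) (x := z)
    rw [hcard] at h
    exact_mod_cast congrArg Subtype.val h
  have hz1 : (z : G) ≠ 1 := fun h => hz (Subtype.ext h)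
  have hzo : orderOf (z : G) = 2 := orderOf_eq_prime hz2 hz1
  obtain ⟨g, hg⟩ := q8_involution_conj e (z : G) hzo
  have hzc := Subgroup.mem_center_iff.mp z.2
  have hzt : (z : G) = q8t e := by
    rw [← hg, hzc g, mul_assoc, mul_inv_cancel, mul_one]
  intro k
  rw [← hzt]
  exact hzc k

/-- Representatives of the classes of `2`-elements. -/
theorem q8_two_elt_rep (e : ↥(S : Subgroup G) ≃* QuaternionGroup 2)
    (hnc : ∀ N : Subgroup G, N.Normal → ¬ Subgroup.IsComplement' N (S : Subgroup G))
    (g : G) (hg : ∃ k : ℕ, orderOf g = 2 ^ k) :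
    IsConj g 1 ∨ IsConj g (q8t e) ∨ IsConj g (q8x e) := by
  have : Fact (Nat.Prime 2) := ⟨Nat.prime_two⟩
  obtain ⟨k, hk⟩ := hg
  have hp : IsPGroup 2 (Subgroup.zpowers g) :=
    IsPGroup.of_card (n := k) (by rw [Nat.card_zpowers, hk])
  obtain ⟨c, hc⟩ := quat_conj_into S _ hp
  have hwS := hc g (Subgroup.mem_zpowers g)
  have hconj : IsConj g (c * g * c⁻¹) := isConj_iff.mpr ⟨c, rfl⟩
  rcases q8_mem_cases e hwS with h | h | h
  · left; rw [← h]; exact hconj
  · right; left; rw [← h]; exact hconj
  · right; right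
    exact hconj.trans (q8_isConj_of_sq e hnc hwS h).symm

end GroupTheory

section Osima

variable {G : Type u} [Group G]

/-- A member of the principal block has nonzero sum over the `p`-regular elements. -/
theorem sum_pRegular_ne_zero [Fintype G] {p : ℕ} [Fact p.Prime] {M : Ideal AlgInt}
    (hM : IsPModular p M) (χ : IrrCharacter G) (hχ : χ ∈ principalBlock M G) :
    ∑ x : G, (if ¬ p ∣ orderOf x then (χ : G → ℂ) x else 0) ≠ 0 := by
  classical
  intro h0
  have h1 := omega_pRegSum hM χ
  rw [if_pos hχ, mul_one] at h1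
  have h2 : omega (χ : G → ℂ) (indAlg (fun y : G => ¬ p ∣ orderOf y)) = 0 := by
    unfold omega
    have : ∑ g : G, (indAlg (fun y : G => ¬ p ∣ orderOf y)).coeff g * (χ : G → ℂ) g
        = ∑ x : G, (if ¬ p ∣ orderOf x then (χ : G → ℂ) x else 0) := by
      apply Finset.sum_congr rfl
      intro g _
      rw [coeff_indAlg]
      split_ifs <;> simp
    rw [this, h0, zero_div]
  rw [h2, zero_sub] at h1
  have h3 := memLocalIdeal_neg h1
  rw [neg_neg] at h3
  exact not_memLocalIdeal_pRegCount hM h3

end Osima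

section Quot

variable {G : Type u} [Group G]

theorem zpowers_involution_cases {t : G} (ht : t * t = 1) {n : G}
    (hn : n ∈ Subgroup.zpowers t) : n = 1 ∨ n = t := by
  obtain ⟨k, rfl⟩ := Subgroup.mem_zpowers_iff.mp hn
  have h2 : t ^ (2 : ℤ) = 1 := by
    rw [show (2 : ℤ) = ((2 : ℕ) : ℤ) by norm_num, zpow_natCast, pow_two, ht]
  rcases Int.even_or_odd k with ⟨j, rfl⟩ | ⟨j, rfl⟩
  · left
    rw [← two_mul, zpow_mul, h2, one_zpow]
  · right
    rw [zpow_add, zpow_mul, h2, one_zpow, one_mul, zpow_one]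

theorem zpowers_normal_of_central {t : G} (htc : ∀ g : G, g * t = t * g) :
    (Subgroup.zpowers t).Normal := by
  refine ⟨fun n hn g => ?_⟩
  obtain ⟨k, rfl⟩ := Subgroup.mem_zpowers_iff.mp hn
  have h : g * t ^ k * g⁻¹ = t ^ k := by
    have hc : Commute g (t ^ k) := (show Commute g t from htc g).zpow_right k
    rw [hc.eq, mul_assoc, mul_inv_cancel, mul_one]
  rw [h]
  exact Subgroup.zpow_mem_zpowers t k

/-- The sum over the `2`-regular elements of a function inflated from the quotient by a
central involution. -/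
theorem sum_pRegular_quotient [Fintype G] (t : G) (ht : t * t = 1) (ht1 : t ≠ 1)
    (htc : ∀ g : G, g * t = t * g) [hN : (Subgroup.zpowers t).Normal]
    [Fintype (G ⧸ Subgroup.zpowers t)] (f : G ⧸ Subgroup.zpowers t → ℂ) :
    ∑ y : G, (if ¬ 2 ∣ orderOf y then f (y : G ⧸ Subgroup.zpowers t) else 0)
      = ∑ q : G ⧸ Subgroup.zpowers t, (if ¬ 2 ∣ orderOf q then f q else 0) := by
  classical
  have hto : orderOf t = 2 := orderOf_eq_prime (by rw [pow_two]; exact ht) ht1
  have htodd : ∀ m : ℕ, ¬ 2 ∣ m → t ^ m = t := by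
    intro m hm
    obtain ⟨j, rfl⟩ : Odd m := by rwa [← Nat.not_even_iff_odd, even_iff_two_dvd]
    rw [pow_succ, pow_mul, pow_two, ht, one_pow, one_mul]
  rw [← Finset.sum_filter, ← Finset.sum_filter]
  refine Finset.sum_bij (fun y _ => (y : G ⧸ Subgroup.zpowers t)) ?_ ?_ ?_ ?_
  · intro y hy
    rw [Finset.mem_filter] at hy ⊢
    exact ⟨Finset.mem_univ _, fun h => hy.2 (h.trans
      (orderOf_map_dvd (QuotientGroup.mk' (Subgroup.zpowers t)) y))⟩
  · intro y₁ h₁ y₂ h₂ heq
    rw [Finset.mem_filter] at h₁ h₂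
    have hmem : y₁⁻¹ * y₂ ∈ Subgroup.zpowers t := QuotientGroup.eq.mp heq
    rcases zpowers_involution_cases ht hmem with h | h
    · exact (inv_mul_eq_one.mp h)
    · exfalso
      have hy2 : y₂ = y₁ * t := by rw [← h]; group
      have hc : Commute y₁ t := htc y₁
      have h3 : y₂ ^ (orderOf y₁ * orderOf y₂) = t ^ (orderOf y₁ * orderOf y₂) := by
        nth_rewrite 1 [hy2]
        rw [hc.mul_pow, pow_mul, pow_orderOf_eq_one, one_pow, one_mul]
      rw [mul_comm, pow_mul, pow_orderOf_eq_one, one_pow] at h3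
      have h4 : orderOf t ∣ orderOf y₂ * orderOf y₁ := orderOf_dvd_of_pow_eq_one h3.symm
      rw [hto] at h4
      rcases (Nat.Prime.dvd_mul Nat.prime_two).mp h4 with h5 | h5
      · exact h₂.2 h5
      · exact h₁.2 h5
  · intro q hq
    rw [Finset.mem_filter] at hq
    obtain ⟨g, rfl⟩ := QuotientGroup.mk_surjective q
    have hm : g ^ orderOf (g : G ⧸ Subgroup.zpowers t) ∈ Subgroup.zpowers t := by
      rw [← QuotientGroup.eq_one_iff, QuotientGroup.mk_pow, pow_orderOf_eq_one]
    rcases zpowers_involution_cases ht hm with h | h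
    · refine ⟨g, ?_, rfl⟩
      rw [Finset.mem_filter]
      exact ⟨Finset.mem_univ _, fun h2 => hq.2 (h2.trans (orderOf_dvd_of_pow_eq_one h))⟩
    · refine ⟨g * t, ?_, ?_⟩
      · rw [Finset.mem_filter]
        refine ⟨Finset.mem_univ _, fun h2 => hq.2 (h2.trans (orderOf_dvd_of_pow_eq_one ?_))⟩
        have hc : Commute g t := htc g
        rw [hc.mul_pow, h, htodd _ hq.2, ht]
      · show ((g * t : G) : G ⧸ Subgroup.zpowers t) = (g : G ⧸ Subgroup.zpowers t)
        rw [QuotientGroup.mk_mul]
        have : ((t : G) : G ⧸ Subgroup.zpowers t) = 1 :=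
          (QuotientGroup.eq_one_iff t).mpr (Subgroup.mem_zpowers t)
        rw [this, mul_one]
  · intro y _
    rfl

end Quot

section Main

variable {G : Type u} [Group G] [Finite G] {S : Sylow 2 G}

/-- Two elements of a quaternion Sylow 2-subgroup of order 8 commute modulo the involution. -/
theorem q8_comm_mod (e : ↥(S : Subgroup G) ≃* QuaternionGroup 2) {r s : G}
    (hr : r ∈ (S : Subgroup G)) (hs : s ∈ (S : Subgroup G)) :
    r * s = s * r ∨ r * s = q8t e * (s * r) := by
  have key : ∀ a b : QuaternionGroup 2, a * b = b * a ∨ a * b = QuaternionGroup.a 2 * (b * a) := by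
    decide
  rcases key (e ⟨r, hr⟩) (e ⟨s, hs⟩) with h | h
  · left
    rw [← map_mul, ← map_mul] at h
    exact congrArg Subtype.val (e.injective h)
  · right
    have h' : e (⟨r, hr⟩ * ⟨s, hs⟩)
        = e (e.symm (QuaternionGroup.a 2) * (⟨s, hs⟩ * ⟨r, hr⟩)) := by
      rw [map_mul, map_mul, map_mul, e.apply_symm_apply]
      exact h
    exact congrArg Subtype.val (e.injective h')

/-- A character of the principal `2`-block which is trivial on the central involution `t` does
not vanish at `x`. -/
theorem q8_principal_x_ne_zero {M : Ideal AlgInt} (hM : IsPModular 2 M)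
    (e : ↥(S : Subgroup G) ≃* QuaternionGroup 2)
    (htc : ∀ g : G, g * q8t e = q8t e * g)
    (χ : IrrCharacter G) (hχ : χ ∈ principalBlock M G)
    (hχt : (χ : G → ℂ) (q8t e) = (χ : G → ℂ) 1) :
    (χ : G → ℂ) (q8x e) ≠ 0 := by
  classical
  letI : Fintype G := Fintype.ofFinite G
  have hF2 : Fact (Nat.Prime 2) := ⟨Nat.prime_two⟩
  have ht : q8t e * q8t e = 1 := by rw [← pow_two]; exact q8t_sq e
  have ht1 : q8t e ≠ 1 := q8t_ne_one e
  have hN : (Subgroup.zpowers (q8t e)).Normal := zpowers_normal_of_central htc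
  letI : Fintype (G ⧸ Subgroup.zpowers (q8t e)) := Fintype.ofFinite _
  obtain ⟨ψ, hψ, hψχ⟩ := Cfsg.Agent.Lib.helper82.isIrrCharacter_deflation
    (Subgroup.zpowers (q8t e)) χ.2 (fun n hn => by
      rcases zpowers_involution_cases ht hn with h | h
      · rw [h]
      · rw [h]; exact hχt)
  have hψB : (⟨ψ, hψ⟩ : IrrCharacter (G ⧸ Subgroup.zpowers (q8t e)))
      ∈ principalBlock M (G ⧸ Subgroup.zpowers (q8t e)) := by
    by_contra hnot
    have h0 := sum_pRegular_irr_eq_zero hM
      (⟨ψ, hψ⟩ : IrrCharacter (G ⧸ Subgroup.zpowers (q8t e))) hnot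
    have h1 := sum_pRegular_quotient (q8t e) ht ht1 htc ψ
    have h2 := sum_pRegular_ne_zero hM χ hχ
    apply h2
    have h3 : ∑ x : G, (if ¬ 2 ∣ orderOf x then (χ : G → ℂ) x else 0)
        = ∑ y : G, (if ¬ 2 ∣ orderOf y then ψ (y : G ⧸ Subgroup.zpowers (q8t e)) else 0) := by
      apply Finset.sum_congr rfl
      intro y _
      rw [hψχ]
    rw [h3, h1]
    convert h0 using 2
  have hodd : ¬ 2 ∣ (Subgroup.centralizer
      ({((q8x e : G) : G ⧸ Subgroup.zpowers (q8t e))} : Set (G ⧸ Subgroup.zpowers (q8t e)))).index := by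
    have hle : (S : Subgroup G).map (QuotientGroup.mk' (Subgroup.zpowers (q8t e)))
        ≤ Subgroup.centralizer
          ({((q8x e : G) : G ⧸ Subgroup.zpowers (q8t e))} : Set (G ⧸ Subgroup.zpowers (q8t e))) := by
      rintro _ ⟨s, hs, rfl⟩
      rw [Subgroup.mem_centralizer_singleton_iff]
      show ((s : G) : G ⧸ Subgroup.zpowers (q8t e)) * ((q8x e : G) : G ⧸ Subgroup.zpowers (q8t e))
        = ((q8x e : G) : G ⧸ Subgroup.zpowers (q8t e)) * ((s : G) : G ⧸ Subgroup.zpowers (q8t e))
      rw [← QuotientGroup.mk_mul, ← QuotientGroup.mk_mul]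
      rcases q8_comm_mod e hs (q8x_mem e) with h | h
      · rw [h]
      · rw [h, QuotientGroup.mk_mul]
        have : ((q8t e : G) : G ⧸ Subgroup.zpowers (q8t e)) = 1 :=
          (QuotientGroup.eq_one_iff _).mpr (Subgroup.mem_zpowers _)
        rw [this, one_mul]
    intro h2
    have h3 := Subgroup.index_dvd_of_le hle
    have h4 := Subgroup.index_map_dvd (S : Subgroup G)
      (QuotientGroup.mk'_surjective (Subgroup.zpowers (q8t e)))
    exact S.not_dvd_index (h2.trans (h3.trans h4))
  have hfin := Cfsg.Agent.Lib.helper78.principal_ne_zero_of_index hM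
    ((q8x e : G) : G ⧸ Subgroup.zpowers (q8t e)) hodd ⟨ψ, hψ⟩ hψB
  rw [← hψχ]
  exact hfin

end Main

end Cfsg.Agent.Lib.helper58
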