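import Mathlib
import Cfsg.Agent.Lib.helper58.Q8BlockA
import Cfsg.Agent.Lib.helper84.Frobenius
import Cfsg.Agent.Lib.helper82.CharDeg
import Cfsg.Agent.Lib.helper20.NormalIdem

/-!
# Characters of degree prime to `p` in the principal block lying over a given character (helper58)

* `pRegular_sum_sub_mem`: the Osima congruence `∑_{x p-regular} χ(x) ≡ χ(1) · #{p-regular} · [χ ∈ B₀]`.
* `pRegular_sum_restrict`: `|G| ∑_{h ∈ H p-reg} η(h) = |H| ∑_χ ⟨χ_H, η⟩ ∑_{x ∈ G p-reg} χ(x)`.
* `exists_principal_pPrime_over`: if `H ≤ G` has index prime to `p` and `η ∈ B₀(H)` has degree prime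
  to `p`, some `χ ∈ B₀(G)` of degree prime to `p` lies over `η`.
* `mem_principalBlock_of_pRegular_le`: an extension to `K` of a member of `B₀(N)` lies in `B₀(K)`
  when all `p`-regular elements of `K` lie in `N`.
* `classInner_restrict_ne_zero`: transitivity of "lying over" along `N ≤ H ≤ G` for an extension.
-/

set_option autoImplicit false

namespace Cfsg.Agent.Lib.helper58

open Cfsg Cfsg.Agent.Lib.helper20 Cfsg.Agent.Lib.helper81
open scoped ComplexConjugate

universe u

section

variable {G : Type u} [Group G]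

/-- A natural number prime to `p` is not in the local ideal. -/
theorem not_memLocalIdeal_natCast_of_coprime {p : ℕ} {M : Ideal AlgInt} (hM : IsPModular p M)
    {n : ℕ} (hn : n.Coprime p) : ¬ MemLocalIdeal M (n : ℂ) := by
  intro h
  have h1 : MemLocalIdeal M (((n : AlgInt) : AlgInt) : ℂ) := by
    simpa using h
  exact natCast_not_mem_of_coprime hM hn (mem_of_memLocalIdeal_coe hM.2.1.isPrime h1)

/-- A natural number divisible by `p` is in the local ideal. -/
theorem memLocalIdeal_natCast_of_dvd {p : ℕ} {M : Ideal AlgInt} (hM : IsPModular p M)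
    {n : ℕ} (hn : p ∣ n) : MemLocalIdeal M (n : ℂ) := by
  have hMp : M.IsPrime := hM.2.1.isPrime
  obtain ⟨k, rfl⟩ := hn
  have hp : MemLocalIdeal M (p : ℂ) := by
    have h := memLocalIdeal_of_mem hMp hM.2.2
    simpa using h
  rw [Nat.cast_mul]
  exact memLocalIdeal_mul_right hMp hp (memLocalRing_natCast hMp k)

open Classical in
/-- The Osima congruence for the sum of an irreducible character over the `p`-regular
elements. -/
theorem pRegular_sum_sub_mem [Fintype G] {p : ℕ} [Fact p.Prime] {M : Ideal AlgInt}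
    (hM : IsPModular p M) (χ : IrrCharacter G) :
    MemLocalIdeal M ((∑ x : G, (if ¬ p ∣ orderOf x then (χ : G → ℂ) x else 0))
      - (χ : G → ℂ) 1 * (pRegCount (G := G) p * (if χ ∈ principalBlock M G then 1 else 0))) := by
  have hMp : M.IsPrime := hM.2.1.isPrime
  have h1 := omega_pRegSum hM χ
  have h2 : omega (χ : G → ℂ) (indAlg (fun y : G => ¬ p ∣ orderOf y))
      = (∑ x : G, (if ¬ p ∣ orderOf x then (χ : G → ℂ) x else 0)) / (χ : G → ℂ) 1 := by
    unfold omega
    congr 1
    apply Finset.sum_congr rfl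
    intro g _
    rw [coeff_indAlg]
    split_ifs <;> simp
  rw [h2] at h1
  have h10 : (χ : G → ℂ) 1 ≠ 0 := irr_one_ne_zero χ
  have h3 : MemLocalRing M ((χ : G → ℂ) 1) := by
    rw [Cfsg.Agent.Lib.helper82.irr_one_eq χ]
    exact memLocalRing_natCast hMp _
  have h4 := memLocalIdeal_mul_left hMp h3 h1
  convert h4 using 1
  field_simp

/-- The sum of an irreducible character against the indicator of the `p`-regular elements can be
taken with a complex conjugate. -/
theorem sum_pRegular_conj [Fintype G] (p : ℕ) (χ : IrrCharacter G) :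
    ∑ x : G, (if ¬ p ∣ orderOf x then (1 : ℂ) else 0) * conj ((χ : G → ℂ) x)
      = ∑ x : G, (if ¬ p ∣ orderOf x then (χ : G → ℂ) x else 0) := by
  rw [← Equiv.sum_comp (Equiv.inv G)]
  refine Finset.sum_congr rfl (fun x _ => ?_)
  rw [Equiv.inv_apply, orderOf_inv, irr_inv, Complex.conj_conj]
  split_ifs <;> simp

/-- Restriction of the `p`-regular sums: for `H ≤ G` and `η ∈ Irr(H)` with multiplicities
`m χ = ⟨χ_H, η⟩`. -/
theorem pRegular_sum_restrict [Fintype G] (H : Subgroup G) [Fintype H] (p : ℕ)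
    (η : IrrCharacter H) (m : IrrCharacter G → ℕ)
    (hm : ∀ χ : IrrCharacter G,
      classInner (fun h : H => (χ : G → ℂ) h) (η : H → ℂ) = m χ) :
    (Nat.card G : ℂ) * ∑ h : H, (if ¬ p ∣ orderOf h then (η : H → ℂ) h else 0)
      = (Nat.card H : ℂ) * ∑ χ : IrrCharacter G, (m χ : ℂ) *
          ∑ x : G, (if ¬ p ∣ orderOf x then (χ : G → ℂ) x else 0) := by
  classical
  have hG0 : (Nat.card G : ℂ) ≠ 0 := by
    have : 0 < Nat.card G := Nat.card_pos
    exact_mod_cast this.ne'
  have hH0 : (Nat.card H : ℂ) ≠ 0 := by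
    have : 0 < Nat.card H := Nat.card_pos
    exact_mod_cast this.ne'
  obtain ⟨φ, hφ⟩ : ∃ φ : G → ℂ, φ = fun g => if ¬ p ∣ orderOf g then (1 : ℂ) else 0 := ⟨_, rfl⟩
  have hφapp : ∀ g, φ g = if ¬ p ∣ orderOf g then (1 : ℂ) else 0 := fun g => by rw [hφ]
  have hφcf : IsClassFunction G φ := by
    intro g h
    rw [hφapp, hφapp]
    exact if_congr (pReg_conj_iff p g h) rfl rfl
  have hexp := Cfsg.Agent.Lib.helper83.classFunction_expansion φ hφcf
  have hSG : ∀ χ : IrrCharacter G, ∑ x : G, φ x * conj ((χ : G → ℂ) x)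
      = ∑ x : G, (if ¬ p ∣ orderOf x then (χ : G → ℂ) x else 0) := by
    intro χ
    rw [← sum_pRegular_conj p χ]
    exact Finset.sum_congr rfl (fun x _ => by rw [hφapp])
  have hSH : ∑ h : H, φ (h : G) * conj ((η : H → ℂ) h)
      = ∑ h : H, (if ¬ p ∣ orderOf h then (η : H → ℂ) h else 0) := by
    rw [← sum_pRegular_conj p η]
    exact Finset.sum_congr rfl (fun x _ => by rw [hφapp, Subgroup.orderOf_coe])
  have hinner : ∀ χ : IrrCharacter G, ∑ h : H, (χ : G → ℂ) h * conj ((η : H → ℂ) h)
      = (Nat.card H : ℂ) * (m χ : ℂ) := by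
    intro χ
    have h1 := hm χ
    rw [Cfsg.Agent.Lib.helper83.classInner_def] at h1
    rw [← h1, ← mul_assoc, mul_inv_cancel₀ hH0, one_mul]
  have hmain : ∑ h : H, φ (h : G) * conj ((η : H → ℂ) h)
      = ∑ χ : IrrCharacter G, ((Nat.card G : ℂ)⁻¹ *
          ∑ x : G, (if ¬ p ∣ orderOf x then (χ : G → ℂ) x else 0))
          * ((Nat.card H : ℂ) * (m χ : ℂ)) := by
    have e1 : ∀ h : H, φ (h : G) * conj ((η : H → ℂ) h)
        = ∑ χ : IrrCharacter G, ((Nat.card G : ℂ)⁻¹ *
          ∑ x : G, (if ¬ p ∣ orderOf x then (χ : G → ℂ) x else 0))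
          * ((χ : G → ℂ) h * conj ((η : H → ℂ) h)) := by
      intro h
      rw [hexp (h : G), Finset.sum_mul]
      refine Finset.sum_congr rfl (fun χ _ => ?_)
      rw [hSG χ]
      ring
    rw [Finset.sum_congr rfl (fun h _ => e1 h), Finset.sum_comm]
    refine Finset.sum_congr rfl (fun χ _ => ?_)
    rw [← Finset.mul_sum, hinner χ]
  rw [← hSH, hmain, Finset.mul_sum, Finset.mul_sum]
  refine Finset.sum_congr rfl (fun χ _ => ?_)
  field_simp

/-- If `H ≤ G` has index prime to `p` and `η` is a member of the principal block of `H` of degree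
prime to `p`, then some member of the principal block of `G` of degree prime to `p` lies over
`η`. -/
theorem exists_principal_pPrime_over [Finite G] {p : ℕ} [Fact p.Prime] {M : Ideal AlgInt}
    (hM : IsPModular p M) (H : Subgroup G) [Fintype H] (hidx : ¬ p ∣ H.index)
    (η : IrrCharacter H) (hη : η ∈ principalBlock M H)
    (hdeg : ¬ p ∣ charDegree (η : H → ℂ)) :
    ∃ χ : IrrCharacter G, χ ∈ principalBlock M G ∧ ¬ p ∣ charDegree (χ : G → ℂ) ∧
      classInner (fun h : H => (χ : G → ℂ) h) (η : H → ℂ) ≠ 0 := by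
  classical
  let _ : Fintype G := Fintype.ofFinite G
  have hMp : M.IsPrime := hM.2.1.isPrime
  have hpp : p.Prime := Fact.out
  choose m hm using fun χ : IrrCharacter G =>
    Cfsg.Agent.Lib.helper84.classInner_isCharacter_nat
      (Cfsg.Agent.Lib.helper84.isCharacter_restrict H
        (Cfsg.Agent.Lib.helper83.isCharacter_of_irr χ.2))
      (Cfsg.Agent.Lib.helper83.isCharacter_of_irr η.2)
  by_contra hcon
  have hdvd : ∀ χ : IrrCharacter G, χ ∈ principalBlock M G →
      p ∣ m χ * charDegree (χ : G → ℂ) := by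
    intro χ hχ
    by_cases hd : p ∣ charDegree (χ : G → ℂ)
    · exact Dvd.dvd.mul_left hd _
    · have h0 : m χ = 0 := by
        by_contra hne
        apply hcon
        refine ⟨χ, hχ, hd, ?_⟩
        rw [hm χ]
        exact_mod_cast hne
      rw [h0, zero_mul]
      exact dvd_zero p
  have hstar := pRegular_sum_restrict H p η m hm
  have hG0 : (Nat.card G : ℂ) ≠ 0 := by
    have : 0 < Nat.card G := Nat.card_pos
    exact_mod_cast this.ne'
  have hH0 : (Nat.card H : ℂ) ≠ 0 := by
    have : 0 < Nat.card H := Nat.card_pos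
    exact_mod_cast this.ne'
  have hcard : (Nat.card G : ℂ) = (H.index : ℂ) * (Nat.card H : ℂ) := by
    rw [← Nat.cast_mul, Subgroup.index_mul_card]
  have hstar' : (H.index : ℂ) * ∑ h : H, (if ¬ p ∣ orderOf h then (η : H → ℂ) h else 0)
      = ∑ χ : IrrCharacter G, (m χ : ℂ) *
          ∑ x : G, (if ¬ p ∣ orderOf x then (χ : G → ℂ) x else 0) := by
    rw [hcard, mul_assoc, mul_comm (Nat.card H : ℂ), ← mul_assoc] at hstar
    exact mul_right_cancel₀ hH0 (by rw [hstar]; ring)
  -- congruences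
  have hJH := pRegular_sum_sub_mem hM η
  rw [if_pos hη, mul_one] at hJH
  have hJG := fun χ : IrrCharacter G => pRegular_sum_sub_mem hM χ
  have h1 : MemLocalIdeal M ((H.index : ℂ) *
      ((∑ h : H, (if ¬ p ∣ orderOf h then (η : H → ℂ) h else 0))
        - (η : H → ℂ) 1 * pRegCount (G := H) p)) :=
    memLocalIdeal_mul_left hMp (memLocalRing_natCast hMp _) hJH
  have h2 : MemLocalIdeal M (∑ χ : IrrCharacter G, (m χ : ℂ) *
      ((∑ x : G, (if ¬ p ∣ orderOf x then (χ : G → ℂ) x else 0))
        - (χ : G → ℂ) 1 * (pRegCount (G := G) p *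
          (if χ ∈ principalBlock M G then 1 else 0)))) :=
    memLocalIdeal_sum hMp _ _ (fun χ _ =>
      memLocalIdeal_mul_left hMp (memLocalRing_natCast hMp _) (hJG χ))
  have h3 : MemLocalIdeal M (∑ χ : IrrCharacter G, (m χ : ℂ) *
      ((χ : G → ℂ) 1 * (pRegCount (G := G) p *
          (if χ ∈ principalBlock M G then 1 else 0)))) := by
    apply memLocalIdeal_sum hMp
    intro χ _
    split_ifs with hχ
    · have e : (m χ : ℂ) * ((χ : G → ℂ) 1 * (pRegCount (G := G) p * 1))
          = ((m χ * charDegree (χ : G → ℂ) : ℕ) : ℂ) * pRegCount (G := G) p := by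
        rw [Cfsg.Agent.Lib.helper82.irr_one_eq χ]
        push_cast
        ring
      rw [e]
      exact memLocalIdeal_mul_right hMp (memLocalIdeal_natCast_of_dvd hM (hdvd χ hχ))
        (memLocalRing_pRegCount hMp p)
    · rw [mul_zero, mul_zero, mul_zero]
      exact memLocalIdeal_zero hMp
  have h4 : MemLocalIdeal M ((H.index : ℂ) * ((η : H → ℂ) 1 * pRegCount (G := H) p)) := by
    have e : (H.index : ℂ) * ((η : H → ℂ) 1 * pRegCount (G := H) p)
        = (∑ χ : IrrCharacter G, (m χ : ℂ) *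
            ((∑ x : G, (if ¬ p ∣ orderOf x then (χ : G → ℂ) x else 0))
              - (χ : G → ℂ) 1 * (pRegCount (G := G) p *
                (if χ ∈ principalBlock M G then 1 else 0))))
          + (∑ χ : IrrCharacter G, (m χ : ℂ) *
              ((χ : G → ℂ) 1 * (pRegCount (G := G) p *
                (if χ ∈ principalBlock M G then 1 else 0))))
          - (H.index : ℂ) *
            ((∑ h : H, (if ¬ p ∣ orderOf h then (η : H → ℂ) h else 0))
              - (η : H → ℂ) 1 * pRegCount (G := H) p) := by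
      rw [← Finset.sum_add_distrib, mul_sub, hstar']
      have e' : ∀ χ : IrrCharacter G, (m χ : ℂ) *
            ((∑ x : G, (if ¬ p ∣ orderOf x then (χ : G → ℂ) x else 0))
              - (χ : G → ℂ) 1 * (pRegCount (G := G) p *
                (if χ ∈ principalBlock M G then 1 else 0)))
          + (m χ : ℂ) * ((χ : G → ℂ) 1 * (pRegCount (G := G) p *
                (if χ ∈ principalBlock M G then 1 else 0)))
          = (m χ : ℂ) * ∑ x : G, (if ¬ p ∣ orderOf x then (χ : G → ℂ) x else 0) :=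
        fun χ => by ring
      rw [Finset.sum_congr rfl (fun χ _ => e' χ)]
      ring
    rw [e]
    exact memLocalIdeal_sub hMp (memLocalIdeal_add hMp h2 h3) h1
  -- contradiction
  have hη1 : (η : H → ℂ) 1 = (charDegree (η : H → ℂ) : ℂ) :=
    Cfsg.Agent.Lib.helper82.irr_one_eq η
  rw [hη1] at h4
  have hc1 : ¬ MemLocalIdeal M (H.index : ℂ) :=
    not_memLocalIdeal_natCast_of_coprime hM ((Nat.Prime.coprime_iff_not_dvd hpp).mpr hidx).symm
  have hc2 : ¬ MemLocalIdeal M (charDegree (η : H → ℂ) : ℂ) :=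
    not_memLocalIdeal_natCast_of_coprime hM ((Nat.Prime.coprime_iff_not_dvd hpp).mpr hdeg).symm
  have hc3 : ¬ MemLocalIdeal M (pRegCount (G := H) p) := not_memLocalIdeal_pRegCount hM
  exact not_memLocalIdeal_mul hMp (memLocalRing_natCast hMp _)
    (memLocalRing_mul hMp (memLocalRing_natCast hMp _) (memLocalRing_pRegCount hMp p)) hc1
    (not_memLocalIdeal_mul hMp (memLocalRing_natCast hMp _) (memLocalRing_pRegCount hMp p)
      hc2 hc3) h4

/-- If all `p`-regular elements of `K` lie in `N ≤ K`, an extension to `K` of a member of the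
principal block of `N` lies in the principal block of `K`. -/
theorem mem_principalBlock_of_pRegular_le {p : ℕ} [Fact p.Prime] {M : Ideal AlgInt}
    (hM : IsPModular p M) (N K : Subgroup G) [Finite K] (hNK : N ≤ K)
    (hreg : ∀ k ∈ K, ¬ p ∣ orderOf k → k ∈ N)
    (θ : IrrCharacter N) (hθ : θ ∈ principalBlock M N) (η : IrrCharacter K)
    (hη : ∀ n : N, (η : K → ℂ) (Subgroup.inclusion hNK n) = (θ : N → ℂ) n) :
    η ∈ principalBlock M K := by
  classical
  let _ : Fintype K := Fintype.ofFinite K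
  have hfinN : Finite N :=
    Finite.of_injective (Subgroup.inclusion hNK) (Subgroup.inclusion_injective hNK)
  let _ : Fintype N := Fintype.ofFinite N
  by_contra hnot
  have h0 := sum_pRegular_irr_eq_zero hM η hnot
  apply sum_pRegular_ne_zero hM θ hθ
  refine Eq.trans ?_ h0
  rw [← Finset.sum_filter, ← Finset.sum_filter]
  have hord : ∀ n : N, orderOf (Subgroup.inclusion hNK n) = orderOf n := fun n =>
    orderOf_injective (Subgroup.inclusion hNK) (Subgroup.inclusion_injective hNK) n
  refine Finset.sum_bij (fun n _ => Subgroup.inclusion hNK n) ?_ ?_ ?_ ?_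
  · intro n hn
    rw [Finset.mem_filter] at hn ⊢
    exact ⟨Finset.mem_univ _, by rw [hord]; exact hn.2⟩
  · intro n₁ _ n₂ _ h
    exact Subgroup.inclusion_injective hNK h
  · intro k hk
    rw [Finset.mem_filter] at hk
    have hkN : (k : G) ∈ N := hreg k k.2 (by rw [Subgroup.orderOf_coe]; exact hk.2)
    refine ⟨⟨(k : G), hkN⟩, ?_, Subtype.ext rfl⟩
    rw [Finset.mem_filter]
    refine ⟨Finset.mem_univ _, ?_⟩
    rw [← Subgroup.orderOf_coe]
    show ¬ p ∣ orderOf (k : G)
    rw [Subgroup.orderOf_coe]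
    exact hk.2
  · intro n _
    exact (hη n).symm

/-- If `η ∈ Irr(H)` extends `θ ∈ Irr(N)` and `χ` lies over `η`, then `χ` lies over `θ`. -/
theorem classInner_restrict_ne_zero [Finite G] (N H : Subgroup G) (hNH : N ≤ H) [Fintype N]
    [Fintype H] (χ : IrrCharacter G) (η : IrrCharacter H) (θ : IrrCharacter N)
    (hη : ∀ n : N, (η : H → ℂ) (Subgroup.inclusion hNH n) = (θ : N → ℂ) n)
    (h : classInner (fun h : H => (χ : G → ℂ) h) (η : H → ℂ) ≠ 0) :
    classInner (fun n : N => (χ : G → ℂ) n) (θ : N → ℂ) ≠ 0 := by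
  classical
  obtain ⟨m, hm1, hm2, -⟩ := Cfsg.Agent.Lib.helper82.exists_nat_decomp
    (Cfsg.Agent.Lib.helper84.isCharacter_restrict H
      (Cfsg.Agent.Lib.helper83.isCharacter_of_irr χ.2))
  have hres : ∀ ξ : IrrCharacter H,
      IsCharacter N (fun n : N => (ξ : H → ℂ) (Subgroup.inclusion hNH n)) := by
    intro ξ
    obtain ⟨k, ρ, _, hρ⟩ := ξ.2
    exact ⟨k, ρ.comp (Subgroup.inclusion hNH), by rw [← hρ]; rfl⟩
  choose k hk using fun ξ : IrrCharacter H =>
    Cfsg.Agent.Lib.helper84.classInner_isCharacter_nat (hres ξ)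
      (Cfsg.Agent.Lib.helper83.isCharacter_of_irr θ.2)
  have hN0 : (Nat.card N : ℂ) ≠ 0 := by
    have : 0 < Nat.card N := Nat.card_pos
    exact_mod_cast this.ne'
  have hexp : classInner (fun n : N => (χ : G → ℂ) n) (θ : N → ℂ)
      = ((∑ ξ : IrrCharacter H, m ξ * k ξ : ℕ) : ℂ) := by
    rw [Cfsg.Agent.Lib.helper83.classInner_def]
    have e1 : ∀ n : N, (χ : G → ℂ) n * conj ((θ : N → ℂ) n)
        = ∑ ξ : IrrCharacter H, (m ξ : ℂ) *
          ((ξ : H → ℂ) (Subgroup.inclusion hNH n) * conj ((θ : N → ℂ) n)) := by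
      intro n
      have e2 := hm2 (Subgroup.inclusion hNH n)
      have e3 : (χ : G → ℂ) n = (χ : G → ℂ) ((Subgroup.inclusion hNH n : H) : G) := rfl
      rw [e3, e2, Finset.sum_mul]
      exact Finset.sum_congr rfl (fun ξ _ => by ring)
    rw [Finset.sum_congr rfl (fun n _ => e1 n), Finset.sum_comm, Finset.mul_sum]
    push_cast
    refine Finset.sum_congr rfl (fun ξ _ => ?_)
    rw [← Finset.mul_sum, ← hk ξ, Cfsg.Agent.Lib.helper83.classInner_def]
    ring
  have hkη : k η = 1 := by
    have h1 := hk η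
    rw [Cfsg.Agent.Lib.helper83.classInner_def] at h1
    have h2 : ∑ n : N, (η : H → ℂ) (Subgroup.inclusion hNH n) * conj ((θ : N → ℂ) n)
        = (Nat.card N : ℂ) := by
      rw [Finset.sum_congr rfl (fun n _ => by rw [hη n]),
        Cfsg.Agent.Lib.helper83.irr_orthogonality' θ θ, if_pos rfl]
    rw [h2, inv_mul_cancel₀ hN0] at h1
    exact_mod_cast h1.symm
  have hmη : m η ≠ 0 := by
    intro h0
    apply h
    rw [hm1 η, h0]
    simp
  rw [hexp]
  have hle : m η * k η ≤ ∑ ξ : IrrCharacter H, m ξ * k ξ :=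
    Finset.single_le_sum (f := fun ξ : IrrCharacter H => m ξ * k ξ)
      (fun _ _ => Nat.zero_le _) (Finset.mem_univ η)
  rw [hkη, mul_one] at hle
  have hpos : 0 < ∑ ξ : IrrCharacter H, m ξ * k ξ := lt_of_lt_of_le (Nat.pos_of_ne_zero hmη) hle
  exact_mod_cast hpos.ne'

end

end Cfsg.Agent.Lib.helper58
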