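import Mathlib
import Cfsg.Agent.Lib.helper58.PrincipalOver
import Cfsg.Agent.Lib.helper82.CharQuot

/-!
# Characters of degree prime to `p` lying over a character of a subgroup of `p'`-index (helper58)

* `degree_sum_restrict`: `|G : H| η(1) = ∑_χ ⟨χ_H, η⟩ χ(1)`.
* `exists_pPrime_over`: if `H ≤ G` has index prime to `p` and `η ∈ Irr(H)` has degree prime to
  `p`, some `χ ∈ Irr(G)` of degree prime to `p` lies over `η`.
* `hom_apply_eq_one_of_pPrime_ker`: an element `x` of such an `H` lying in the kernel of every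
  irreducible character of `G` of degree prime to `p` is killed by every linear character of `H`.
* `mem_commutator_of_pPrime_ker`: hence `x ∈ [H, H]`.
-/

set_option autoImplicit false

namespace Cfsg.Agent.Lib.helper58

open Cfsg Cfsg.Agent.Lib.helper20 Cfsg.Agent.Lib.helper81
open scoped ComplexConjugate

universe u

variable {G : Type u} [Group G]

/-- `|G : H| η(1) = ∑_χ ⟨χ_H, η⟩ χ(1)` for `η ∈ Irr(H)`. -/
theorem degree_sum_restrict [Fintype G] (H : Subgroup G) [Fintype H]
    (η : IrrCharacter H) (m : IrrCharacter G → ℕ)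
    (hm : ∀ χ : IrrCharacter G,
      classInner (fun h : H => (χ : G → ℂ) h) (η : H → ℂ) = m χ) :
    H.index * charDegree (η : H → ℂ)
      = ∑ χ : IrrCharacter G, m χ * charDegree (χ : G → ℂ) := by
  classical
  have hG0 : (Nat.card G : ℂ) ≠ 0 := by
    have : 0 < Nat.card G := Nat.card_pos
    exact_mod_cast this.ne'
  have hH0 : (Nat.card H : ℂ) ≠ 0 := by
    have : 0 < Nat.card H := Nat.card_pos
    exact_mod_cast this.ne'
  obtain ⟨φ, hφ⟩ : ∃ φ : G → ℂ, φ = fun g => if g = 1 then (1 : ℂ) else 0 := ⟨_, rfl⟩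
  have hφapp : ∀ g, φ g = if g = 1 then (1 : ℂ) else 0 := fun g => by rw [hφ]
  have hφcf : IsClassFunction G φ := by
    intro g h
    rw [hφapp, hφapp]
    refine if_congr ?_ rfl rfl
    constructor
    · intro h1
      have : g = h⁻¹ * (h * g * h⁻¹) * h := by group
      rw [this, h1]
      group
    · intro h1
      rw [h1]
      group
  have hexp := Cfsg.Agent.Lib.helper83.classFunction_expansion φ hφcf
  have hSG : ∀ χ : IrrCharacter G, ∑ x : G, φ x * conj ((χ : G → ℂ) x)
      = (charDegree (χ : G → ℂ) : ℂ) := by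
    intro χ
    rw [Finset.sum_eq_single (1 : G)]
    · rw [hφapp, if_pos rfl, one_mul, Cfsg.Agent.Lib.helper82.irr_one_eq χ, Complex.conj_natCast]
    · intro x _ hx
      rw [hφapp, if_neg hx, zero_mul]
    · intro h
      exact absurd (Finset.mem_univ _) h
  have hSH : ∑ h : H, φ (h : G) * conj ((η : H → ℂ) h)
      = (charDegree (η : H → ℂ) : ℂ) := by
    rw [Finset.sum_eq_single (1 : H)]
    · rw [hφapp, if_pos (OneMemClass.coe_one H), one_mul, Cfsg.Agent.Lib.helper82.irr_one_eq η,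
        Complex.conj_natCast]
    · intro x _ hx
      have hx' : (x : G) ≠ 1 := fun h => hx (Subtype.ext h)
      rw [hφapp, if_neg hx', zero_mul]
    · intro h
      exact absurd (Finset.mem_univ _) h
  have hinner : ∀ χ : IrrCharacter G, ∑ h : H, (χ : G → ℂ) h * conj ((η : H → ℂ) h)
      = (Nat.card H : ℂ) * (m χ : ℂ) := by
    intro χ
    have h1 := hm χ
    rw [Cfsg.Agent.Lib.helper83.classInner_def] at h1
    rw [← h1, ← mul_assoc, mul_inv_cancel₀ hH0, one_mul]
  have hmain : ∑ h : H, φ (h : G) * conj ((η : H → ℂ) h)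
      = ∑ χ : IrrCharacter G, ((Nat.card G : ℂ)⁻¹ * (charDegree (χ : G → ℂ) : ℂ))
          * ((Nat.card H : ℂ) * (m χ : ℂ)) := by
    have e1 : ∀ h : H, φ (h : G) * conj ((η : H → ℂ) h)
        = ∑ χ : IrrCharacter G, ((Nat.card G : ℂ)⁻¹ * (charDegree (χ : G → ℂ) : ℂ))
          * ((χ : G → ℂ) h * conj ((η : H → ℂ) h)) := by
      intro h
      rw [hexp (h : G), Finset.sum_mul]
      refine Finset.sum_congr rfl (fun χ _ => ?_)
      rw [hSG χ]
      ring
    rw [Finset.sum_congr rfl (fun h _ => e1 h), Finset.sum_comm]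
    refine Finset.sum_congr rfl (fun χ _ => ?_)
    rw [← Finset.mul_sum, hinner χ]
  rw [hSH] at hmain
  have hcard : (Nat.card G : ℂ) = (H.index : ℂ) * (Nat.card H : ℂ) := by
    rw [← Nat.cast_mul, Subgroup.index_mul_card]
  have hI0 : (H.index : ℂ) ≠ 0 := by
    intro h0
    rw [h0, zero_mul] at hcard
    exact hG0 hcard
  have hC : ((H.index * charDegree (η : H → ℂ) : ℕ) : ℂ)
      = ((∑ χ : IrrCharacter G, m χ * charDegree (χ : G → ℂ) : ℕ) : ℂ) := by
    push_cast
    rw [hmain, Finset.mul_sum]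
    refine Finset.sum_congr rfl (fun χ _ => ?_)
    rw [hcard]
    field_simp
  exact_mod_cast hC

/-- If `H ≤ G` has index prime to `p` and `η ∈ Irr(H)` has degree prime to `p`, then some
`χ ∈ Irr(G)` of degree prime to `p` lies over `η`. -/
theorem exists_pPrime_over [Finite G] {p : ℕ} [Fact p.Prime] (H : Subgroup G) [Fintype H]
    (hidx : ¬ p ∣ H.index) (η : IrrCharacter H) (hdeg : ¬ p ∣ charDegree (η : H → ℂ)) :
    ∃ χ : IrrCharacter G, ¬ p ∣ charDegree (χ : G → ℂ) ∧
      classInner (fun h : H => (χ : G → ℂ) h) (η : H → ℂ) ≠ 0 := by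
  classical
  let _ : Fintype G := Fintype.ofFinite G
  have hpp : p.Prime := Fact.out
  choose m hm using fun χ : IrrCharacter G =>
    Cfsg.Agent.Lib.helper84.classInner_isCharacter_nat
      (Cfsg.Agent.Lib.helper84.isCharacter_restrict H
        (Cfsg.Agent.Lib.helper83.isCharacter_of_irr χ.2))
      (Cfsg.Agent.Lib.helper83.isCharacter_of_irr η.2)
  by_contra hcon
  have hdvd : ∀ χ : IrrCharacter G, p ∣ m χ * charDegree (χ : G → ℂ) := by
    intro χ
    by_cases hd : p ∣ charDegree (χ : G → ℂ)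
    · exact Dvd.dvd.mul_left hd _
    · have h0 : m χ = 0 := by
        by_contra hne
        apply hcon
        refine ⟨χ, hd, ?_⟩
        rw [hm χ]
        exact_mod_cast hne
      rw [h0, zero_mul]
      exact dvd_zero p
  have hsum := degree_sum_restrict H η m hm
  have h1 : p ∣ H.index * charDegree (η : H → ℂ) := by
    rw [hsum]
    exact Finset.dvd_sum (fun χ _ => hdvd χ)
  rcases (Nat.Prime.dvd_mul hpp).1 h1 with h | h
  · exact hidx h
  · exact hdeg h

/-- Let `H ≤ G` have index prime to `p` and let `x ∈ H` lie in the kernel of every irreducible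
character of `G` of degree prime to `p`.  Then every linear character of `H` is trivial on `x`. -/
theorem hom_apply_eq_one_of_pPrime_ker [Finite G] {p : ℕ} [Fact p.Prime] (H : Subgroup G)
    (hidx : ¬ p ∣ H.index) (x : G) (hxH : x ∈ H)
    (hx : ∀ χ : IrrCharacter G, ¬ p ∣ charDegree (χ : G → ℂ) →
      (χ : G → ℂ) x = (χ : G → ℂ) 1)
    (f : ↥H →* ℂˣ) : f ⟨x, hxH⟩ = 1 := by
  classical
  let _ : Fintype ↥H := Fintype.ofFinite _
  have hpp : p.Prime := Fact.out
  set η : IrrCharacter ↥H :=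
    ⟨fun g => (f g : ℂ), Cfsg.Agent.Lib.helper82.isIrrCharacter_of_hom f⟩ with hη
  have hdeg : ¬ p ∣ charDegree (η : ↥H → ℂ) := by
    have h1 : charDegree (η : ↥H → ℂ) = 1 := by
      unfold charDegree
      simp [hη]
    rw [h1]
    exact hpp.not_dvd_one
  obtain ⟨χ, hχdeg, hχη⟩ := exists_pPrime_over H hidx η hdeg
  have hker := hx χ hχdeg
  obtain ⟨n, ρ, hirr, hρ⟩ := χ.2
  have hxker : x ∈ Cfsg.Agent.Lib.helper82.repKer ρ := by
    rw [Cfsg.Agent.Lib.helper82.mem_repKer_iff_char, hρ]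
    exact hker
  have hshift : ∀ g : G, (χ : G → ℂ) (x * g) = (χ : G → ℂ) g := by
    intro g
    rw [← hρ]
    show ρ.character (x * g) = ρ.character g
    unfold Representation.character
    rw [map_mul, (Cfsg.Agent.Lib.helper82.mem_repKer ρ x).1 hxker, one_mul]
  by_contra hne1
  apply hχη
  unfold classInner
  have hsum : ∑ y : ↥H, (χ : G → ℂ) y * conj ((η : ↥H → ℂ) y) =
      conj ((f ⟨x, hxH⟩ : ℂ)) * ∑ y : ↥H, (χ : G → ℂ) y * conj ((η : ↥H → ℂ) y) := by
    rw [Finset.mul_sum]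
    rw [← Equiv.sum_comp (Equiv.mulLeft (⟨x, hxH⟩ : ↥H))]
    refine Finset.sum_congr rfl (fun y _ => ?_)
    simp only [Equiv.coe_mulLeft]
    show (χ : G → ℂ) (x * y) * conj ((f (⟨x, hxH⟩ * y) : ℂ)) = _
    rw [hshift, map_mul, Units.val_mul, map_mul]
    show _ = conj ((f ⟨x, hxH⟩ : ℂ)) * ((χ : G → ℂ) y * conj ((f y : ℂ)))
    ring
  have hne : conj ((f ⟨x, hxH⟩ : ℂ)) ≠ 1 := by
    intro h1
    apply hne1
    have h2 : (f ⟨x, hxH⟩ : ℂ) = 1 := by
      have h3 := congrArg conj h1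
      simpa using h3
    exact Units.ext h2
  have hS : ∑ y : ↥H, (χ : G → ℂ) y * conj ((η : ↥H → ℂ) y) = 0 := by
    have h4 : (1 - conj ((f ⟨x, hxH⟩ : ℂ))) *
        ∑ y : ↥H, (χ : G → ℂ) y * conj ((η : ↥H → ℂ) y) = 0 := by
      linear_combination hsum
    rcases mul_eq_zero.1 h4 with h5 | h5
    · exact absurd (sub_eq_zero.1 h5).symm hne
    · exact h5
  rw [hS, mul_zero]

/-- Let `H ≤ G` have index prime to `p` and let `x ∈ H` lie in the kernel of every irreducible
character of `G` of degree prime to `p`.  Then `x ∈ [H, H]`. -/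
theorem mem_commutator_of_pPrime_ker [Finite G] {p : ℕ} [Fact p.Prime] (H : Subgroup G)
    (hidx : ¬ p ∣ H.index) (x : G) (hxH : x ∈ H)
    (hx : ∀ χ : IrrCharacter G, ¬ p ∣ charDegree (χ : G → ℂ) →
      (χ : G → ℂ) x = (χ : G → ℂ) 1) : x ∈ ⁅H, H⁆ := by
  classical
  by_contra hxc
  have hx' : (⟨x, hxH⟩ : ↥H) ∉ commutator ↥H := by
    intro hmem
    apply hxc
    rw [← Subgroup.map_subtype_commutator]
    exact ⟨_, hmem, rfl⟩
  have hab : (Abelianization.of (⟨x, hxH⟩ : ↥H)) ≠ 1 := by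
    intro h1
    apply hx'
    exact (QuotientGroup.eq_one_iff _).1 h1
  obtain ⟨φ, hφ⟩ := Cfsg.Agent.Lib.helper82.exists_hom_apply_ne_one
    (G := Abelianization ↥H) (fun a b => mul_comm a b) hab
  exact hφ (hom_apply_eq_one_of_pPrime_ker H hidx x hxH hx (φ.comp Abelianization.of))

/-- The intersection of the kernels of the irreducible characters of degree prime to `p` is a
normal subgroup. -/
theorem exists_pPrimeKer (p : ℕ) (G : Type u) [Group G] [Finite G] :
    ∃ K : Subgroup G, K.Normal ∧ ∀ g, g ∈ K ↔ ∀ χ : IrrCharacter G,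
      ¬ p ∣ charDegree (χ : G → ℂ) → (χ : G → ℂ) g = (χ : G → ℂ) 1 := by
  classical
  choose Kχ hKn hKmem using fun χ : IrrCharacter G =>
    Cfsg.Agent.Lib.helper82.exists_ker_of_isCharacter
      (Cfsg.Agent.Lib.helper83.isCharacter_of_irr χ.2)
  refine ⟨⨅ χ : {χ : IrrCharacter G // ¬ p ∣ charDegree (χ : G → ℂ)}, Kχ χ.1,
    Subgroup.normal_iInf_normal (fun χ => hKn χ.1), ?_⟩
  intro g
  rw [Subgroup.mem_iInf]
  constructor
  · intro h χ hχ
    exact (hKmem χ g).1 (h ⟨χ, hχ⟩)
  · intro h χ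
    exact (hKmem χ.1 g).2 (h χ.1 χ.2)

end Cfsg.Agent.Lib.helper58
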