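import Mathlib
import Cfsg.Agent.Lib.helper58.PPrimeOver
import Cfsg.Agent.Lib.helper58.PPrimeKerRep
import Cfsg.Agent.Lib.helper83.CharBasic2
import Cfsg.Agent.Lib.helper32.Coh8
import Cfsg.Agent.Lib.helper82.Ito
import Cfsg.Agent.Lib.helper82.CharQuot

/-!
# Sum of the squares of the degrees of the irreducible characters of degree prime to `p` (helper58)

* `pPrimeSq p G`: `∑ χ(1)²` over the `χ ∈ Irr(G)` with `p ∤ χ(1)`.
* `restrict_decomp`: `χ_H = ∑ m_η η` with natural multiplicities.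
* `pPrimeSq_restrict`: for `H ≤ G` of index prime to `p`, `pPrimeSq p H ≤ pPrimeSq p G`, and
  in case of equality every `η ∈ Irr(H)` of degree prime to `p` extends to `G`.
* `pPrimeSq_of_normal_sylow`: if the Sylow `p`-subgroup `S` of `H` is normal then
  `pPrimeSq p H = |H : S'|`.
* `pPrimeSq_le_index_of_complement`: if `K` is normal with `K ∩ C_G(P) = 1` then
  `pPrimeSq p G ≤ |G : K P'|`.
-/

set_option autoImplicit false

namespace Cfsg.Agent.Lib.helper58

open Cfsg Cfsg.Agent.Lib.helper81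
open scoped ComplexConjugate commutatorElement

universe u

variable {G : Type u} [Group G]

/-- The sum of the squares of the degrees of the irreducible characters of degree prime to
`p`. -/
noncomputable def pPrimeSq (p : ℕ) (G : Type u) [Group G] [Finite G] : ℕ :=
  open Classical in
  ∑ χ ∈ Finset.univ.filter (fun χ : IrrCharacter G => ¬ p ∣ charDegree (χ : G → ℂ)),
    charDegree (χ : G → ℂ) ^ 2

theorem finsum_pPrime_eq (p : ℕ) (G : Type u) [Group G] [Finite G] :
    (∑ᶠ χ : {χ : IrrCharacter G // ¬ p ∣ charDegree (χ : G → ℂ)},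
      charDegree (χ.1 : G → ℂ) ^ 2) = pPrimeSq p G := by
  classical
  rw [finsum_eq_sum_of_fintype, pPrimeSq]
  symm
  convert Finset.sum_subtype (Finset.univ.filter
    (fun χ : IrrCharacter G => ¬ p ∣ charDegree (χ : G → ℂ)))
    (p := fun χ : IrrCharacter G => ¬ p ∣ charDegree (χ : G → ℂ))
    (fun χ => by simp) (fun χ : IrrCharacter G => charDegree (χ : G → ℂ) ^ 2)

/-- Decomposition of the restriction of an irreducible character to a subgroup. -/
theorem restrict_decomp [Fintype G] (H : Subgroup G) [Fintype H] (χ : IrrCharacter G) :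
    ∃ m : IrrCharacter H → ℕ,
      (∀ η : IrrCharacter H,
        classInner (fun h : H => (χ : G → ℂ) h) (η : H → ℂ) = m η) ∧
      (∀ h : H, (χ : G → ℂ) h = ∑ η : IrrCharacter H, (m η : ℂ) * (η : H → ℂ) h) ∧
      charDegree (χ : G → ℂ) = ∑ η : IrrCharacter H, m η * charDegree (η : H → ℂ) := by
  classical
  have hres : IsCharacter H (fun h : H => (χ : G → ℂ) h) :=
    Cfsg.Agent.Lib.helper84.isCharacter_restrict H
      (Cfsg.Agent.Lib.helper83.isCharacter_of_irr χ.2)
  choose m hm using fun η : IrrCharacter H =>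
    Cfsg.Agent.Lib.helper84.classInner_isCharacter_nat hres
      (Cfsg.Agent.Lib.helper83.isCharacter_of_irr η.2)
  have hval : ∀ h : H, (χ : G → ℂ) h
      = ∑ η : IrrCharacter H, (m η : ℂ) * (η : H → ℂ) h := by
    intro h
    have h1 := Cfsg.Agent.Lib.helper83.classFunction_expansion' (fun h : H => (χ : G → ℂ) h)
      (Cfsg.Agent.Lib.helper83.isClassFunction_of_isCharacter hres) h
    rw [h1]
    exact Finset.sum_congr rfl (fun η _ => by rw [hm η])
  refine ⟨m, hm, hval, ?_⟩
  have h1 := hval 1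
  rw [show ((1 : H) : G) = 1 from rfl, Cfsg.Agent.Lib.helper82.irr_one_eq χ] at h1
  have h2 : (charDegree (χ : G → ℂ) : ℂ)
      = ((∑ η : IrrCharacter H, m η * charDegree (η : H → ℂ) : ℕ) : ℂ) := by
    rw [h1]
    push_cast
    exact Finset.sum_congr rfl (fun η _ => by rw [Cfsg.Agent.Lib.helper82.irr_one_eq η])
  exact_mod_cast h2

/-- For a subgroup `H` of index prime to `p`: the sum of the squares of the `p'`-degrees of `H`
is at most that of `G`, and in case of equality every irreducible character of `H` of degree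
prime to `p` is the restriction of an irreducible character of `G`. -/
theorem pPrimeSq_restrict [Finite G] {p : ℕ} [Fact p.Prime] (H : Subgroup G)
    (hidx : ¬ p ∣ H.index) :
    pPrimeSq p H ≤ pPrimeSq p G ∧
      (pPrimeSq p G ≤ pPrimeSq p H → ∀ η : IrrCharacter H, ¬ p ∣ charDegree (η : H → ℂ) →
        ∃ χ : IrrCharacter G, ∀ x : H, (χ : G → ℂ) x = (η : H → ℂ) x) := by
  classical
  let _ : Fintype G := Fintype.ofFinite G
  let _ : Fintype H := Fintype.ofFinite H
  choose m hm hval hdeg using fun χ : IrrCharacter G => restrict_decomp H χ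
  obtain ⟨FG, hFG⟩ : ∃ FG : Finset (IrrCharacter G), FG = Finset.univ.filter
    (fun χ : IrrCharacter G => ¬ p ∣ charDegree (χ : G → ℂ)) := ⟨_, rfl⟩
  obtain ⟨FH, hFH⟩ : ∃ FH : Finset (IrrCharacter H), FH = Finset.univ.filter
    (fun η : IrrCharacter H => ¬ p ∣ charDegree (η : H → ℂ)) := ⟨_, rfl⟩
  have hmemG : ∀ χ : IrrCharacter G, χ ∈ FG ↔ ¬ p ∣ charDegree (χ : G → ℂ) := by
    intro χ; rw [hFG]; simp
  have hmemH : ∀ η : IrrCharacter H, η ∈ FH ↔ ¬ p ∣ charDegree (η : H → ℂ) := by
    intro η; rw [hFH]; simp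
  have hG : pPrimeSq p G = ∑ χ ∈ FG, charDegree (χ : G → ℂ) ^ 2 := by
    rw [hFG, pPrimeSq]
  have hH : pPrimeSq p H = ∑ η ∈ FH, charDegree (η : H → ℂ) ^ 2 := by
    rw [hFH, pPrimeSq]
  obtain ⟨b, hb⟩ : ∃ b : IrrCharacter H → ℕ,
    b = fun η => ∑ χ ∈ FG, m χ η * charDegree (χ : G → ℂ) := ⟨_, rfl⟩
  have hbapp : ∀ η, b η = ∑ χ ∈ FG, m χ η * charDegree (χ : G → ℂ) := fun η => by rw [hb]
  have hGsum : pPrimeSq p G = ∑ η : IrrCharacter H, charDegree (η : H → ℂ) * b η := by
    rw [hG]
    calc ∑ χ ∈ FG, charDegree (χ : G → ℂ) ^ 2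
        = ∑ χ ∈ FG, ∑ η : IrrCharacter H,
            charDegree (η : H → ℂ) * (m χ η * charDegree (χ : G → ℂ)) := by
          refine Finset.sum_congr rfl (fun χ _ => ?_)
          rw [sq]
          nth_rewrite 1 [hdeg χ]
          rw [Finset.sum_mul]
          exact Finset.sum_congr rfl (fun η _ => by ring)
      _ = ∑ η : IrrCharacter H, ∑ χ ∈ FG,
            charDegree (η : H → ℂ) * (m χ η * charDegree (χ : G → ℂ)) := Finset.sum_comm
      _ = ∑ η : IrrCharacter H, charDegree (η : H → ℂ) * b η :=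
          Finset.sum_congr rfl (fun η _ => by rw [hbapp, Finset.mul_sum])
  have hover : ∀ η ∈ FH, ∃ χ ∈ FG, m χ η ≠ 0 := by
    intro η hη
    obtain ⟨χ, hχ, hne⟩ := exists_pPrime_over H hidx η ((hmemH η).1 hη)
    refine ⟨χ, (hmemG χ).2 hχ, ?_⟩
    intro h0
    apply hne
    rw [hm χ η, h0]
    simp
  have hchain : ∀ η : IrrCharacter H, ∀ χ ∈ FG, m χ η ≠ 0 →
      charDegree (η : H → ℂ) ≤ m χ η * charDegree (η : H → ℂ) ∧
      m χ η * charDegree (η : H → ℂ) ≤ charDegree (χ : G → ℂ) ∧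
      charDegree (χ : G → ℂ) ≤ m χ η * charDegree (χ : G → ℂ) ∧
      m χ η * charDegree (χ : G → ℂ) ≤ b η := by
    intro η χ hχ hne
    have h1 : 1 ≤ m χ η := Nat.one_le_iff_ne_zero.2 hne
    refine ⟨Nat.le_mul_of_pos_left _ h1, ?_, Nat.le_mul_of_pos_left _ h1, ?_⟩
    · rw [hdeg χ]
      exact Finset.single_le_sum (f := fun η' : IrrCharacter H =>
        m χ η' * charDegree (η' : H → ℂ)) (fun _ _ => Nat.zero_le _) (Finset.mem_univ η)
    · rw [hbapp]
      exact Finset.single_le_sum (f := fun χ' : IrrCharacter G =>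
        m χ' η * charDegree (χ' : G → ℂ)) (fun _ _ => Nat.zero_le _) hχ
  have hble : ∀ η ∈ FH, charDegree (η : H → ℂ) ≤ b η := by
    intro η hη
    obtain ⟨χ, hχ, hne⟩ := hover η hη
    obtain ⟨h1, h2, h3, h4⟩ := hchain η χ hχ hne
    exact h1.trans (h2.trans (h3.trans h4))
  have hterm : ∀ η ∈ FH, charDegree (η : H → ℂ) ^ 2 ≤ charDegree (η : H → ℂ) * b η := by
    intro η hη
    rw [sq]
    exact Nat.mul_le_mul_left _ (hble η hη)
  have hle1 : ∑ η ∈ FH, charDegree (η : H → ℂ) ^ 2
      ≤ ∑ η ∈ FH, charDegree (η : H → ℂ) * b η := Finset.sum_le_sum hterm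
  have hle2 : ∑ η ∈ FH, charDegree (η : H → ℂ) * b η
      ≤ ∑ η : IrrCharacter H, charDegree (η : H → ℂ) * b η :=
    Finset.sum_le_sum_of_subset (Finset.subset_univ _)
  refine ⟨?_, ?_⟩
  · rw [hGsum, hH]
    exact hle1.trans hle2
  · intro hge η₀ hη₀
    have hη₀' : η₀ ∈ FH := (hmemH η₀).2 hη₀
    have heq : ∑ η ∈ FH, charDegree (η : H → ℂ) ^ 2
        = ∑ η ∈ FH, charDegree (η : H → ℂ) * b η := by
      refine le_antisymm hle1 ?_
      rw [← hH]
      refine le_trans hle2 ?_
      rw [← hGsum]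
      exact hge
    have hall := (Finset.sum_eq_sum_iff_of_le hterm).1 heq
    have hd0 : 0 < charDegree (η₀ : H → ℂ) := Cfsg.Agent.Lib.helper82.irr_charDegree_pos η₀
    have hb0 : b η₀ = charDegree (η₀ : H → ℂ) := by
      have h1 := hall η₀ hη₀'
      rw [sq] at h1
      exact (Nat.eq_of_mul_eq_mul_left hd0 h1).symm
    obtain ⟨χ, hχ, hne⟩ := hover η₀ hη₀'
    obtain ⟨h1, h2, h3, h4⟩ := hchain η₀ χ hχ hne
    rw [hb0] at h4
    have hm1 : m χ η₀ * charDegree (η₀ : H → ℂ) = charDegree (η₀ : H → ℂ) :=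
      le_antisymm (h2.trans (h3.trans h4)) h1
    have hdχ : charDegree (χ : G → ℂ) = charDegree (η₀ : H → ℂ) :=
      le_antisymm (h3.trans h4) (h1.trans h2)
    have hzero : ∀ η : IrrCharacter H, η ≠ η₀ → m χ η = 0 := by
      intro η hη
      have h5 := hdeg χ
      rw [← Finset.add_sum_erase Finset.univ _ (Finset.mem_univ η₀), hm1, hdχ] at h5
      have h6 : ∑ η ∈ Finset.univ.erase η₀, m χ η * charDegree (η : H → ℂ) = 0 := by
        omega
      have h7 := (Finset.sum_eq_zero_iff.1 h6) η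
        (Finset.mem_erase.2 ⟨hη, Finset.mem_univ η⟩)
      rcases Nat.mul_eq_zero.1 h7 with h8 | h8
      · exact h8
      · exact absurd h8 (Cfsg.Agent.Lib.helper82.irr_charDegree_pos η).ne'
    have hmone : m χ η₀ = 1 := by
      have h5 : m χ η₀ * charDegree (η₀ : H → ℂ) = 1 * charDegree (η₀ : H → ℂ) := by
        rw [hm1, one_mul]
      exact Nat.eq_of_mul_eq_mul_right hd0 h5
    refine ⟨χ, fun x => ?_⟩
    rw [hval χ x, Finset.sum_eq_single η₀]
    · rw [hmone]
      simp
    · intro η _ hη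
      rw [hzero η hη]
      simp
    · intro h
      exact absurd (Finset.mem_univ η₀) h

/-- If the Sylow `p`-subgroup `S` of `H` is normal, the irreducible characters of `H` of degree
prime to `p` are those trivial on `S'` (Itô), so `pPrimeSq p H = |H : S'|`. -/
theorem pPrimeSq_of_normal_sylow {H : Type u} [Group H] [Finite H] {p : ℕ} [Fact p.Prime]
    (S : Sylow p H) [hS : (S : Subgroup H).Normal] :
    pPrimeSq p H = (⁅(S : Subgroup H), (S : Subgroup H)⁆).index := by
  classical
  let _ : Fintype H := Fintype.ofFinite H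
  have hidx : ¬ p ∣ (S : Subgroup H).index := S.not_dvd_index
  rw [← Cfsg.Agent.Lib.helper32.sum_irr_degree_sq_above
    (A := ⁅(S : Subgroup H), (S : Subgroup H)⁆), pPrimeSq]
  refine Finset.sum_congr ?_ (fun _ _ => rfl)
  refine Finset.filter_congr (fun χ _ => ?_)
  constructor
  · intro hdeg x hx
    have hbot : (⊥ : Subgroup H) ⊓ Subgroup.centralizer ((S : Subgroup H) : Set H) = ⊥ :=
      bot_inf_eq _
    exact irr_eq_of_mem_sup_commutator S ⊥ hbot ⁅(S : Subgroup H), (S : Subgroup H)⁆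
      le_sup_right χ hdeg x hx
  · intro htriv hp
    let ψ := Cfsg.Agent.Lib.helper82.irrQuotEquiv ⁅(S : Subgroup H), (S : Subgroup H)⁆
      ⟨χ, htriv⟩
    have hψ : ∀ g : H, (ψ : H ⧸ ⁅(S : Subgroup H), (S : Subgroup H)⁆ → ℂ)
        (g : H ⧸ ⁅(S : Subgroup H), (S : Subgroup H)⁆) = (χ : H → ℂ) g :=
      fun g => Cfsg.Agent.Lib.helper82.irrQuotEquiv_apply _ ⟨χ, htriv⟩ g
    let A : Subgroup (H ⧸ ⁅(S : Subgroup H), (S : Subgroup H)⁆) :=
      (S : Subgroup H).map (QuotientGroup.mk' ⁅(S : Subgroup H), (S : Subgroup H)⁆)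
    have hAn : A.Normal :=
      Subgroup.Normal.map hS _ (QuotientGroup.mk'_surjective _)
    have hA : ∀ a ∈ A, ∀ b ∈ A, a * b = b * a := by
      rintro _ ⟨u, hu, rfl⟩ _ ⟨v, hv, rfl⟩
      show ((u : H) : H ⧸ ⁅(S : Subgroup H), (S : Subgroup H)⁆) * (v : H)
        = ((v : H) : H ⧸ ⁅(S : Subgroup H), (S : Subgroup H)⁆) * (u : H)
      rw [← QuotientGroup.mk_mul, ← QuotientGroup.mk_mul, QuotientGroup.eq]
      have h1 : (u * v)⁻¹ * (v * u) = ⁅v⁻¹, u⁻¹⁆ := by
        rw [commutatorElement_def]; group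
      rw [h1]
      exact Subgroup.commutator_mem_commutator (inv_mem hv) (inv_mem hu)
    obtain ⟨d, hd1, hd2⟩ := Cfsg.Agent.Lib.helper82.ito_char A hA ψ.2
    have hdeg : charDegree (χ : H → ℂ) = d := by
      have h2 := Cfsg.Agent.Lib.helper82.irr_one_eq χ
      have h3 := hψ 1
      rw [QuotientGroup.mk_one, hd1, h2] at h3
      exact_mod_cast h3.symm
    rw [hdeg] at hp
    exact hidx (hp.trans (hd2.trans
      (Subgroup.index_map_dvd (S : Subgroup H) (QuotientGroup.mk'_surjective _))))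

/-- If `K` is a normal subgroup with `K ∩ C_G(P) = 1` and `L ≤ K P'` is normal, then the
irreducible characters of degree prime to `p` are trivial on `L`; hence
`pPrimeSq p G ≤ |G : L|`. -/
theorem pPrimeSq_le_index [Finite G] {p : ℕ} [Fact p.Prime] (P : Sylow p G) (K : Subgroup G)
    [hKn : K.Normal] (hK : K ⊓ Subgroup.centralizer ((P : Subgroup G) : Set G) = ⊥)
    (L : Subgroup G) [hLn : L.Normal]
    (hL : L ≤ K ⊔ ⁅(P : Subgroup G), (P : Subgroup G)⁆) :
    pPrimeSq p G ≤ L.index := by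
  classical
  let _ : Fintype G := Fintype.ofFinite G
  rw [← Cfsg.Agent.Lib.helper32.sum_irr_degree_sq_above (A := L), pPrimeSq]
  refine Finset.sum_le_sum_of_subset (fun χ hχ => ?_)
  rw [Finset.mem_filter] at hχ ⊢
  exact ⟨Finset.mem_univ _, fun x hx => irr_eq_of_mem_sup_commutator P K hK L hL χ hχ.2 x hx⟩

/-- Sylow normalizer: `|N_G(P)| = |P'| · pPrimeSq p N_G(P)`. -/
theorem card_normalizer_eq [Finite G] {p : ℕ} [Fact p.Prime] (P : Sylow p G) :
    Nat.card (Subgroup.normalizer ((P : Subgroup G) : Set G))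
      = Nat.card (commutator ↥(P : Subgroup G))
        * pPrimeSq p ↥(Subgroup.normalizer ((P : Subgroup G) : Set G)) := by
  classical
  have hle : (P : Subgroup G) ≤ Subgroup.normalizer ((P : Subgroup G) : Set G) :=
    Subgroup.le_normalizer
  let S : Sylow p ↥(Subgroup.normalizer ((P : Subgroup G) : Set G)) := P.subtype hle
  have hScoe : (S : Subgroup ↥(Subgroup.normalizer ((P : Subgroup G) : Set G)))
      = (P : Subgroup G).subgroupOf (Subgroup.normalizer ((P : Subgroup G) : Set G)) :=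
    P.coe_subtype hle
  have hSn : (S : Subgroup ↥(Subgroup.normalizer ((P : Subgroup G) : Set G))).Normal := by
    rw [hScoe]
    exact Subgroup.normal_in_normalizer
  rw [pPrimeSq_of_normal_sylow S]
  have hcard : Nat.card (commutator ↥(P : Subgroup G))
      = Nat.card (⁅(S : Subgroup ↥(Subgroup.normalizer ((P : Subgroup G) : Set G))),
          (S : Subgroup ↥(Subgroup.normalizer ((P : Subgroup G) : Set G)))⁆ :
            Subgroup ↥(Subgroup.normalizer ((P : Subgroup G) : Set G))) := by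
    have h1 : Nat.card (commutator ↥(P : Subgroup G))
        = Nat.card (⁅(P : Subgroup G), (P : Subgroup G)⁆ : Subgroup G) := by
      rw [← Subgroup.map_subtype_commutator (P : Subgroup G)]
      exact (Subgroup.card_map_of_injective (Subgroup.subtype_injective _)).symm
    have h2 : Nat.card (⁅(S : Subgroup ↥(Subgroup.normalizer ((P : Subgroup G) : Set G))),
          (S : Subgroup ↥(Subgroup.normalizer ((P : Subgroup G) : Set G)))⁆ :
            Subgroup ↥(Subgroup.normalizer ((P : Subgroup G) : Set G)))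
        = Nat.card (⁅(P : Subgroup G), (P : Subgroup G)⁆ : Subgroup G) := by
      rw [← Subgroup.card_map_of_injective
        (Subgroup.subtype_injective (Subgroup.normalizer ((P : Subgroup G) : Set G))),
        Subgroup.map_commutator, hScoe, Subgroup.map_subgroupOf_eq_of_le hle]
    rw [h1, h2]
  rw [hcard]
  exact (Subgroup.card_mul_index _).symm

/-- If `K` is a normal complement of `N_G(P)` then `|P'| · pPrimeSq p G ≤ |N_G(P)|`. -/
theorem mul_pPrimeSq_le_of_complement [Finite G] {p : ℕ} [Fact p.Prime] (P : Sylow p G)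
    (K : Subgroup G) [hKn : K.Normal]
    (h1 : K ⊓ Subgroup.normalizer ((P : Subgroup G) : Set G) = ⊥)
    (h2 : K ⊔ Subgroup.normalizer ((P : Subgroup G) : Set G) = ⊤) :
    Nat.card (commutator ↥(P : Subgroup G)) * pPrimeSq p G
      ≤ Nat.card (Subgroup.normalizer ((P : Subgroup G) : Set G)) := by
  classical
  have hPN : (P : Subgroup G) ≤ Subgroup.normalizer ((P : Subgroup G) : Set G) :=
    Subgroup.le_normalizer
  have hcomm_le : ⁅(P : Subgroup G), (P : Subgroup G)⁆ ≤ (P : Subgroup G) := by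
    rw [Subgroup.commutator_le]
    intro a ha b hb
    rw [commutatorElement_def]
    exact mul_mem (mul_mem (mul_mem ha hb) (inv_mem ha)) (inv_mem hb)
  have hK : K ⊓ Subgroup.centralizer ((P : Subgroup G) : Set G) = ⊥ := by
    refine le_bot_iff.1 ?_
    rw [← h1]
    exact inf_le_inf_left K (Subgroup.centralizer_le_normalizer _)
  -- `L = K P'` is normal
  have hLn : (K ⊔ ⁅(P : Subgroup G), (P : Subgroup G)⁆).Normal := by
    rw [← Subgroup.normalizer_eq_top_iff, ← top_le_iff, ← h2]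
    refine sup_le (le_trans le_sup_left Subgroup.le_normalizer) ?_
    intro n hn
    rw [Subgroup.mem_normalizer_iff]
    have hconj : ∀ m : G, m ∈ Subgroup.normalizer ((P : Subgroup G) : Set G) →
        ∀ x ∈ K ⊔ ⁅(P : Subgroup G), (P : Subgroup G)⁆,
          m * x * m⁻¹ ∈ K ⊔ ⁅(P : Subgroup G), (P : Subgroup G)⁆ := by
      intro m hm x hx
      have hmap : (K ⊔ ⁅(P : Subgroup G), (P : Subgroup G)⁆).map (MulAut.conj m).toMonoidHom
          ≤ K ⊔ ⁅(P : Subgroup G), (P : Subgroup G)⁆ := by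
        rw [Subgroup.map_sup, Subgroup.map_commutator]
        refine sup_le_sup ?_ ?_
        · rintro _ ⟨k, hk, rfl⟩
          exact hKn.conj_mem k hk m
        · have hP : (P : Subgroup G).map (MulAut.conj m).toMonoidHom ≤ (P : Subgroup G) := by
            rintro _ ⟨u, hu, rfl⟩
            exact (Subgroup.mem_normalizer_iff.1 hm u).1 hu
          exact Subgroup.commutator_mono hP hP
      exact hmap ⟨x, hx, rfl⟩
    intro x
    constructor
    · exact hconj n hn x
    · intro hx
      have h3 := hconj n⁻¹ (inv_mem hn) _ hx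
      have h4 : n⁻¹ * (n * x * n⁻¹) * n⁻¹⁻¹ = x := by group
      rwa [h4] at h3
  have hle := pPrimeSq_le_index P K hK (K ⊔ ⁅(P : Subgroup G), (P : Subgroup G)⁆) le_rfl
  -- cardinalities
  have hcP : Nat.card (commutator ↥(P : Subgroup G))
      = Nat.card (⁅(P : Subgroup G), (P : Subgroup G)⁆ : Subgroup G) := by
    rw [← Subgroup.map_subtype_commutator (P : Subgroup G)]
    exact (Subgroup.card_map_of_injective (Subgroup.subtype_injective _)).symm
  have hKP : K ⊓ ⁅(P : Subgroup G), (P : Subgroup G)⁆ = ⊥ := by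
    refine le_bot_iff.1 ?_
    rw [← h1]
    exact inf_le_inf_left K (hcomm_le.trans hPN)
  have hcL : Nat.card K * Nat.card (⁅(P : Subgroup G), (P : Subgroup G)⁆ : Subgroup G)
      = Nat.card (K ⊔ ⁅(P : Subgroup G), (P : Subgroup G)⁆ : Subgroup G) := by
    have h3 := Subgroup.relIndex_mul_relIndex (⊥ : Subgroup G) K
      (K ⊔ ⁅(P : Subgroup G), (P : Subgroup G)⁆) bot_le le_sup_left
    rw [Subgroup.relIndex_bot_left, Subgroup.relIndex_bot_left, Subgroup.relIndex_sup_left,
      ← Subgroup.inf_relIndex_right, hKP, Subgroup.relIndex_bot_left] at h3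
    exact h3
  have hcG : Nat.card K * Nat.card (Subgroup.normalizer ((P : Subgroup G) : Set G))
      = Nat.card G := by
    have h3 := Subgroup.card_mul_index K
    rw [← Subgroup.relIndex_top_right, ← h2, Subgroup.relIndex_sup_left,
      ← Subgroup.inf_relIndex_right, h1, Subgroup.relIndex_bot_left] at h3
    exact h3
  have hLi := Subgroup.card_mul_index (K ⊔ ⁅(P : Subgroup G), (P : Subgroup G)⁆)
  rw [← hcL, ← hcG, mul_assoc] at hLi
  have hKpos : 0 < Nat.card K := Nat.card_pos
  have h5 := Nat.eq_of_mul_eq_mul_left hKpos hLi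
  rw [hcP, ← h5]
  exact Nat.mul_le_mul_left _ hle

end Cfsg.Agent.Lib.helper58
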