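import Mathlib
import Cfsg.Prelude.Def_OddOrderLocal
import Cfsg.Agent.Lib.helper69.BGKappaA
import Cfsg.Agent.Lib.helper71.BGTenA
import Cfsg.Agent.Lib.helper71.BGTwelveFour
import Cfsg.Agent.Lib.helper3.BGCross

/-!
# Bender–Glauberman 14.7(a),(d): `M ∩ M* = K × K*` is cyclic (S1368)

The frozen statements S1430 (`helper69.H1430`), S1378 (second clause, `H1378`) and S1351 (second
clause, `H1351`) are taken as hypotheses.
-/

set_option autoImplicit false

namespace Cfsg.Agent.Lib.helper58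

open Cfsg Subgroup

/-- The second clause of the frozen statement S1378 (the sigma-partition) as a hypothesis. -/
def H1378 (G : Type*) [Group G] : Prop :=
  ∀ M N : Subgroup G, IsCoatom M → IsCoatom N → (sigma M ∩ sigma N).Nonempty →
    ∃ g : G, N = M.map (MulAut.conj g).toMonoidHom

/-- The second clause of the frozen statement S1351 (Hall kappa-subgroups are cyclic). -/
def H1351 (G : Type*) [Group G] : Prop :=
  ∀ M : Subgroup G, IsCoatom M → ∀ K : Subgroup G, IsPiHallOf (kappa M) K M → IsCyclic K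

/-- Two cyclic subgroups of coprime orders that commute elementwise generate a cyclic subgroup. -/
theorem bg58_isCyclic_sup_of_coprime {G : Type*} [Group G] [Finite G] (A B : Subgroup G)
    (hA : IsCyclic A) (hB : IsCyclic B) (hc : ∀ a ∈ A, ∀ b ∈ B, a * b = b * a)
    (hcop : (Nat.card A).Coprime (Nat.card B)) : IsCyclic ↥(A ⊔ B) := by
  obtain ⟨a, ha⟩ := hA.exists_generator
  obtain ⟨b, hb⟩ := hB.exists_generator
  have hoa : orderOf (a : G) = Nat.card A := by
    rw [Subgroup.orderOf_coe]; exact orderOf_eq_card_of_forall_mem_zpowers ha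
  have hob : orderOf (b : G) = Nat.card B := by
    rw [Subgroup.orderOf_coe]; exact orderOf_eq_card_of_forall_mem_zpowers hb
  have hcomm : Commute (a : G) (b : G) := hc a a.2 b b.2
  have hAz : ∀ x ∈ A, x ∈ zpowers (a : G) := by
    intro x hx
    obtain ⟨k, hk⟩ := Subgroup.mem_zpowers_iff.mp (ha ⟨x, hx⟩)
    refine Subgroup.mem_zpowers_iff.mpr ⟨k, ?_⟩
    have := congrArg Subtype.val hk
    simpa using this
  have hBz : ∀ x ∈ B, x ∈ zpowers (b : G) := by
    intro x hx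
    obtain ⟨k, hk⟩ := Subgroup.mem_zpowers_iff.mp (hb ⟨x, hx⟩)
    refine Subgroup.mem_zpowers_iff.mpr ⟨k, ?_⟩
    have := congrArg Subtype.val hk
    simpa using this
  have hag : (a : G) ∈ zpowers ((a : G) * (b : G)) := by
    let n := Nat.chineseRemainder hcop 1 0
    have h1 : (n : ℕ) ≡ 1 [MOD Nat.card A] := n.2.1
    have h0 : (n : ℕ) ≡ 0 [MOD Nat.card B] := n.2.2
    have hb1 : (b : G) ^ (n : ℕ) = 1 :=
      orderOf_dvd_iff_pow_eq_one.mp (by rw [hob]; exact (Nat.modEq_zero_iff_dvd).mp h0)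
    have ha1 : (a : G) ^ (n : ℕ) = (a : G) := by
      have : (a : G) ^ (n : ℕ) = (a : G) ^ 1 := by
        rw [pow_eq_pow_iff_modEq, hoa]; exact h1
      simpa using this
    have : ((a : G) * (b : G)) ^ (n : ℕ) = (a : G) := by
      rw [hcomm.mul_pow, hb1, ha1, mul_one]
    have hmem : ((a : G) * (b : G)) ^ (n : ℕ) ∈ zpowers ((a : G) * (b : G)) :=
      Subgroup.pow_mem _ (Subgroup.mem_zpowers _) _
    rw [this] at hmem
    exact hmem
  have hbg : (b : G) ∈ zpowers ((a : G) * (b : G)) := by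
    let n := Nat.chineseRemainder hcop 0 1
    have h0 : (n : ℕ) ≡ 0 [MOD Nat.card A] := n.2.1
    have h1 : (n : ℕ) ≡ 1 [MOD Nat.card B] := n.2.2
    have ha1 : (a : G) ^ (n : ℕ) = 1 :=
      orderOf_dvd_iff_pow_eq_one.mp (by rw [hoa]; exact (Nat.modEq_zero_iff_dvd).mp h0)
    have hb1 : (b : G) ^ (n : ℕ) = (b : G) := by
      have : (b : G) ^ (n : ℕ) = (b : G) ^ 1 := by
        rw [pow_eq_pow_iff_modEq, hob]; exact h1
      simpa using this
    have : ((a : G) * (b : G)) ^ (n : ℕ) = (b : G) := by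
      rw [hcomm.mul_pow, hb1, ha1, one_mul]
    have hmem : ((a : G) * (b : G)) ^ (n : ℕ) ∈ zpowers ((a : G) * (b : G)) :=
      Subgroup.pow_mem _ (Subgroup.mem_zpowers _) _
    rw [this] at hmem
    exact hmem
  have heq : A ⊔ B = zpowers ((a : G) * (b : G)) := by
    apply le_antisymm
    · refine sup_le ?_ ?_
      · intro x hx
        exact (Subgroup.zpowers_le.mpr hag) (hAz x hx)
      · intro x hx
        exact (Subgroup.zpowers_le.mpr hbg) (hBz x hx)
    · rw [Subgroup.zpowers_le]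
      exact Subgroup.mul_mem _ (Subgroup.mem_sup_left a.2) (Subgroup.mem_sup_right b.2)
  rw [heq]
  infer_instance

/-- S1368 from the frozen statements S1430, S1378 and S1351. -/
theorem bg1368 {G : Type*} [Group G] [Finite G] (h1430 : Cfsg.Agent.Lib.helper69.H1430 G)
    (h1378 : H1378 G) (h1351 : H1351 G)
    (M : Subgroup G) (hM : IsCoatom M) (K U : Subgroup G) (hKU : IsSigmaDecomposition M K U)
    (hK1 : K ≠ ⊥) (Mstar : Subgroup G) (hMstar : IsCoatom Mstar)
    (hKst : K = sigmaCore Mstar ⊓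
      centralizer ((sigmaCore M ⊓ centralizer (K : Set G) : Subgroup G) : Set G))
    (hKstH : IsPiHallOf (kappa Mstar) (sigmaCore M ⊓ centralizer (K : Set G)) Mstar) :
    M ⊓ Mstar = K ⊔ (sigmaCore M ⊓ centralizer (K : Set G)) ∧
      IsCyclic ↥(K ⊔ (sigmaCore M ⊓ centralizer (K : Set G))) := by
  have hKM : K ≤ M := hKU.hall.1
  have hKsM : sigmaCore M ⊓ centralizer (K : Set G) ≤ M :=
    inf_le_left.trans (Cfsg.Agent.Lib.helper71.BGA.sigmaCore_le M)
  have hKMs : K ≤ sigmaCore Mstar := le_of_eq_of_le hKst inf_le_left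
  have hKMstar : K ≤ Mstar := hKMs.trans (Cfsg.Agent.Lib.helper71.BGA.sigmaCore_le Mstar)
  have hKsMstar : sigmaCore M ⊓ centralizer (K : Set G) ≤ Mstar := hKstH.1
  -- the primes of `K`
  have hprK : ∀ p : ℕ, p.Prime → p ∣ Nat.card K → p ∈ sigma Mstar ∧ p ∉ sigma M := by
    intro p hp hpK
    refine ⟨?_, (hKU.hall.2.1 p hp hpK).2.2.1⟩
    exact Cfsg.Agent.Lib.helper71.BG12.mem_sigma_of_dvd_card_sigmaCore Mstar hp
      (hpK.trans (Subgroup.card_dvd_of_le hKMs))
  have hKcard : Nat.card K ≠ 1 := fun h => hK1 (Subgroup.card_eq_one.mp h)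
  -- sigma(M) and sigma(M*) are disjoint
  have hdisj : ∀ q : ℕ, q ∈ sigma M → q ∈ sigma Mstar → False := by
    intro q hq hq'
    obtain ⟨g, hg⟩ := h1378 M Mstar hM hMstar ⟨q, hq, hq'⟩
    obtain ⟨p, hp, hpK⟩ := Nat.exists_prime_and_dvd hKcard
    have h := hprK p hp hpK
    rw [hg, Cfsg.Agent.Lib.helper3.sigma_map_conj] at h
    exact h.2 h.1
  have hint : sigmaCore M ⊓ sigmaCore Mstar = ⊥ := by
    by_contra hne
    have hc : Nat.card ↥(sigmaCore M ⊓ sigmaCore Mstar) ≠ 1 :=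
      fun h => hne (Subgroup.card_eq_one.mp h)
    obtain ⟨q, hq, hqd⟩ := Nat.exists_prime_and_dvd hc
    exact hdisj q
      (Cfsg.Agent.Lib.helper71.BG12.mem_sigma_of_dvd_card_sigmaCore M hq
        (hqd.trans (Subgroup.card_dvd_of_le inf_le_left)))
      (Cfsg.Agent.Lib.helper71.BG12.mem_sigma_of_dvd_card_sigmaCore Mstar hq
        (hqd.trans (Subgroup.card_dvd_of_le inf_le_right)))
  -- `M*_σ ∩ M ≤ K`
  have hD : sigmaCore Mstar ⊓ M ≤ K := by
    intro d hd
    obtain ⟨hd1, hd2⟩ := Subgroup.mem_inf.mp hd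
    suffices h : d ∈ sigmaCore Mstar ⊓
        centralizer ((sigmaCore M ⊓ centralizer (K : Set G) : Subgroup G) : Set G) by
      rw [hKst]; exact h
    refine Subgroup.mem_inf.mpr ⟨hd1, ?_⟩
    rw [Subgroup.mem_centralizer_iff]
    intro k hk
    have hkKs : k ∈ sigmaCore M ⊓ centralizer (K : Set G) := hk
    have hkMs : k ∈ sigmaCore M := (Subgroup.mem_inf.mp hkKs).1
    have h1 : d * k * d⁻¹ * k⁻¹ ∈ sigmaCore M := by
      have hdn := Cfsg.Agent.Lib.helper71.BGA.le_normalizer_sigmaCore M hd2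
      have : d * k * d⁻¹ ∈ sigmaCore M := (Subgroup.mem_normalizer_iff.mp hdn k).mp hkMs
      exact Subgroup.mul_mem _ this (Subgroup.inv_mem _ hkMs)
    have h2 : d * k * d⁻¹ * k⁻¹ ∈ sigmaCore Mstar := by
      have hkn := Cfsg.Agent.Lib.helper71.BGA.le_normalizer_sigmaCore Mstar (hKsMstar hkKs)
      have h : k * d⁻¹ * k⁻¹ ∈ sigmaCore Mstar :=
        (Subgroup.mem_normalizer_iff.mp hkn d⁻¹).mp (Subgroup.inv_mem _ hd1)
      have h' := Subgroup.mul_mem _ hd1 h
      simpa [mul_assoc] using h'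
    have h3 : d * k * d⁻¹ * k⁻¹ = 1 := by
      have : d * k * d⁻¹ * k⁻¹ ∈ sigmaCore M ⊓ sigmaCore Mstar := Subgroup.mem_inf.mpr ⟨h1, h2⟩
      rw [hint] at this
      exact Subgroup.mem_bot.mp this
    have h4 := mul_inv_eq_one.mp h3
    have h5 := mul_inv_eq_iff_eq_mul.mp h4
    exact h5.symm
  -- every element of `M ∩ M*` normalizes `K = M*_σ ∩ M`
  have hle : M ⊓ Mstar ≤ K ⊔ (sigmaCore M ⊓ centralizer (K : Set G)) := by
    intro g hg
    obtain ⟨hgM, hgMstar⟩ := Subgroup.mem_inf.mp hg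
    have hKeq : ∀ x, x ∈ K ↔ (x ∈ sigmaCore Mstar ∧ x ∈ M) :=
      fun x => ⟨fun hx => ⟨hKMs hx, hKM hx⟩, fun hx => hD (Subgroup.mem_inf.mpr hx)⟩
    have hgK : g ∈ normalizer (K : Set G) := by
      rw [Subgroup.mem_normalizer_iff]
      intro k
      rw [hKeq, hKeq]
      have hgn := Cfsg.Agent.Lib.helper71.BGA.le_normalizer_sigmaCore Mstar hgMstar
      constructor
      · rintro ⟨h1, h2⟩
        exact ⟨(Subgroup.mem_normalizer_iff.mp hgn k).mp h1,
          Subgroup.mul_mem _ (Subgroup.mul_mem _ hgM h2) (Subgroup.inv_mem _ hgM)⟩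
      · rintro ⟨h1, h2⟩
        refine ⟨(Subgroup.mem_normalizer_iff.mp hgn k).mpr h1, ?_⟩
        have : g⁻¹ * (g * k * g⁻¹) * g ∈ M :=
          Subgroup.mul_mem _ (Subgroup.mul_mem _ (Subgroup.inv_mem _ hgM) h2) hgM
        simpa [mul_assoc] using this
    obtain ⟨p, hp, hpK⟩ := Nat.exists_prime_and_dvd hKcard
    have : Fact p.Prime := ⟨hp⟩
    obtain ⟨x, hx⟩ := exists_prime_orderOf_dvd_card' (G := K) p hpK
    have hXp : (Nat.card (zpowers (x : G))).Prime := by
      rw [Nat.card_zpowers, Subgroup.orderOf_coe, hx]; exact hp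
    have h3 := (h1430 M hM K hKU.hall hK1).2.2 (zpowers (x : G))
      (Subgroup.zpowers_le.mpr x.2) hXp
    have hmem : g ∈ M ⊓ normalizer (K : Set G) := Subgroup.mem_inf.mpr ⟨hgM, hgK⟩
    rw [h3.2.1] at hmem
    exact hmem
  refine ⟨le_antisymm hle (sup_le (le_inf hKM hKMstar) (le_inf hKsM hKsMstar)), ?_⟩
  apply bg58_isCyclic_sup_of_coprime K _ hKU.cyclic (h1351 Mstar hMstar _ hKstH)
  · intro a ha b hb
    exact (Subgroup.mem_centralizer_iff.mp (Subgroup.mem_inf.mp hb).2) a ha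
  · apply Nat.coprime_of_dvd'
    intro p hp hpK hpKs
    exfalso
    exact (hprK p hp hpK).2
      (Cfsg.Agent.Lib.helper71.BG12.mem_sigma_of_dvd_card_sigmaCore M hp
        (hpKs.trans (Subgroup.card_dvd_of_le inf_le_left)))

end Cfsg.Agent.Lib.helper58
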