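import Mathlib
import Cfsg.Prelude.Def_OddOrderLocal
import Cfsg.Agent.S1350
import Cfsg.Agent.Lib.helper69.BGKappaB
import Cfsg.Agent.Lib.helper13.BGZhat
import Cfsg.Agent.Lib.helper59.BG1431Fin
import Cfsg.Agent.Lib.helper25.BG1367
import Cfsg.Agent.Lib.helper58.BG1368

/-!
# Bender–Glauberman 14.7(b),(c),(e): the pair `K`, `K*` (S1434)

The frozen statements S1430 (`helper69.H1430`), S1378 (second clause, `H1378`) and S1351 (second
clause, `H1351`) are taken as hypotheses.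
-/

set_option autoImplicit false

namespace Cfsg.Agent.Lib.helper58

open Cfsg Subgroup
open scoped commutatorElement

/-- A group all of whose Sylow `p`-subgroups are cyclic has `p`-rank at most one. -/
theorem bg58_prankLE_one_of_cyclic {H : Type*} [Group H] [Finite H] (p : ℕ) [Fact p.Prime]
    (h : ∀ P : Sylow p H, IsCyclic P) : PRankLE p 1 H := by
  intro A _ hA
  have hAp : IsPGroup p A := by
    intro a
    refine ⟨1, ?_⟩
    rw [pow_one]
    exact Subtype.ext (by simpa using hA a a.2)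
  obtain ⟨P, hP⟩ := hAp.exists_le_sylow
  have hPc := h P
  have hAc : IsCyclic A := by
    have : IsCyclic (A.subgroupOf (P : Subgroup H)) := Subgroup.isCyclic _
    exact isCyclic_of_surjective (Subgroup.subgroupOfEquivOfLe hP).toMonoidHom
      (Subgroup.subgroupOfEquivOfLe hP).surjective
  obtain ⟨g, hg⟩ := hAc.exists_generator
  have hcard : orderOf g = Nat.card A := orderOf_eq_card_of_forall_mem_zpowers hg
  have hgp : g ^ p = 1 := Subtype.ext (by simpa using hA g g.2)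
  have hdvd : orderOf g ∣ p := orderOf_dvd_of_pow_eq_one hgp
  rw [← hcard, pow_one]
  exact Nat.le_of_dvd (Fact.out : p.Prime).pos hdvd

/-- If `M = N K` with `K` commutative normalizing `N`, then `M' ≤ N`. -/
theorem bg58_commutator_le {G : Type*} [Group G] (M N K : Subgroup G)
    (hKc : ∀ a ∈ K, ∀ b ∈ K, a * b = b * a) (hKN : K ≤ normalizer (N : Set G))
    (hdec : ∀ m ∈ M, ∃ n ∈ N, ∃ k ∈ K, m = n * k) : ⁅M, M⁆ ≤ N := by
  rw [Subgroup.commutator_le]
  intro a ha b hb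
  obtain ⟨n1, hn1, k1, hk1, rfl⟩ := hdec a ha
  obtain ⟨n2, hn2, k2, hk2, rfl⟩ := hdec b hb
  have hc := hKc k1 hk1 k2 hk2
  have hnorm := Subgroup.le_normalizer_iff.mp hKN
  have e : ⁅n1 * k1, n2 * k2⁆ = n1 * (k1 * n2 * k1⁻¹) * (k2 * n1⁻¹ * k2⁻¹) * n2⁻¹ := by
    rw [commutatorElement_def]
    have h1 : k1 * n2 * k2 * k1⁻¹ = k1 * n2 * k1⁻¹ * k2 := by
      have : k2 * k1⁻¹ = k1⁻¹ * k2 := by
        rw [eq_inv_mul_iff_mul_eq, ← mul_assoc, hc, mul_assoc, mul_inv_cancel, mul_one]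
      rw [mul_assoc (k1 * n2), this]; group
    calc n1 * k1 * (n2 * k2) * (n1 * k1)⁻¹ * (n2 * k2)⁻¹
        = n1 * (k1 * n2 * k2 * k1⁻¹) * n1⁻¹ * k2⁻¹ * n2⁻¹ := by group
      _ = n1 * (k1 * n2 * k1⁻¹ * k2) * n1⁻¹ * k2⁻¹ * n2⁻¹ := by rw [h1]
      _ = n1 * (k1 * n2 * k1⁻¹) * (k2 * n1⁻¹ * k2⁻¹) * n2⁻¹ := by group
  rw [e]
  exact N.mul_mem (N.mul_mem (N.mul_mem hn1 (hnorm k1 hk1 n2 hn2))
    (hnorm k2 hk2 _ (N.inv_mem hn1))) (N.inv_mem hn2)

/-- Counting the union of the conjugates of a TI-subset `X` not containing `1`. -/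
theorem bg58_ti_conj_count {G : Type*} [Group G] [Finite G] (X : Set G) (N : Subgroup G)
    (hN : Subgroup.normalizer X = N) (hTI : IsTISubset X) (h1 : (1 : G) ∉ X) :
    Nat.card N * Set.ncard {a : G | ∃ g : G, ∃ z ∈ X, a = g * z * g⁻¹} =
      Set.ncard X * Nat.card G := by
  classical
  let φ : (G ⧸ N) × X → G := fun q => q.1.out * (q.2 : G) * (q.1.out)⁻¹
  have hinj : Function.Injective φ := by
    rintro ⟨q, z⟩ ⟨q', z'⟩ h
    have h' : q.out * (z : G) * (q.out)⁻¹ = q'.out * (z' : G) * (q'.out)⁻¹ := h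
    have h2 : (q'.out⁻¹ * q.out) * (z : G) * (q'.out⁻¹ * q.out)⁻¹ = (z' : G) := by
      calc (q'.out⁻¹ * q.out) * (z : G) * (q'.out⁻¹ * q.out)⁻¹
          = q'.out⁻¹ * (q.out * (z : G) * (q.out)⁻¹) * q'.out := by group
        _ = q'.out⁻¹ * (q'.out * (z' : G) * (q'.out)⁻¹) * q'.out := by rw [h']
        _ = (z' : G) := by group
    have h3n : q'.out⁻¹ * q.out ∈ Subgroup.normalizer X := by
      by_contra hcon
      have := hTI _ hcon z z.2 (by rw [h2]; exact z'.2)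
      exact h1 (this ▸ z.2)
    have h3 : q'.out⁻¹ * q.out ∈ N := by
      rw [hN] at h3n; exact h3n
    have hq : q' = q := by
      rw [← QuotientGroup.out_eq' q', ← QuotientGroup.out_eq' q]
      exact QuotientGroup.eq.mpr h3
    subst hq
    have h4 : (z : G) = (z' : G) := by
      exact mul_left_cancel (mul_right_cancel h')
    exact Prod.ext rfl (Subtype.ext h4)
  have hrange : Set.range φ = {a : G | ∃ g : G, ∃ z ∈ X, a = g * z * g⁻¹} := by
    ext a
    constructor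
    · rintro ⟨⟨q, z⟩, rfl⟩
      exact ⟨q.out, z, z.2, rfl⟩
    · rintro ⟨g, z, hz, rfl⟩
      obtain ⟨n, hn⟩ := QuotientGroup.mk_out_eq_mul N g
      have hnN : (n : G)⁻¹ ∈ Subgroup.normalizer X := by rw [hN]; exact N.inv_mem n.2
      have hz' : (n : G)⁻¹ * z * ((n : G)⁻¹)⁻¹ ∈ X :=
        (Subgroup.mem_set_normalizer_iff.mp hnN z).mp hz
      refine ⟨⟨(g : G ⧸ N), ⟨_, hz'⟩⟩, ?_⟩
      show ((g : G ⧸ N)).out * ((n : G)⁻¹ * z * ((n : G)⁻¹)⁻¹) * ((g : G ⧸ N)).out⁻¹ = _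
      rw [hn]; group
  rw [← hrange, ← Nat.card_coe_set_eq, ← Nat.card_congr (Equiv.ofInjective φ hinj),
    Nat.card_prod, Nat.card_coe_set_eq]
  have := Subgroup.card_eq_card_quotient_mul_card_subgroup N
  rw [this]; ring

/-- The size of `Ẑ = K K* ∖ (K ∪ K*)`. -/
theorem bg58_zhat_ncard {G : Type*} [Group G] [Finite G] (K Ks : Subgroup G)
    (hdisj : K ⊓ Ks = ⊥) :
    Set.ncard ((↑(K ⊔ Ks) : Set G) \ ((K : Set G) ∪ ↑Ks)) + (Nat.card K + Nat.card Ks) =
      Nat.card ↥(K ⊔ Ks) + 1 := by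
  have hsub : ((K : Set G) ∪ ↑Ks) ⊆ (↑(K ⊔ Ks) : Set G) := by
    rintro x (hx | hx)
    · exact (le_sup_left : K ≤ K ⊔ Ks) hx
    · exact (le_sup_right : Ks ≤ K ⊔ Ks) hx
  have h1 := Set.ncard_sdiff_add_ncard_of_subset hsub (Set.toFinite _)
  have h2 := Set.ncard_union_add_ncard_inter (K : Set G) (Ks : Set G) (Set.toFinite _) (Set.toFinite _)
  have h3 : ((K : Set G) ∩ ↑Ks) = {1} := by
    ext x
    simp only [Set.mem_inter_iff, SetLike.mem_coe, Set.mem_singleton_iff]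
    rw [← Subgroup.mem_inf, hdisj, Subgroup.mem_bot]
  rw [h3, Set.ncard_singleton] at h2
  have e1 : Set.ncard (↑(K ⊔ Ks) : Set G) = Nat.card ↥(K ⊔ Ks) := Nat.card_coe_set_eq _
  have e2 : Set.ncard (K : Set G) = Nat.card K := Nat.card_coe_set_eq _
  have e3 : Set.ncard (Ks : Set G) = Nat.card Ks := Nat.card_coe_set_eq _
  rw [e1] at h1
  rw [e2, e3] at h2
  omega


/-- An element commuting with `x ≠ 1` centralizes a subgroup of prime order of any subgroup
containing `x`. -/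
theorem bg58_exists_prime_sub {G : Type*} [Group G] [Finite G] (A : Subgroup G) {x g : G}
    (hx : x ∈ A) (hx1 : x ≠ 1) (hg : g * x = x * g) :
    ∃ X : Subgroup G, X ≤ A ∧ (Nat.card X).Prime ∧ g ∈ centralizer (X : Set G) := by
  have hox : orderOf x ≠ 1 := by rwa [Ne, orderOf_eq_one_iff]
  obtain ⟨p, hp, hpx⟩ := Nat.exists_prime_and_dvd hox
  have how : orderOf (x ^ (orderOf x / p)) = p :=
    orderOf_pow_orderOf_div (orderOf_pos x).ne' hpx
  refine ⟨zpowers (x ^ (orderOf x / p)), Subgroup.zpowers_le.mpr (A.pow_mem hx _), ?_, ?_⟩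
  · rw [Nat.card_zpowers, how]; exact hp
  · rw [Subgroup.mem_centralizer_iff]
    intro h hh
    obtain ⟨n, rfl⟩ := Subgroup.mem_zpowers_iff.mp hh
    have hc : Commute g x := hg
    exact ((hc.pow_right _).zpow_right n).eq.symm

/-- The centralizer in `M` of a non-identity element of `K` is `Z`, given the normalizers of the
subgroups of prime order of `K`. -/
theorem bg58_cent_eq {G : Type*} [Group G] [Finite G] (M K Z : Subgroup G)
    (h3 : ∀ X : Subgroup G, X ≤ K → (Nat.card X).Prime → M ⊓ normalizer (X : Set G) = Z)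
    (hZc : ∀ a ∈ Z, ∀ b ∈ Z, a * b = b * a) (hKZ : K ≤ Z) (hZM : Z ≤ M)
    (x : G) (hx : x ∈ K) (hx1 : x ≠ 1) : M ⊓ centralizer ({x} : Set G) = Z := by
  apply le_antisymm
  · intro g hg
    obtain ⟨hgM, hgc⟩ := Subgroup.mem_inf.mp hg
    have hgx : g * x = x * g :=
      (Subgroup.mem_centralizer_iff.mp hgc x (Set.mem_singleton x)).symm
    obtain ⟨X, hXK, hXp, hgX⟩ := bg58_exists_prime_sub K hx hx1 hgx
    rw [← h3 X hXK hXp]
    exact Subgroup.mem_inf.mpr ⟨hgM, Subgroup.centralizer_le_normalizer _ hgX⟩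
  · refine le_inf hZM ?_
    intro z hz
    rw [Subgroup.mem_centralizer_iff]
    intro h hh
    rw [Set.mem_singleton_iff.mp hh]
    exact hZc x (hKZ hx) z hz

/-- `σ(M)` and `σ(M*)` are disjoint. -/
theorem bg58_sigma_disjoint {G : Type*} [Group G] [Finite G] (h1378 : H1378 G)
    (M : Subgroup G) (hM : IsCoatom M) (K U : Subgroup G) (hKU : IsSigmaDecomposition M K U)
    (hK1 : K ≠ ⊥) (Mstar : Subgroup G) (hMstar : IsCoatom Mstar)
    (hKMs : K ≤ sigmaCore Mstar) : ∀ q : ℕ, q ∈ sigma M → q ∈ sigma Mstar → False := by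
  have hprK : ∀ p : ℕ, p.Prime → p ∣ Nat.card K → p ∈ sigma Mstar ∧ p ∉ sigma M := by
    intro p hp hpK
    refine ⟨?_, (hKU.hall.2.1 p hp hpK).2.2.1⟩
    exact Cfsg.Agent.Lib.helper71.BG12.mem_sigma_of_dvd_card_sigmaCore Mstar hp
      (hpK.trans (Subgroup.card_dvd_of_le hKMs))
  have hKcard : Nat.card K ≠ 1 := fun h => hK1 (Subgroup.card_eq_one.mp h)
  intro q hq hq'
  obtain ⟨g, hg⟩ := h1378 M Mstar hM hMstar ⟨q, hq, hq'⟩
  obtain ⟨p, hp, hpK⟩ := Nat.exists_prime_and_dvd hKcard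
  have h := hprK p hp hpK
  rw [hg, Cfsg.Agent.Lib.helper3.sigma_map_conj] at h
  exact h.2 h.1

/-- B-G 14.7(b), last part: `κ(M) = τ₁(M)` when `K ≠ 1`. -/
theorem bg1434_kappa_eq_tau1 {G : Type*} [Group G] [Finite G] (hG : IsMinSimpleOddOrder G)
    (h1430 : Cfsg.Agent.Lib.helper69.H1430 G)
    (M : Subgroup G) (hM : IsCoatom M) (K U : Subgroup G) (hKU : IsSigmaDecomposition M K U)
    (hK1 : K ≠ ⊥) : kappa M = tau1 M := by
  have hHall := (Cfsg.Agent.S1350.result hG M hM).1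
  have hUH := Cfsg.Agent.Lib.helper69.bgk_decomp_hall hHall hKU
  obtain ⟨-, hreg⟩ := Cfsg.Agent.Lib.helper69.bgk_decomp_facts hG h1430 M hM hHall K U hKU hK1
  have hKM : K ≤ M := hKU.hall.1
  have hUM : U ≤ M := hKU.compl.1
  have hMn := Cfsg.Agent.Lib.helper71.BGA.le_normalizer_sigmaCore M
  have hcardM : Nat.card U * Nat.card ↥(K ⊔ sigmaCore M) = Nat.card M :=
    Cfsg.Agent.Lib.helper29.IsComplIn.card_mul hKU.compl
  have hcardKS := Cfsg.Agent.Lib.helper69.bgk_card_sup hKU.hall hHall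
  have hKc : ∀ a ∈ K, ∀ b ∈ K, a * b = b * a := by
    intro a ha b hb
    have := hKU.cyclic
    have h := (IsCyclic.commGroup (α := K)).mul_comm ⟨a, ha⟩ ⟨b, hb⟩
    exact congrArg Subtype.val h
  ext p
  constructor
  · rintro ⟨hpp, hpM, hpσ, hcyc⟩
    have : Fact p.Prime := ⟨hpp⟩
    refine ⟨hpp, hpσ, hpM, ?_, bg58_prankLE_one_of_cyclic p (fun P => (hcyc P).1)⟩
    intro hdvd
    have hle : ⁅M, M⁆ ≤ sigmaCore M ⊔ U := by
      apply bg58_commutator_le M (sigmaCore M ⊔ U) K hKc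
      · exact Cfsg.Agent.Lib.helper69.bgk_le_normalizer_sup (hKM.trans hMn) hKU.normal
      · intro m hm
        obtain ⟨u, hu, b, hb, rfl⟩ := hKU.compl.2.2.2 m hm
        have hb' : b ∈ sigmaCore M ⊔ K := by rw [sup_comm]; exact hb
        obtain ⟨s, hs, k, hk, rfl⟩ :=
          Cfsg.Agent.Lib.helper29.exists_mul_of_mem_sup_of_le_normalizer (hKM.trans hMn) hb'
        refine ⟨u * s, ?_, k, hk, by group⟩
        exact Subgroup.mul_mem _ (Subgroup.mem_sup_right hu) (Subgroup.mem_sup_left hs)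
    have hSU : sigmaCore M ⊓ U = ⊥ :=
      disjoint_iff.mp (Subgroup.disjoint_of_coprime_natCard
        (Nat.coprime_of_dvd fun k hk h1 h2 => (hUH.2.1 k hk h2).2.2 (hHall.2.1 k hk h1)))
    have hc := Cfsg.Agent.Lib.helper3.zg_card_sup (sigmaCore M) U (hUM.trans hMn) hSU
    have h2 := hdvd.trans (Subgroup.card_dvd_of_le hle)
    rw [hc] at h2
    rcases (Nat.Prime.dvd_mul hpp).mp h2 with h | h
    · exact hpσ (hHall.2.1 p hpp h)
    · exact (hUH.2.1 p hpp h).2.1 ⟨hpp, hpM, hpσ, hcyc⟩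
  · rintro ⟨hpp, hpσ, hpM, hpc, -⟩
    by_contra hpκ
    have hpU : p ∣ Nat.card U := by
      rw [← hcardM, ← hcardKS] at hpM
      rcases (Nat.Prime.dvd_mul hpp).mp hpM with h | h
      · exact h
      · rcases (Nat.Prime.dvd_mul hpp).mp h with h | h
        · exact absurd (hHall.2.1 p hpp h) hpσ
        · exact absurd (hKU.hall.2.1 p hpp h) hpκ
    have hUc := Cfsg.Agent.Lib.helper25.BG1367.U_le_comm M K U hUM hKM hKU.normal hK1 hreg
    exact hpc (hpU.trans (Subgroup.card_dvd_of_le hUc))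

/-- B-G 14.7(b): `K*` is a Hall `σ(M)`-subgroup of `M*`. -/
theorem bg1434_hall {G : Type*} [Group G] [Finite G] (hG : IsMinSimpleOddOrder G)
    (h1430 : Cfsg.Agent.Lib.helper69.H1430 G) (h1378 : H1378 G) (h1351 : H1351 G)
    (M : Subgroup G) (hM : IsCoatom M) (K U : Subgroup G) (hKU : IsSigmaDecomposition M K U)
    (hK1 : K ≠ ⊥) (Mstar : Subgroup G) (hMstar : IsCoatom Mstar)
    (hKst : K = sigmaCore Mstar ⊓
      centralizer ((sigmaCore M ⊓ centralizer (K : Set G) : Subgroup G) : Set G))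
    (hKstH : IsPiHallOf (kappa Mstar) (sigmaCore M ⊓ centralizer (K : Set G)) Mstar) :
    IsPiHallOf (sigma M) (sigmaCore M ⊓ centralizer (K : Set G)) Mstar := by
  obtain ⟨hcomm, hcop, hKs1, hKσ⟩ :=
    Cfsg.Agent.Lib.helper13.bgz_setup hG h1430 M hM K hKU.hall hK1
  obtain ⟨hint, -⟩ := bg1368 h1430 h1378 h1351 M hM K U hKU hK1 Mstar hMstar hKst hKstH
  obtain ⟨-, -, -, h31d⟩ :=
    Cfsg.Agent.Lib.helper59.BG1431.s1431_of_h1430 hG h1430 M hM K hKU.hall hK1
  have hKMs : K ≤ sigmaCore Mstar := le_of_eq_of_le hKst inf_le_left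
  have hdisjσ := bg58_sigma_disjoint h1378 M hM K U hKU hK1 Mstar hMstar hKMs
  have hSM : sigmaCore M ≤ M := Cfsg.Agent.Lib.helper71.BGA.sigmaCore_le M
  have hKsσ : ∀ p : ℕ, p.Prime → p ∣ Nat.card ↥(sigmaCore M ⊓ centralizer (K : Set G)) →
      p ∈ sigma M := fun p hp h =>
    Cfsg.Agent.Lib.helper71.BG12.mem_sigma_of_dvd_card_sigmaCore M hp
      (h.trans (Subgroup.card_dvd_of_le inf_le_left))
  refine ⟨hKstH.1, hKsσ, fun p hp hpσ hdvd => ?_⟩
  by_cases hpκ : p ∈ kappa Mstar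
  · exact hKstH.2.2 p hp hpκ hdvd
  have hpMst : p ∣ Nat.card Mstar := by
    rw [← Cfsg.Agent.Lib.helper69.bgk_card_mul_relIndex hKstH.1]
    exact Dvd.dvd.mul_left hdvd _
  have hpσst : p ∉ sigma Mstar := fun h => hdisjσ p hpσ h
  obtain ⟨-, ⟨Ust, hUc, hUH, hKsU, -⟩, -⟩ := h1430 Mstar hMstar _ hKstH hKs1
  have hpU : p ∣ Nat.card Ust := by
    have h1 := Cfsg.Agent.Lib.helper69.bgk_card_mul_relIndex hUH.1
    rw [← h1] at hpMst
    rcases (Nat.Prime.dvd_mul hp).mp hpMst with h | h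
    · exact h
    · exact absurd h (hUH.2.2 p hp ⟨hp, hpκ, hpσst⟩)
  have hUcomm : ∀ a ∈ Ust, ∀ b ∈ Ust, a * b = b * a := fun a ha b hb =>
    congrArg Subtype.val (hUc.is_comm.comm ⟨a, ha⟩ ⟨b, hb⟩)
  let P : Subgroup G :=
    { carrier := {u | u ∈ Ust ∧ u ^ (p ^ Nat.card G) = 1}
      mul_mem' := by
        rintro a b ⟨ha, ha'⟩ ⟨hb, hb'⟩
        refine ⟨Ust.mul_mem ha hb, ?_⟩
        have hc : Commute a b := hUcomm a ha b hb
        rw [hc.mul_pow, ha', hb', one_mul]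
      one_mem' := ⟨Ust.one_mem, one_pow _⟩
      inv_mem' := by
        rintro a ⟨ha, ha'⟩
        exact ⟨Ust.inv_mem ha, by rw [inv_pow, ha', inv_one]⟩ }
  have hPmem : ∀ u, u ∈ P ↔ u ∈ Ust ∧ u ^ (p ^ Nat.card G) = 1 := fun u => Iff.rfl
  have hPp : IsPGroup p P := fun u => ⟨Nat.card G, Subtype.ext u.2.2⟩
  have : Fact p.Prime := ⟨hp⟩
  obtain ⟨u, hu⟩ := exists_prime_orderOf_dvd_card' (G := Ust) p hpU
  have hou : orderOf (u : G) = p := by rw [Subgroup.orderOf_coe]; exact hu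
  have huP : (u : G) ∈ P := by
    refine ⟨u.2, ?_⟩
    apply orderOf_dvd_iff_pow_eq_one.mp
    rw [hou]; exact dvd_pow_self p (Nat.card_pos.ne')
  have hKsP : sigmaCore M ⊓ centralizer (K : Set G) ≤ normalizer (P : Set G) := by
    intro k hk
    rw [Subgroup.mem_normalizer_iff]
    intro h
    have hkU := Subgroup.mem_normalizer_iff.mp (hKsU hk) h
    rw [hPmem, hPmem, ← hkU, conj_pow]
    constructor
    · rintro ⟨h1, h2⟩
      exact ⟨h1, by rw [h2]; group⟩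
    · rintro ⟨h1, h2⟩
      refine ⟨h1, ?_⟩
      have := congrArg (fun t => k⁻¹ * t * k) h2
      simpa [mul_assoc] using this
  have hqP : ∀ q : ℕ, q.Prime → q ∣ Nat.card P → q = p := by
    intro q hq h1
    obtain ⟨n, hn⟩ := IsPGroup.iff_card.mp hPp
    rw [hn] at h1
    exact (Nat.prime_dvd_prime_iff_eq hq hp).mp (hq.dvd_of_dvd_pow h1)
  have hPKs : P ⊓ (sigmaCore M ⊓ centralizer (K : Set G)) = ⊥ := by
    apply disjoint_iff.mp
    apply Subgroup.disjoint_of_coprime_natCard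
    apply Nat.coprime_of_dvd
    intro q hq h1 h2
    have hqp := hqP q hq h1
    exact hpκ (hqp ▸ hKstH.2.1 q hq h2)
  have hcardY := Cfsg.Agent.Lib.helper3.zg_card_sup P _ hKsP hPKs
  have hYσ : ∀ q : ℕ, q.Prime →
      q ∣ Nat.card ↥(P ⊔ (sigmaCore M ⊓ centralizer (K : Set G))) → q ∈ sigma M := by
    intro q hq hdvd
    rw [hcardY] at hdvd
    rcases (Nat.Prime.dvd_mul hq).mp hdvd with h | h
    · rw [hqP q hq h]; exact hpσ
    · exact hKsσ q hq h
  have hYle : P ⊔ (sigmaCore M ⊓ centralizer (K : Set G)) ≤ sigmaCore M := by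
    apply h31d _ hYσ
    rw [inf_eq_right.mpr le_sup_right]
    exact hKs1
  have huZ : (u : G) ∈ K ⊔ (sigmaCore M ⊓ centralizer (K : Set G)) := by
    rw [← hint]
    exact Subgroup.mem_inf.mpr ⟨hSM (hYle (Subgroup.mem_sup_left huP)), hUH.1 u.2⟩
  have hcardZ : Nat.card ↥(K ⊔ (sigmaCore M ⊓ centralizer (K : Set G))) =
      Nat.card K * Nat.card ↥(sigmaCore M ⊓ centralizer (K : Set G)) :=
    Cfsg.Agent.Lib.helper3.zg_card_sup K _
      (Cfsg.Agent.Lib.helper13.bgz_le_normalizer_of_comm hcomm)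
      (by rw [← inf_assoc, hKσ, bot_inf_eq])
  have hpZ : p ∣ Nat.card ↥(K ⊔ (sigmaCore M ⊓ centralizer (K : Set G))) := by
    rw [← hou]; exact Subgroup.orderOf_dvd_natCard _ huZ
  rw [hcardZ] at hpZ
  rcases (Nat.Prime.dvd_mul hp).mp hpZ with h | h
  · exact (hKU.hall.2.1 p hp h).2.2.1 hpσ
  · exact hpκ (hKstH.2.1 p hp h)

/-- B-G 14.7(c): the centralizers of the non-identity elements of `K`, `K*`. -/
theorem bg1434_cent {G : Type*} [Group G] [Finite G] (hG : IsMinSimpleOddOrder G)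
    (h1430 : Cfsg.Agent.Lib.helper69.H1430 G) (h1378 : H1378 G) (h1351 : H1351 G)
    (M : Subgroup G) (hM : IsCoatom M) (K U : Subgroup G) (hKU : IsSigmaDecomposition M K U)
    (hK1 : K ≠ ⊥) (Mstar : Subgroup G) (hMstar : IsCoatom Mstar)
    (hKst : K = sigmaCore Mstar ⊓
      centralizer ((sigmaCore M ⊓ centralizer (K : Set G) : Subgroup G) : Set G))
    (hKstH : IsPiHallOf (kappa Mstar) (sigmaCore M ⊓ centralizer (K : Set G)) Mstar) :
    ∀ x ∈ K, x ≠ 1 → ∀ y ∈ (sigmaCore M ⊓ centralizer (K : Set G)), y ≠ 1 →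
      M ⊓ centralizer ({x} : Set G) = K ⊔ (sigmaCore M ⊓ centralizer (K : Set G)) ∧
      Mstar ⊓ centralizer ({y} : Set G) = K ⊔ (sigmaCore M ⊓ centralizer (K : Set G)) ∧
      centralizer ({x * y} : Set G) = K ⊔ (sigmaCore M ⊓ centralizer (K : Set G)) := by
  obtain ⟨hcomm, hcop, hKs1, hKσ⟩ :=
    Cfsg.Agent.Lib.helper13.bgz_setup hG h1430 M hM K hKU.hall hK1
  obtain ⟨hint, hcyc⟩ := bg1368 h1430 h1378 h1351 M hM K U hKU hK1 Mstar hMstar hKst hKstH
  obtain ⟨h67a, h67b⟩ := Cfsg.Agent.Lib.helper25.BG1367.s1367_of_h1430 hG h1430 M hM K U hKU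
    hK1 Mstar hMstar hKst hKstH
  have hZc : ∀ a ∈ K ⊔ (sigmaCore M ⊓ centralizer (K : Set G)),
      ∀ b ∈ K ⊔ (sigmaCore M ⊓ centralizer (K : Set G)), a * b = b * a := by
    intro a ha b hb
    have := hcyc
    have h := (IsCyclic.commGroup
      (α := ↥(K ⊔ (sigmaCore M ⊓ centralizer (K : Set G))))).mul_comm ⟨a, ha⟩ ⟨b, hb⟩
    exact congrArg Subtype.val h
  have hZM : K ⊔ (sigmaCore M ⊓ centralizer (K : Set G)) ≤ M := by
    rw [← hint]; exact inf_le_left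
  have hZMst : K ⊔ (sigmaCore M ⊓ centralizer (K : Set G)) ≤ Mstar := by
    rw [← hint]; exact inf_le_right
  intro x hx hx1 y hy hy1
  refine ⟨?_, ?_, ?_⟩
  · exact bg58_cent_eq M K _
      (fun X hX hXp => ((h1430 M hM K hKU.hall hK1).2.2 X hX hXp).1) hZc le_sup_left hZM x hx hx1
  · refine bg58_cent_eq Mstar _ _ (fun X hX hXp => ?_) hZc le_sup_right hZMst y hy hy1
    have h := ((h1430 Mstar hMstar _ hKstH hKs1).2.2 X hX hXp).1
    rw [← hKst, sup_comm] at h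
    exact h
  · apply le_antisymm
    · intro g hg
      have hgxy : (x * y) * g = g * (x * y) :=
        Subgroup.mem_centralizer_iff.mp hg (x * y) (Set.mem_singleton _)
      have hxy : x * y = y * x := hcomm x hx y hy
      obtain ⟨e, he⟩ := Cfsg.Agent.Lib.helper13.bgz_exists_pow hcop
      obtain ⟨e', he'⟩ := Cfsg.Agent.Lib.helper13.bgz_exists_pow hcop.symm
      have hc : Commute g (x * y) := hgxy.symm
      have hgy : g * y = y * g := by
        have h := (hc.zpow_right e).eq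
        rwa [he x hx y hy hxy] at h
      have hgx : g * x = x * g := by
        have h := (hc.zpow_right e').eq
        rw [hxy, he' y hy x hx hxy.symm] at h
        exact h
      obtain ⟨X, hXK, hXp, hgX⟩ := bg58_exists_prime_sub K hx hx1 hgx
      obtain ⟨Y, hYK, hYp, hgY⟩ := bg58_exists_prime_sub _ hy hy1 hgy
      rw [← hint]
      exact Subgroup.mem_inf.mpr ⟨(h67a Y hYK hYp).1 hgY, (h67b X hXK hXp).1 hgX⟩
    · intro z hz
      rw [Subgroup.mem_centralizer_iff]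
      intro h hh
      rw [Set.mem_singleton_iff.mp hh]
      exact hZc _ (Subgroup.mul_mem _ (Subgroup.mem_sup_left hx) (Subgroup.mem_sup_right hy)) z hz

/-- B-G 14.7(e), first part: `Ẑ` meets no conjugate `M^g`, `g ∉ M`. -/
theorem bg1434_disj {G : Type*} [Group G] [Finite G] (hG : IsMinSimpleOddOrder G)
    (h1430 : Cfsg.Agent.Lib.helper69.H1430 G)
    (M : Subgroup G) (hM : IsCoatom M) (K U : Subgroup G) (hKU : IsSigmaDecomposition M K U)
    (hK1 : K ≠ ⊥) :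
    ∀ g : G, g ∉ M → ∀ z ∈ ((↑(K ⊔ (sigmaCore M ⊓ centralizer (K : Set G))) : Set G) \
        ((K : Set G) ∪ ↑(sigmaCore M ⊓ centralizer (K : Set G)))),
      z ∉ M.map (MulAut.conj g).toMonoidHom := by
  obtain ⟨hcomm, hcop, hKs1, hKσ⟩ :=
    Cfsg.Agent.Lib.helper13.bgz_setup hG h1430 M hM K hKU.hall hK1
  obtain ⟨h31a, -⟩ :=
    Cfsg.Agent.Lib.helper59.BG1431.s1431_of_h1430 hG h1430 M hM K hKU.hall hK1
  intro g hg z hz hzM
  obtain ⟨a, ha, b, hb, rfl⟩ := Cfsg.Agent.Lib.helper13.bgz_decomp hcomm hz.1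
  have hb1 : b ≠ 1 := by
    rintro rfl
    exact hz.2 (Or.inl (by simpa using ha))
  obtain ⟨e, he⟩ := Cfsg.Agent.Lib.helper13.bgz_exists_pow hcop
  have hbM : b ∈ M.map (MulAut.conj g).toMonoidHom := by
    rw [← he a ha b hb (hcomm a ha b hb)]
    exact Subgroup.zpow_mem _ hzM e
  have h3 : b ∈ (sigmaCore M ⊓ centralizer (K : Set G)) ⊓ M.map (MulAut.conj g).toMonoidHom :=
    Subgroup.mem_inf.mpr ⟨hb, hbM⟩
  rw [h31a g hg, Subgroup.mem_bot] at h3
  exact hb1 h3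

/-- B-G 14.7(e), second part: the number of elements of the conjugates of `Ẑ`. -/
theorem bg1434_count {G : Type*} [Group G] [Finite G] (hG : IsMinSimpleOddOrder G)
    (h1430 : Cfsg.Agent.Lib.helper69.H1430 G)
    (M : Subgroup G) (hM : IsCoatom M) (K U : Subgroup G) (hKU : IsSigmaDecomposition M K U)
    (hK1 : K ≠ ⊥) :
    Nat.card K * Nat.card ↥(sigmaCore M ⊓ centralizer (K : Set G)) *
        Set.ncard {a : G | ∃ g : G, ∃ z ∈ ((↑(K ⊔ (sigmaCore M ⊓ centralizer (K : Set G))) :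
          Set G) \ ((K : Set G) ∪ ↑(sigmaCore M ⊓ centralizer (K : Set G)))),
          a = g * z * g⁻¹} =
      (Nat.card K * Nat.card ↥(sigmaCore M ⊓ centralizer (K : Set G)) - Nat.card K -
        Nat.card ↥(sigmaCore M ⊓ centralizer (K : Set G)) + 1) * Nat.card G ∧
    Nat.card G < 2 * Set.ncard {a : G | ∃ g : G,
      ∃ z ∈ ((↑(K ⊔ (sigmaCore M ⊓ centralizer (K : Set G))) : Set G) \
        ((K : Set G) ∪ ↑(sigmaCore M ⊓ centralizer (K : Set G)))), a = g * z * g⁻¹} := by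
  obtain ⟨hcomm, hcop, hKs1, hKσ⟩ :=
    Cfsg.Agent.Lib.helper13.bgz_setup hG h1430 M hM K hKU.hall hK1
  obtain ⟨hTI, hNorm⟩ := Cfsg.Agent.Lib.helper13.bgz_1370 hG h1430
    (Cfsg.Agent.Lib.helper59.BG1431.h1431_of_h1430 hG h1430) M hM K U hKU hK1
  have hdisj : K ⊓ (sigmaCore M ⊓ centralizer (K : Set G)) = ⊥ := by
    rw [← inf_assoc, hKσ, bot_inf_eq]
  have hcardZ : Nat.card ↥(K ⊔ (sigmaCore M ⊓ centralizer (K : Set G))) =
      Nat.card K * Nat.card ↥(sigmaCore M ⊓ centralizer (K : Set G)) :=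
    Cfsg.Agent.Lib.helper3.zg_card_sup K _
      (Cfsg.Agent.Lib.helper13.bgz_le_normalizer_of_comm hcomm) hdisj
  have h1 : (1 : G) ∉ ((↑(K ⊔ (sigmaCore M ⊓ centralizer (K : Set G))) : Set G) \
      ((K : Set G) ∪ ↑(sigmaCore M ⊓ centralizer (K : Set G)))) :=
    fun h => h.2 (Or.inl K.one_mem)
  have hcount := bg58_ti_conj_count _ _ hNorm hTI h1
  have hz := bg58_zhat_ncard K (sigmaCore M ⊓ centralizer (K : Set G)) hdisj
  rw [hcardZ] at hcount hz
  have hGpos : 0 < Nat.card G := Nat.card_pos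
  have hoddG : Odd (Nat.card G) := hG.1
  have hoddK : Odd (Nat.card K) := Odd.of_dvd_nat hoddG (Subgroup.card_subgroup_dvd_card K)
  have hoddKs : Odd (Nat.card ↥(sigmaCore M ⊓ centralizer (K : Set G))) :=
    Odd.of_dvd_nat hoddG (Subgroup.card_subgroup_dvd_card _)
  have hK1' : Nat.card K ≠ 1 := fun h => hK1 (Subgroup.card_eq_one.mp h)
  have hKs1' : Nat.card ↥(sigmaCore M ⊓ centralizer (K : Set G)) ≠ 1 :=
    fun h => hKs1 (Subgroup.card_eq_one.mp h)
  revert hcount hz hcop hoddK hoddKs hK1' hKs1'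
  generalize Set.ncard {a : G | ∃ g : G,
      ∃ z ∈ ((↑(K ⊔ (sigmaCore M ⊓ centralizer (K : Set G))) : Set G) \
        ((K : Set G) ∪ ↑(sigmaCore M ⊓ centralizer (K : Set G)))), a = g * z * g⁻¹} = C
  generalize Set.ncard ((↑(K ⊔ (sigmaCore M ⊓ centralizer (K : Set G))) : Set G) \
        ((K : Set G) ∪ ↑(sigmaCore M ⊓ centralizer (K : Set G)))) = n
  generalize Nat.card ↥(sigmaCore M ⊓ centralizer (K : Set G)) = b
  generalize Nat.card K = a
  generalize Nat.card G = N at hGpos ⊢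
  intro hcop hcount hz ⟨i, hi⟩ ⟨j, hj⟩ ha1 hb1
  have ha3 : 3 ≤ a := by omega
  have hb3 : 3 ≤ b := by omega
  have h33 : ¬ (a = 3 ∧ b = 3) := by
    rintro ⟨rfl, rfl⟩
    exact absurd hcop (by decide)
  have hab : a + b ≤ a * b := by nlinarith
  have hn : n = a * b - a - b + 1 := by omega
  have hlt : a * b < 2 * n := by
    rcases Nat.lt_or_ge a 5 with h | h
    · have ha : a = 3 := by omega
      have hb5 : 5 ≤ b := by omega
      subst ha
      omega
    · nlinarith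
  refine ⟨by rw [hcount, hn], ?_⟩
  by_contra hcon
  have hle : 2 * C ≤ N := Nat.le_of_not_lt hcon
  have h2 : a * b * (2 * C) ≤ a * b * N := Nat.mul_le_mul_left _ hle
  have h3 : a * b * N < 2 * n * N := Nat.mul_lt_mul_of_pos_right hlt hGpos
  have h4 : a * b * (2 * C) = 2 * n * N := by linear_combination 2 * hcount
  omega

/-- S1434 from the frozen statements S1430, S1378 and S1351. -/
theorem bg1434 {G : Type*} [Group G] [Finite G] (hG : IsMinSimpleOddOrder G)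
    (h1430 : Cfsg.Agent.Lib.helper69.H1430 G) (h1378 : H1378 G) (h1351 : H1351 G)
    (M : Subgroup G) (hM : IsCoatom M) (K U : Subgroup G) (hKU : IsSigmaDecomposition M K U)
    (hK1 : K ≠ ⊥) (Mstar : Subgroup G) (hMstar : IsCoatom Mstar)
    (hKst : K = sigmaCore Mstar ⊓
      centralizer ((sigmaCore M ⊓ centralizer (K : Set G) : Subgroup G) : Set G))
    (hKstH : IsPiHallOf (kappa Mstar) (sigmaCore M ⊓ centralizer (K : Set G)) Mstar) :
    kappa M = tau1 M ∧ IsPiHallOf (sigma M) (sigmaCore M ⊓ centralizer (K : Set G)) Mstar ∧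
      (∀ x ∈ K, x ≠ 1 → ∀ y ∈ (sigmaCore M ⊓ centralizer (K : Set G)), y ≠ 1 →
        M ⊓ centralizer ({x} : Set G) = K ⊔ (sigmaCore M ⊓ centralizer (K : Set G)) ∧
        Mstar ⊓ centralizer ({y} : Set G) = K ⊔ (sigmaCore M ⊓ centralizer (K : Set G)) ∧
        centralizer ({x * y} : Set G) = K ⊔ (sigmaCore M ⊓ centralizer (K : Set G))) ∧
      (∀ g : G, g ∉ M → ∀ z ∈ ((↑(K ⊔ (sigmaCore M ⊓ centralizer (K : Set G))) : Set G) \
        ((K : Set G) ∪ ↑(sigmaCore M ⊓ centralizer (K : Set G)))),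
        z ∉ M.map (MulAut.conj g).toMonoidHom) ∧
      Nat.card K * Nat.card ↥(sigmaCore M ⊓ centralizer (K : Set G)) *
          Set.ncard {a : G | ∃ g : G,
            ∃ z ∈ ((↑(K ⊔ (sigmaCore M ⊓ centralizer (K : Set G))) : Set G) \
              ((K : Set G) ∪ ↑(sigmaCore M ⊓ centralizer (K : Set G)))), a = g * z * g⁻¹} =
        (Nat.card K * Nat.card ↥(sigmaCore M ⊓ centralizer (K : Set G)) - Nat.card K -
          Nat.card ↥(sigmaCore M ⊓ centralizer (K : Set G)) + 1) * Nat.card G ∧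
      Nat.card G < 2 * Set.ncard {a : G | ∃ g : G,
        ∃ z ∈ ((↑(K ⊔ (sigmaCore M ⊓ centralizer (K : Set G))) : Set G) \
          ((K : Set G) ∪ ↑(sigmaCore M ⊓ centralizer (K : Set G)))), a = g * z * g⁻¹} :=
  ⟨bg1434_kappa_eq_tau1 hG h1430 M hM K U hKU hK1,
    bg1434_hall hG h1430 h1378 h1351 M hM K U hKU hK1 Mstar hMstar hKst hKstH,
    bg1434_cent hG h1430 h1378 h1351 M hM K U hKU hK1 Mstar hMstar hKst hKstH,
    bg1434_disj hG h1430 M hM K U hKU hK1,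
    bg1434_count hG h1430 M hM K U hKU hK1⟩

end Cfsg.Agent.Lib.helper58
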