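import Cfsg.Agent.Lib.helper81.WTDefs

/-!
# S4414 piece SV (`exists_fixed_supp`)

Self-contained: own prefixed copies of PE / PW / PO / PO2 / FX (`helper58_…`), then the Skel statement
`exists_fixed_supp` verbatim.
-/

set_option autoImplicit false

namespace Cfsg.Agent.Lib.helper81.WT

open scoped TensorProduct

universe u v w

/-- own copy of [PE] -/
theorem helper58_proj_equiv {S : Type u} [Group S] {F : Type w} [Field F]
    {V : Type v} [AddCommGroup V] [Module F V]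
    (R : Representation F S V) (Y : Subgroup S) [Y.Normal] [Fintype ↥Y]
    (g : S) (μ : ↥Y →* Fˣ) (v : V) :
    R g (proj R Y μ v) = proj R Y (cj Y g μ) (R g v) := by
  rw [proj_apply, proj_apply, map_sum]
  refine Fintype.sum_equiv (MulAut.conjNormal g : ↥Y ≃* ↥Y).toEquiv _ _ (fun y => ?_)
  have h1 : cj Y g μ ((MulAut.conjNormal g : ↥Y ≃* ↥Y).toEquiv y)⁻¹ = μ y⁻¹ := by
    rw [cj_apply]
    congr 1
    apply Subtype.ext
    simp
  have h2 : R (((MulAut.conjNormal g : ↥Y ≃* ↥Y).toEquiv y : ↥Y) : S) (R g v) = R g (R (y : S) v) := by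
    have e : (((MulAut.conjNormal g : ↥Y ≃* ↥Y).toEquiv y : ↥Y) : S) * g = g * (y : S) := by
      simp [MulAut.conjNormal_apply]
    rw [← Module.End.mul_apply, ← map_mul, e, map_mul, Module.End.mul_apply]
  rw [h1, h2, map_smul]

/-- own copy of [PW] -/
theorem helper58_proj_weight {S : Type u} [Group S] {F : Type w} [Field F]
    {V : Type v} [AddCommGroup V] [Module F V]
    (R : Representation F S V) (Y : Subgroup S) [Fintype ↥Y]
    (μ : ↥Y →* Fˣ) (y : ↥Y) (v : V) :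
    R (y : S) (proj R Y μ v) = ((μ y : Fˣ) : F) • proj R Y μ v := by
  rw [proj_apply, map_sum, Finset.smul_sum]
  refine Fintype.sum_equiv (Equiv.mulLeft y) _ _ (fun z => ?_)
  have h1 : ((μ y : Fˣ) : F) * ((μ (Equiv.mulLeft y z)⁻¹ : Fˣ) : F) = ((μ z⁻¹ : Fˣ) : F) := by
    have e : μ y * μ (Equiv.mulLeft y z)⁻¹ = μ z⁻¹ := by
      rw [Equiv.coe_mulLeft, mul_inv_rev, map_mul, map_inv, map_inv,
        mul_comm ((μ z)⁻¹) ((μ y)⁻¹), mul_inv_cancel_left]
    rw [← Units.val_mul, e]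
  have h2 : R ((Equiv.mulLeft y z : ↥Y) : S) v = R (y : S) (R (z : S) v) := by
    rw [Equiv.coe_mulLeft, Subgroup.coe_mul, map_mul, Module.End.mul_apply]
  rw [map_smul, smul_smul, h1, h2]

/-- own copy of [PO] -/
theorem helper58_proj_idem {S : Type u} [Group S] {F : Type w} [Field F] [CharP F 2]
    {V : Type v} [AddCommGroup V] [Module F V]
    (R : Representation F S V) (Y : Subgroup S) [Fintype ↥Y]
    (hodd : Odd (Fintype.card ↥Y)) (μ : ↥Y →* Fˣ) (v : V) :
    proj R Y μ (proj R Y μ v) = proj R Y μ v := by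
  rw [proj_apply R Y μ (proj R Y μ v)]
  have h1 : ∀ y : ↥Y, ((μ y⁻¹ : Fˣ) : F) • R (y : S) (proj R Y μ v) = proj R Y μ v := by
    intro y
    rw [helper58_proj_weight, smul_smul, ← Units.val_mul, ← map_mul, inv_mul_cancel, map_one,
      Units.val_one, one_smul]
  rw [Finset.sum_congr rfl (fun y _ => h1 y), Finset.sum_const, Finset.card_univ]
  obtain ⟨k, hk⟩ := hodd
  rw [hk, add_smul, mul_smul, one_smul]
  have h2 : (2 : ℕ) • (k • proj R Y μ v) = 0 := by
    rw [← Nat.cast_smul_eq_nsmul F 2, CharP.cast_eq_zero F 2, zero_smul]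
  rw [h2, zero_add]

/-- own copy of [PO2] -/
theorem helper58_proj_orth {S : Type u} [Group S] {F : Type w} [Field F]
    {V : Type v} [AddCommGroup V] [Module F V]
    (R : Representation F S V) (Y : Subgroup S) [Fintype ↥Y]
    (μ ν : ↥Y →* Fˣ) (hne : μ ≠ ν) (v : V) :
    proj R Y μ (proj R Y ν v) = 0 := by
  classical
  rw [proj_apply R Y μ (proj R Y ν v)]
  have h1 : ∀ y : ↥Y, ((μ y⁻¹ : Fˣ) : F) • R (y : S) (proj R Y ν v)
      = ((Units.coeHom F).comp (μ⁻¹ * ν)) y • proj R Y ν v := by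
    intro y
    rw [helper58_proj_weight, smul_smul]
    congr 1
    simp [map_inv]
  rw [Finset.sum_congr rfl (fun y _ => h1 y), ← Finset.sum_smul]
  have hf : (Units.coeHom F).comp (μ⁻¹ * ν) ≠ 1 := by
    intro h
    apply hne
    ext y
    have h3 := DFunLike.congr_fun h y
    simp only [MonoidHom.coe_comp, Function.comp_apply, MonoidHom.mul_apply, MonoidHom.inv_apply,
      Units.coeHom_apply, MonoidHom.one_apply] at h3
    have h4 : (μ y)⁻¹ * ν y = 1 := Units.ext (by simpa using h3)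
    have h5 : ν y = μ y := by
      have := congrArg (fun t => μ y * t) h4
      simpa using this
    rw [h5]
  rw [sum_hom_units_eq_zero _ hf, zero_smul]

/-- own copy of [FX] -/
theorem helper58_exists_fixed {S : Type u} [Group S] {F : Type w} [Field F] [CharP F 2]
    {V : Type v} [AddCommGroup V] [Module F V]
    (R : Representation F S V)
    [Finite V] (T : Subgroup S) (hT : IsPGroup 2 ↥T) (W : Submodule F V)
    (hW : ∀ s ∈ T, ∀ w ∈ W, R s w ∈ W) (hW0 : W ≠ ⊥) :
    ∃ w ∈ W, w ≠ 0 ∧ ∀ s ∈ T, R s w = w := by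
  classical
  have : Fact (Nat.Prime 2) := ⟨Nat.prime_two⟩
  let _ : MulAction ↥T ↥W :=
    { smul := fun t w => ⟨R (t : S) (w : V), hW t t.2 w w.2⟩
      one_smul := fun w => by
        apply Subtype.ext
        show R ((1 : ↥T) : S) (w : V) = w
        simp
      mul_smul := fun a b w => by
        apply Subtype.ext
        show R ((a * b : ↥T) : S) (w : V) = R (a : S) (R (b : S) (w : V))
        rw [Subgroup.coe_mul, map_mul, Module.End.mul_apply] }
  have h2 : 2 ∣ Nat.card ↥W := by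
    obtain ⟨w, hw, hw0⟩ := (Submodule.ne_bot_iff W).1 hW0
    have hord : addOrderOf (⟨w, hw⟩ : ↥W) = 2 := by
      apply addOrderOf_eq_prime
      · apply Subtype.ext
        show (2 : ℕ) • w = 0
        rw [← Nat.cast_smul_eq_nsmul F 2, CharP.cast_eq_zero F 2, zero_smul]
      · intro h
        exact hw0 (congrArg Subtype.val h)
    rw [← hord]
    exact addOrderOf_dvd_natCard _
  have h0 : (0 : ↥W) ∈ MulAction.fixedPoints ↥T ↥W := by
    intro t
    apply Subtype.ext
    show R (t : S) ((0 : ↥W) : V) = ((0 : ↥W) : V)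
    simp
  obtain ⟨b, hb, hb0⟩ := hT.exists_fixed_point_of_prime_dvd_card_of_fixed_point ↥W h2 h0
  refine ⟨b, b.2, fun h => hb0 (Subtype.ext h.symm), fun s hs => ?_⟩
  exact congrArg Subtype.val (hb ⟨s, hs⟩)

/-- [SV] a T-invariant set Θ of characters containing a weight carries a nonzero T-fixed vector with support in Θ; uses PE, PO, FX -/
theorem exists_fixed_supp {S : Type u} [Group S] [Finite S] {F : Type w} [Field F] [Finite F] [CharP F 2]
    {V : Type v} [AddCommGroup V] [Module F V]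
    (R : Representation F S V) (Y : Subgroup S) [Y.Normal] [Fintype ↥Y]
    [Finite V] (hodd : Odd (Fintype.card ↥Y)) (T : Subgroup S) (hT : IsPGroup 2 ↥T)
    (Θ : Set (↥Y →* Fˣ)) (hΘ : ∀ s ∈ T, ∀ μ ∈ Θ, cj Y s μ ∈ Θ) (μ₀ : ↥Y →* Fˣ) (hμ₀ : μ₀ ∈ Θ)
    (hμ₀' : proj R Y μ₀ ≠ 0) :
    ∃ v : V, v ≠ 0 ∧ v ∈ fixT R T ∧ supp R Y v ⊆ Θ := by
  classical
  have hfinhom : Finite (↥Y →* Fˣ) :=
    Finite.of_injective (fun f : ↥Y →* Fˣ => (f : ↥Y → Fˣ)) DFunLike.coe_injective
  have hΘfin : Θ.Finite := Set.toFinite Θ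
  set Θf : Finset (↥Y →* Fˣ) := hΘfin.toFinset with hΘf
  have hmem : ∀ μ, μ ∈ Θf ↔ μ ∈ Θ := fun μ => Set.Finite.mem_toFinset hΘfin
  set P : V →ₗ[F] V := ∑ μ ∈ Θf, proj R Y μ with hP
  have hPapp : ∀ x, P x = ∑ μ ∈ Θf, proj R Y μ x := fun x => by
    rw [hP, LinearMap.sum_apply]
  -- commutation with T
  have hcomm : ∀ s ∈ T, ∀ x, R s (P x) = P (R s x) := by
    intro s hs x
    rw [hPapp, hPapp, map_sum]
    have h1 : ∀ μ ∈ Θf, R s (proj R Y μ x) = proj R Y (cj Y s μ) (R s x) :=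
      fun μ _ => helper58_proj_equiv R Y s μ x
    rw [Finset.sum_congr rfl h1]
    refine Finset.sum_nbij' (fun μ => cj Y s μ) (fun μ => cj Y s⁻¹ μ) ?_ ?_ ?_ ?_ ?_
    · intro μ hμ
      exact (hmem _).2 (hΘ s hs μ ((hmem _).1 hμ))
    · intro μ hμ
      exact (hmem _).2 (hΘ s⁻¹ (T.inv_mem hs) μ ((hmem _).1 hμ))
    · intro μ _
      rw [← cj_mul, inv_mul_cancel, cj_one]
    · intro μ _
      rw [← cj_mul, mul_inv_cancel, cj_one]
    · intro μ _
      rfl
  -- the range is T-invariant and nonzero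
  have hW : ∀ s ∈ T, ∀ w ∈ LinearMap.range P, R s w ∈ LinearMap.range P := by
    rintro s hs w ⟨x, rfl⟩
    exact ⟨R s x, (hcomm s hs x).symm⟩
  obtain ⟨u, hu⟩ : ∃ u, proj R Y μ₀ u ≠ 0 := by
    by_contra hcon
    apply hμ₀'
    ext u
    by_contra hne
    exact hcon ⟨u, hne⟩
  have hPu : P (proj R Y μ₀ u) = proj R Y μ₀ u := by
    rw [hPapp, Finset.sum_eq_single μ₀]
    · exact helper58_proj_idem R Y hodd μ₀ u
    · intro μ _ hne
      exact helper58_proj_orth R Y μ μ₀ hne u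
    · intro h
      exact absurd ((hmem _).2 hμ₀) h
  have hW0 : LinearMap.range P ≠ ⊥ := by
    intro h
    have : proj R Y μ₀ u ∈ LinearMap.range P := ⟨_, hPu⟩
    rw [h, Submodule.mem_bot] at this
    exact hu this
  obtain ⟨w, hwW, hw0, hwfix⟩ := helper58_exists_fixed R T hT (LinearMap.range P) hW hW0
  refine ⟨w, hw0, hwfix, ?_⟩
  intro ν hν
  by_contra hνΘ
  apply hν
  obtain ⟨x, rfl⟩ := hwW
  rw [hPapp, map_sum]
  refine Finset.sum_eq_zero fun μ hμ => ?_
  refine helper58_proj_orth R Y ν μ ?_ x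
  rintro rfl
  exact hνΘ ((hmem _).1 hμ)

end Cfsg.Agent.Lib.helper81.WT
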