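import Mathlib
import Cfsg.Agent.Lib.helper44.SUWDefs

/-!
S2335 split, piece PAIR: for a nonzero skew-Hermitian `Y`, the character `C ↦ ψ (tr (Y C))` of the
additive group of skew-Hermitian matrices is nontrivial, hence sums to zero.
-/

set_option autoImplicit false

namespace Cfsg.Agent.Lib.helper44.SUW

open Matrix

theorem pair_orth {K : Type*} [Field K] [Fintype K] {q m : ℕ} (hK : Fintype.card K = q ^ 2)
    (σ : K →+* K) (hσ : ∀ x, σ x = x ^ q) (ψ : AddChar K ℂ) (hψ : ψ 1 ≠ 1)
    [Fintype ↥(skewH σ m)] (Y : Matrix (Fin m) (Fin m) K) (hY : Y ∈ skewH σ m) (hY0 : Y ≠ 0) :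
    ∑ C : ↥(skewH σ m), ψ (Matrix.trace (Y * C.1)) = 0 := by
  classical
  have hσσ : ∀ x, σ (σ x) = x := by
    intro x
    rw [hσ, hσ, ← pow_mul, ← sq, ← hK, FiniteField.pow_card]
  have hq2 : 2 ≤ q := by
    have hc : 1 < Fintype.card K := Fintype.one_lt_card
    rw [hK] at hc
    by_contra h
    have h01 : q = 0 ∨ q = 1 := by omega
    rcases h01 with rfl | rfl <;> simp at hc
  -- an element with nonzero trace
  have hμ : ∃ μ₀ : K, μ₀ + σ μ₀ ≠ 0 := by
    by_contra hcon
    replace hcon : ∀ μ₀ : K, μ₀ + σ μ₀ = 0 := fun μ₀ => not_not.1 fun h => hcon ⟨μ₀, h⟩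
    have h1 : (1 : K) + 1 = 0 := by
      have := hcon 1
      rwa [map_one] at this
    have hfix : ∀ x : K, x ^ q = x := by
      intro x
      have h2 := hcon x
      rw [hσ] at h2
      have h3 : x + x = 0 := by
        have : x * (1 + 1) = 0 := by rw [h1, mul_zero]
        rw [mul_add, mul_one] at this
        exact this
      have h4 : x ^ q - x = (x + x ^ q) - (x + x) := by ring
      rw [h2, h3, sub_zero] at h4
      exact sub_eq_zero.1 h4
    have hne : (Polynomial.X ^ q - Polynomial.X : Polynomial K) ≠ 0 :=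
      FiniteField.X_pow_card_sub_X_ne_zero K (by omega)
    have hdeg : (Polynomial.X ^ q - Polynomial.X : Polynomial K).natDegree = q :=
      FiniteField.X_pow_card_sub_X_natDegree_eq K (by omega)
    have hsub : (Finset.univ : Finset K) ⊆
        (Polynomial.X ^ q - Polynomial.X : Polynomial K).roots.toFinset := by
      intro x _
      rw [Multiset.mem_toFinset, Polynomial.mem_roots hne]
      simp [Polynomial.IsRoot, hfix x]
    have hle : Fintype.card K ≤ q := by
      calc Fintype.card K = (Finset.univ : Finset K).card := rfl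
        _ ≤ (Polynomial.X ^ q - Polynomial.X : Polynomial K).roots.toFinset.card :=
            Finset.card_le_card hsub
        _ ≤ Multiset.card (Polynomial.X ^ q - Polynomial.X : Polynomial K).roots :=
            Multiset.toFinset_card_le _
        _ ≤ (Polynomial.X ^ q - Polynomial.X : Polynomial K).natDegree :=
            Polynomial.card_roots' _
        _ = q := hdeg
    rw [hK] at hle
    nlinarith
  obtain ⟨μ₀, hμ₀⟩ := hμ
  obtain ⟨i, j, hij⟩ : ∃ i j, Y i j ≠ 0 := by
    by_contra h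
    exact hY0 (Matrix.ext fun a b => not_not.1 fun hab => h ⟨a, b, hab⟩)
  have hYs : ∀ a b, σ (Y a b) = - Y b a := hY
  set lam : K := μ₀ / Y i j with hlam
  set r : K := μ₀ + σ μ₀ with hr
  have hσr : σ r = r := by
    rw [hr, map_add, hσσ, add_comm]
  set C₁ : Matrix (Fin m) (Fin m) K :=
    Matrix.of (fun a b => (if a = j ∧ b = i then lam else 0) -
      (if a = i ∧ b = j then σ lam else 0)) with hC₁
  have hC₁mem : ∀ a b, σ (C₁ a b) = - C₁ b a := by
    intro a b
    have e1 : (b = j ∧ a = i) ↔ (a = i ∧ b = j) := and_comm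
    have e2 : (b = i ∧ a = j) ↔ (a = j ∧ b = i) := and_comm
    simp only [hC₁, Matrix.of_apply, map_sub, apply_ite σ, map_zero, hσσ, e1, e2]
    ring
  have htr₁ : Matrix.trace (Y * C₁) = r := by
    have h1 : Matrix.trace (Y * C₁) = Y i j * lam - Y j i * σ lam := by
      simp [Matrix.trace, Matrix.mul_apply, hC₁, mul_sub, Finset.sum_sub_distrib, ite_and]
    have h2 : Y j i = - σ (Y i j) := by rw [hYs i j, neg_neg]
    have h3 : Y i j * lam = μ₀ := by
      rw [hlam, mul_div_cancel₀ _ hij]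
    rw [h1, h2, neg_mul, sub_neg_eq_add, ← map_mul, h3]
  set C₂ : Matrix (Fin m) (Fin m) K := r⁻¹ • C₁ with hC₂
  have hC₂mem : C₂ ∈ skewH σ m := by
    intro a b
    rw [hC₂, Matrix.smul_apply, Matrix.smul_apply, smul_eq_mul, smul_eq_mul, map_mul, map_inv₀,
      hσr, hC₁mem a b, mul_neg]
  have htr₂ : Matrix.trace (Y * C₂) = 1 := by
    rw [hC₂, Matrix.mul_smul, Matrix.trace_smul, htr₁, smul_eq_mul, inv_mul_cancel₀ hμ₀]
  set S : ℂ := ∑ C : ↥(skewH σ m), ψ (Matrix.trace (Y * C.1)) with hS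
  have hshift : S = S * ψ 1 := by
    have h1 : S = ∑ C : ↥(skewH σ m),
        ψ (Matrix.trace (Y * ((Equiv.addRight (⟨C₂, hC₂mem⟩ : ↥(skewH σ m))) C).1)) :=
      (Equiv.sum_comp (Equiv.addRight (⟨C₂, hC₂mem⟩ : ↥(skewH σ m)))
        (fun C : ↥(skewH σ m) => ψ (Matrix.trace (Y * C.1)))).symm
    refine h1.trans ?_
    rw [hS, Finset.sum_mul]
    refine Finset.sum_congr rfl fun C _ => ?_
    rw [Equiv.coe_addRight, AddSubgroup.coe_add, Matrix.mul_add, Matrix.trace_add, htr₂,
      AddChar.map_add_eq_mul]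
  have hfin : S * (ψ 1 - 1) = 0 := by
    rw [mul_sub, mul_one, ← hshift, sub_self]
  rcases mul_eq_zero.1 hfin with h | h
  · exact h
  · exact absurd (sub_eq_zero.1 h) hψ

end Cfsg.Agent.Lib.helper44.SUW
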