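import Mathlib
import Cfsg.Agent.Lib.helper44.SUWDefs

/-!
S2335 split, piece SKCONJ: conjugating a skew-Hermitian matrix `C` by `B` (in either of the two
forms `B C B†` and `B† C B`) gives a skew-Hermitian matrix.
-/

set_option autoImplicit false

namespace Cfsg.Agent.Lib.helper44.SUW

open Matrix

theorem skew_conj {K : Type*} [Field K] (σ : K →+* K) (hσσ : ∀ x, σ (σ x) = x) {m : ℕ}
    (B C : Matrix (Fin m) (Fin m) K) (hC : C ∈ skewH σ m) :
    B * C * (B.map σ)ᵀ ∈ skewH σ m ∧ (B.map σ)ᵀ * C * B ∈ skewH σ m := by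
  have hC' : ∀ i j, σ (C i j) = - C j i := hC
  constructor
  · intro i j
    simp only [Matrix.mul_apply, Matrix.transpose_apply, Matrix.map_apply, map_sum, map_mul,
      hσσ, hC', Finset.sum_mul]
    rw [Finset.sum_comm, ← Finset.sum_neg_distrib]
    refine Finset.sum_congr rfl fun a _ => ?_
    rw [← Finset.sum_neg_distrib]
    refine Finset.sum_congr rfl fun b _ => ?_
    ring
  · intro i j
    simp only [Matrix.mul_apply, Matrix.transpose_apply, Matrix.map_apply, map_sum, map_mul,
      hσσ, hC', Finset.sum_mul]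
    rw [Finset.sum_comm, ← Finset.sum_neg_distrib]
    refine Finset.sum_congr rfl fun a _ => ?_
    rw [← Finset.sum_neg_distrib]
    refine Finset.sum_congr rfl fun b _ => ?_
    ring

end Cfsg.Agent.Lib.helper44.SUW
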