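import Mathlib
import Cfsg.Agent.Lib.helper49.SPEDefs

/-!
S2333 split, piece LEVI (`lS_conj`): the Levi element `lS B B'` (`B * B' = 1`) is symplectic and
conjugates the Siegel element `uS C` to `uS (B * C * Bᵀ)`.
-/

set_option autoImplicit false

namespace Cfsg.Agent.Lib.helper49.SPE

open Matrix

theorem lS_conj {F : Type*} [Field F] {n : ℕ} (B B' : Matrix (Fin n) (Fin n) F) (h1 : B * B' = 1)
    (h2 : B' * B = 1) :
    lS B B' ∈ Matrix.symplecticGroup (Fin n) F ∧
      ∀ C : Matrix (Fin n) (Fin n) F, lS B B' * uS C = uS (B * C * Bᵀ) * lS B B' := by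
  have h3 : B'ᵀ * Bᵀ = 1 := by rw [← Matrix.transpose_mul, h1, Matrix.transpose_one]
  have h4 : Bᵀ * B'ᵀ = 1 := by rw [← Matrix.transpose_mul, h2, Matrix.transpose_one]
  constructor
  · rw [SymplecticGroup.mem_iff]
    unfold lS Matrix.J
    rw [Matrix.fromBlocks_multiply, Matrix.fromBlocks_transpose, Matrix.fromBlocks_multiply]
    simp [h1, h3]
  · intro C
    unfold lS uS
    rw [Matrix.fromBlocks_multiply, Matrix.fromBlocks_multiply]
    simp [Matrix.mul_assoc, h4]

end Cfsg.Agent.Lib.helper49.SPE
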