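import Mathlib
import Cfsg.Agent.Lib.helper65.PearlBasic

/-!
S5238 lemma split (helper65), piece I3 (`rel_ph_mul_const`).
-/

set_option autoImplicit false

namespace Cfsg.Agent.Lib.helper65.PearlPow

open Cfsg.Agent.Lib.helper68

variable {H : Type*} [Group H]

theorem rel_ph_mul_const {v j : ℕ} (x : H) {s : ℕ → H} {y : H} (hs : PolySeq v s)
    (hy : y ∈ gam H j) :
    Rel (v + 1 + j) (fun n => ph x s n * com y x) (ph x (fun n => s n * y)) := by
  unfold Rel
  have hx : x ∈ gam H 1 := by
    unfold gam
    simp
  have he : PolySeq (v + 1 + j) (fun n => com (ph x s n) y) :=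
    PolySeq.comm (polyseq_ph x hs) (polyseq_const hy)
  have hc : PolySeq (j + 1) (fun _ : ℕ => com y x) := polyseq_const (com_mem hy hx)
  have h := polyseq_conj he hc
  have e : (fun n => (ph x s n * com y x)⁻¹ * ph x (fun n => s n * y) n) =
      fun n => (com y x)⁻¹ * com (ph x s n) y * com y x := by
    funext n
    unfold ph com
    group
  rw [e]
  exact h

end Cfsg.Agent.Lib.helper65.PearlPow
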