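import Mathlib
import Cfsg.Agent.Lib.helper55.P2Defs
import Cfsg.Agent.S1378
import Cfsg.Agent.Lib.helper71.BGTenA
import Cfsg.Agent.Lib.helper71.BGTwelveFour
import Cfsg.Agent.Lib.helper3.BGCross

/-!
# S1435, piece P13: `H_σ ∩ M* = 1`
-/

set_option autoImplicit false

namespace Cfsg.Agent.Lib.helper55.P2

open Cfsg Subgroup

variable {G : Type*} [Group G]

/-- (P13) `H_σ ∩ M* = 1`. -/
theorem p2_sigma_inter [Finite G] (hG : IsMinSimpleOddOrder G) {M K U Ms H : Subgroup G}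
    (b : Basic M K U Ms) (h : HCtx K U H) : sigmaCore H ⊓ Ms = ⊥ := by
  have hint : sigmaCore H ⊓ sigmaCore Ms = ⊥ := by
    by_contra hne
    have hc : Nat.card ↥(sigmaCore H ⊓ sigmaCore Ms) ≠ 1 :=
      fun h1 => hne (Subgroup.card_eq_one.mp h1)
    obtain ⟨q, hq, hqd⟩ := Nat.exists_prime_and_dvd hc
    have hqH : q ∈ sigma H :=
      Cfsg.Agent.Lib.helper71.BG12.mem_sigma_of_dvd_card_sigmaCore H hq
        (hqd.trans (Subgroup.card_dvd_of_le inf_le_left))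
    have hqMs : q ∈ sigma Ms :=
      Cfsg.Agent.Lib.helper71.BG12.mem_sigma_of_dvd_card_sigmaCore Ms hq
        (hqd.trans (Subgroup.card_dvd_of_le inf_le_right))
    obtain ⟨g, hg⟩ := (Cfsg.Agent.S1378.result hG).2 H Ms h.hH b.hMs ⟨q, hqH, hqMs⟩
    have hp := b.pσs
    rw [hg, Cfsg.Agent.Lib.helper3.sigma_map_conj] at hp
    exact h.pσ hp
  rw [eq_bot_iff]
  intro j hj
  obtain ⟨hjH, hjMs⟩ := Subgroup.mem_inf.mp hj
  have hjc : j ∈ centralizer (K : Set G) := by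
    rw [Subgroup.mem_centralizer_iff]
    intro k hk
    have hkK : k ∈ K := hk
    have h1 : j * k * j⁻¹ * k⁻¹ ∈ sigmaCore H := by
      have hkn := Cfsg.Agent.Lib.helper71.BGA.le_normalizer_sigmaCore H (h.hKH hkK)
      have h2 : k * j⁻¹ * k⁻¹ ∈ sigmaCore H :=
        (Subgroup.mem_normalizer_iff.mp hkn j⁻¹).mp (Subgroup.inv_mem _ hjH)
      have h3 := Subgroup.mul_mem _ hjH h2
      simpa [mul_assoc] using h3
    have h2 : j * k * j⁻¹ * k⁻¹ ∈ sigmaCore Ms := by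
      have hjn := Cfsg.Agent.Lib.helper71.BGA.le_normalizer_sigmaCore Ms hjMs
      have h3 : j * k * j⁻¹ ∈ sigmaCore Ms :=
        (Subgroup.mem_normalizer_iff.mp hjn k).mp (b.kσs hkK)
      exact Subgroup.mul_mem _ h3 (Subgroup.inv_mem _ (b.kσs hkK))
    have h3 : j * k * j⁻¹ * k⁻¹ = 1 := by
      have : j * k * j⁻¹ * k⁻¹ ∈ sigmaCore H ⊓ sigmaCore Ms := Subgroup.mem_inf.mpr ⟨h1, h2⟩
      rw [hint] at this
      exact Subgroup.mem_bot.mp this
    have h4 := mul_inv_eq_one.mp h3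
    have h5 := mul_inv_eq_iff_eq_mul.mp h4
    exact h5.symm
  have : j ∈ sigmaCore H ⊓ centralizer (K : Set G) := Subgroup.mem_inf.mpr ⟨hjH, hjc⟩
  rw [h.hCK] at this
  exact this

end Cfsg.Agent.Lib.helper55.P2
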