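import Mathlib
import Cfsg.Agent.Lib.helper55.P2Defs
import Cfsg.Agent.Lib.helper60.BGCentU
import Cfsg.Agent.Lib.helper87.BG1425Main
import Cfsg.Agent.Lib.helper71.BGTenA
import Cfsg.Agent.Lib.helper71.BGTenB
import Cfsg.Agent.Lib.helper71.BGTwelveFour
import Cfsg.Agent.Lib.helper3.BGCross
import Cfsg.Agent.Lib.helper3.ZgBase
import Cfsg.Agent.Lib.helper69.BGKappaA
import Cfsg.Agent.S1420
import Cfsg.Agent.S1423
import Cfsg.Agent.S1425
import Cfsg.Agent.S1432

/-!
# S1435, piece P6: `star_kill`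
-/

set_option autoImplicit false

namespace Cfsg.Agent.Lib.helper55.P2

open Cfsg Subgroup
open scoped commutatorElement

variable {G : Type*} [Group G]

/-- (P6) star-kill. -/
theorem star_kill [Finite G] (hG : IsMinSimpleOddOrder G) {M K U Ms H : Subgroup G}
    (b : Basic M K U Ms) (h : HCtx K U H) (s : ℕ) (hs : s.Prime) (hsp : s ≠ Nat.card K)
    (hsσ : s ∉ sigma H) (hT : s ∉ sigma M) (x : G) (W : Subgroup G) (hxH : x ∈ H)
    (hxo : orderOf x = s)
    (hxK : x ∈ centralizer (K : Set G)) (hxW : x ∈ centralizer (W : Set G))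
    (hWs : Nat.card W = s) (hKW : K ≤ normalizer (W : Set G))
    (hWK : W ⊓ centralizer (K : Set G) = ⊥) (hCW : centralizer (W : Set G) ≤ H)
    (huniq : ∀ L : Subgroup G, IsCoatom L → centralizer (W : Set G) ≤ L → L = H) : False := by
  have hsF : Fact s.Prime := ⟨hs⟩
  have hpF : Fact (Nat.card K).Prime := ⟨b.kprime⟩
  have hx1 : x ≠ 1 := by
    rintro rfl
    rw [orderOf_one] at hxo
    exact hs.one_lt.ne hxo
  -- `k ∈ K#`, `w ∈ W#`
  have hK1 : K ≠ ⊥ := by
    intro h0
    have h1 := b.kprime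
    rw [h0, Subgroup.card_bot] at h1
    exact Nat.not_prime_one h1
  have hW1 : W ≠ ⊥ := by
    intro h0
    rw [h0, Subgroup.card_bot] at hWs
    exact hs.one_lt.ne hWs
  obtain ⟨k, hk, hk1⟩ := Cfsg.Agent.Lib.helper29.exists_ne_one_of_ne_bot hK1
  obtain ⟨w, hw, hw1⟩ := Cfsg.Agent.Lib.helper29.exists_ne_one_of_ne_bot hW1
  have hKn := Subgroup.le_normalizer_iff.mp hKW
  -- every element of `K` is a power of `k`
  have hKz : ∀ a ∈ K, a ∈ zpowers k := by
    intro a ha
    have h1 : (⟨a, ha⟩ : K) ∈ zpowers (⟨k, hk⟩ : K) :=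
      mem_zpowers_of_prime_card (G := K) (p := Nat.card K) rfl
        (fun h0 => hk1 (congrArg Subtype.val h0))
    obtain ⟨n, hn⟩ := Subgroup.mem_zpowers_iff.mp h1
    refine Subgroup.mem_zpowers_iff.mpr ⟨n, ?_⟩
    have := congrArg Subtype.val hn
    simpa using this
  -- `c = [w, k] ∈ W`, `c ≠ 1`
  have hcW : w * k * w⁻¹ * k⁻¹ ∈ W := by
    have h1 : k * w⁻¹ * k⁻¹ ∈ W := hKn k hk _ (W.inv_mem hw)
    have h2 := W.mul_mem hw h1
    simpa [mul_assoc] using h2
  have hc1 : w * k * w⁻¹ * k⁻¹ ≠ 1 := by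
    intro h0
    have h4 := mul_inv_eq_one.mp h0
    have h5 : w * k = k * w := mul_inv_eq_iff_eq_mul.mp h4
    have hwc : w ∈ centralizer (K : Set G) := by
      rw [Subgroup.mem_centralizer_iff]
      intro a ha
      obtain ⟨n, rfl⟩ := Subgroup.mem_zpowers_iff.mp (hKz a ha)
      have hc : Commute w k := h5
      exact (hc.zpow_right n).eq.symm
    have : w ∈ W ⊓ centralizer (K : Set G) := Subgroup.mem_inf.mpr ⟨hw, hwc⟩
    rw [hWK] at this
    exact hw1 (Subgroup.mem_bot.mp this)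
  -- every element of `W` is a power of `c`
  have hWz : ∀ a ∈ W, a ∈ zpowers (w * k * w⁻¹ * k⁻¹) := by
    intro a ha
    have hWp : Fact (Nat.card W).Prime := ⟨hWs ▸ hs⟩
    have h1 : (⟨a, ha⟩ : W) ∈ zpowers (⟨w * k * w⁻¹ * k⁻¹, hcW⟩ : W) :=
      mem_zpowers_of_prime_card (G := W) (p := Nat.card W) rfl
        (fun h0 => hc1 (congrArg Subtype.val h0))
    obtain ⟨n, hn⟩ := Subgroup.mem_zpowers_iff.mp h1
    refine Subgroup.mem_zpowers_iff.mpr ⟨n, ?_⟩
    have := congrArg Subtype.val hn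
    simpa using this
  have hxk : x * k = k * x := (Subgroup.mem_centralizer_iff.mp hxK k hk).symm
  have hxMs : x ∈ Ms := b.cK.1 hxK
  have hkMsσ : k ∈ sigmaCore Ms := b.kσs hk
  have hMsn := Subgroup.le_normalizer_iff.mp (Cfsg.Agent.Lib.helper71.BGA.le_normalizer_sigmaCore Ms)
  by_cases hsMs : s ∈ sigma Ms
  · -- Case `s ∈ σ(M*)`
    have hxW' : x ∉ W := by
      intro hxW'
      have : x ∈ W ⊓ centralizer (K : Set G) := Subgroup.mem_inf.mpr ⟨hxW', hxK⟩
      rw [hWK] at this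
      exact hx1 (Subgroup.mem_bot.mp this)
    have hWx : ∀ a ∈ W, a * x = x * a := fun a ha => Subgroup.mem_centralizer_iff.mp hxW a ha
    -- `A = ⟨x⟩ ⊔ W`
    have hdisj : zpowers x ⊓ W = ⊥ := by
      rw [eq_bot_iff]
      intro y hy
      obtain ⟨hy1, hy2⟩ := Subgroup.mem_inf.mp hy
      by_contra hy0
      have hy0' : y ≠ 1 := fun h0 => hy0 (Subgroup.mem_bot.mpr h0)
      have hxz : Fact (Nat.card (zpowers x)).Prime := ⟨by rw [Nat.card_zpowers, hxo]; exact hs⟩
      have h1 : (⟨x, Subgroup.mem_zpowers x⟩ : zpowers x) ∈ zpowers (⟨y, hy1⟩ : zpowers x) :=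
        mem_zpowers_of_prime_card (G := zpowers x) (p := Nat.card (zpowers x)) rfl
          (fun h0 => hy0' (congrArg Subtype.val h0))
      obtain ⟨n, hn⟩ := Subgroup.mem_zpowers_iff.mp h1
      have hn' : y ^ n = x := by
        have := congrArg Subtype.val hn
        simpa using this
      exact hxW' (hn' ▸ W.zpow_mem hy2 n)
    have hWnx : W ≤ normalizer ((zpowers x : Subgroup G) : Set G) := by
      intro a ha
      rw [Subgroup.mem_normalizer_iff]
      intro y
      have hay : ∀ y ∈ zpowers x, a * y * a⁻¹ = y := by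
        intro y hy
        obtain ⟨n, rfl⟩ := Subgroup.mem_zpowers_iff.mp hy
        have hc : Commute a x := hWx a ha
        rw [(hc.zpow_right n).eq]; group
      constructor
      · intro hy
        rw [hay y hy]; exact hy
      · intro hy
        have h1 := hay _ hy
        have h2 : a * y * a⁻¹ = y := by
          calc a * y * a⁻¹ = a⁻¹ * (a * (a * y * a⁻¹) * a⁻¹) * a := by group
            _ = a⁻¹ * (a * y * a⁻¹) * a := by rw [h1]
            _ = y := by group
        rw [← h2]; exact hy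
    have hcardA : Nat.card ↥(zpowers x ⊔ W) = s * s := by
      rw [Cfsg.Agent.Lib.helper3.zg_card_sup (zpowers x) W hWnx hdisj, Nat.card_zpowers, hxo, hWs]
    have hA1 : zpowers x ⊔ W ≠ ⊥ := by
      intro h0
      have : x ∈ (⊥ : Subgroup G) := h0 ▸ Subgroup.mem_sup_left (Subgroup.mem_zpowers x)
      exact hx1 (Subgroup.mem_bot.mp this)
    have hAσ : ∀ q : ℕ, q.Prime → q ∣ Nat.card ↥(zpowers x ⊔ W) → q ∈ sigma Ms := by
      intro q hq hqd
      rw [hcardA] at hqd
      have hqs : q = s := by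
        rcases (Nat.Prime.dvd_mul hq).mp hqd with h0 | h0
        · exact (Nat.prime_dvd_prime_iff_eq hq hs).mp h0
        · exact (Nat.prime_dvd_prime_iff_eq hq hs).mp h0
      rw [hqs]; exact hsMs
    obtain ⟨g, hg⟩ := Cfsg.Agent.S1425.result hG Ms b.hMs (zpowers x ⊔ W) hA1 hAσ
    -- every element of `A` has order dividing `s`
    have hAexp : ∀ a ∈ zpowers x ⊔ W, a ^ s = 1 := by
      intro a ha
      obtain ⟨y, hy, v, hv, rfl⟩ :=
        Cfsg.Agent.Lib.helper29.exists_mul_of_mem_sup_of_le_normalizer hWnx ha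
      obtain ⟨n, rfl⟩ := Subgroup.mem_zpowers_iff.mp hy
      have hc : Commute (x ^ n) v := ((show Commute v x from hWx v hv).zpow_right n).symm
      rw [hc.mul_pow]
      have h1 : (x ^ n) ^ s = 1 := by
        rw [← zpow_natCast, ← zpow_mul, mul_comm, zpow_mul, zpow_natCast, ← hxo, pow_orderOf_eq_one,
          one_zpow]
      have h2 : v ^ s = 1 := by
        have := pow_card_eq_one' (G := W) (x := ⟨v, hv⟩)
        rw [hWs] at this
        have h3 := congrArg Subtype.val this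
        simpa using h3
      rw [h1, h2, one_mul]
    -- `A^g` is a noncyclic `s`-subgroup of `M*`
    have hAgp : IsPGroup s ↥((zpowers x ⊔ W).map (MulAut.conj g).toMonoidHom) := by
      rintro ⟨_, a, ha, rfl⟩
      refine ⟨1, Subtype.ext ?_⟩
      rw [pow_one, Subgroup.coe_pow, Subgroup.coe_one]
      show (g * a * g⁻¹) ^ s = 1
      rw [conj_pow, hAexp a ha, mul_one, mul_inv_cancel]
    have hcardAg : Nat.card ↥((zpowers x ⊔ W).map (MulAut.conj g).toMonoidHom) = s * s := by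
      rw [← hcardA]
      exact (Nat.card_congr (Subgroup.equivMapOfInjective _ (MulAut.conj g).toMonoidHom
        (MulAut.conj g).injective).toEquiv).symm
    have hAgnc : ¬ IsCyclic ↥((zpowers x ⊔ W).map (MulAut.conj g).toMonoidHom) := by
      intro hcyc
      obtain ⟨⟨y, hy⟩, hgen⟩ := hcyc.exists_generator
      have ho : orderOf (⟨y, hy⟩ : ↥((zpowers x ⊔ W).map (MulAut.conj g).toMonoidHom)) = s * s := by
        rw [orderOf_eq_card_of_forall_mem_zpowers hgen, hcardAg]
      obtain ⟨a, ha, rfl⟩ := hy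
      have h1 : (⟨(MulAut.conj g).toMonoidHom a, ⟨a, ha, rfl⟩⟩ :
          ↥((zpowers x ⊔ W).map (MulAut.conj g).toMonoidHom)) ^ s = 1 := by
        apply Subtype.ext
        rw [Subgroup.coe_pow, Subgroup.coe_one]
        show (g * a * g⁻¹) ^ s = 1
        rw [conj_pow, hAexp a ha, mul_one, mul_inv_cancel]
      have h2 := orderOf_dvd_of_pow_eq_one h1
      rw [ho] at h2
      have h3 := Nat.le_of_dvd hs.pos h2
      have := hs.one_lt
      nlinarith
    obtain ⟨Est, hEst, -⟩ := Cfsg.Agent.Lib.helper60.BGCentU.exists_compl_ge hG Ms b.hMs ⊥ bot_le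
      (fun p hp hpd => by
        rw [Subgroup.card_bot] at hpd
        exact absurd (Nat.le_of_dvd Nat.one_pos hpd) (not_le.mpr hp.one_lt))
    have hNA := (Cfsg.Agent.S1420.result hG Ms b.hMs Est hEst).2.2.1 s _ hsMs hAgp
      (hg.trans (Cfsg.Agent.Lib.helper71.BGA.sigmaCore_le Ms)) hAgnc
    -- `K^g ≤ M*_σ`
    have hKA : ∀ a ∈ K, ∀ y ∈ zpowers x ⊔ W, a * y * a⁻¹ ∈ zpowers x ⊔ W := by
      intro a ha y hy
      obtain ⟨y1, hy1, v, hv, rfl⟩ :=
        Cfsg.Agent.Lib.helper29.exists_mul_of_mem_sup_of_le_normalizer hWnx hy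
      have h1 : a * y1 * a⁻¹ = y1 := by
        obtain ⟨n, rfl⟩ := Subgroup.mem_zpowers_iff.mp hy1
        have hc : Commute a x := (Subgroup.mem_centralizer_iff.mp hxK a ha)
        rw [(hc.zpow_right n).eq]; group
      have e : a * (y1 * v) * a⁻¹ = (a * y1 * a⁻¹) * (a * v * a⁻¹) := by group
      rw [e, h1]
      exact Subgroup.mul_mem _ (Subgroup.mem_sup_left hy1) (Subgroup.mem_sup_right (hKn a ha v hv))
    have hKg : K.map (MulAut.conj g).toMonoidHom ≤ Ms := by
      rintro _ ⟨a, ha, rfl⟩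
      apply hNA
      rw [Subgroup.mem_normalizer_iff]
      intro y
      show y ∈ (zpowers x ⊔ W).map (MulAut.conj g).toMonoidHom ↔
        (g * a * g⁻¹) * y * (g * a * g⁻¹)⁻¹ ∈ (zpowers x ⊔ W).map (MulAut.conj g).toMonoidHom
      constructor
      · rintro ⟨y0, hy0, rfl⟩
        refine ⟨a * y0 * a⁻¹, hKA a ha y0 hy0, ?_⟩
        show g * (a * y0 * a⁻¹) * g⁻¹ = g * a * g⁻¹ * (g * y0 * g⁻¹) * (g * a * g⁻¹)⁻¹
        group
      · rintro ⟨y0, hy0, hy0e⟩
        refine ⟨a⁻¹ * y0 * a, ?_, ?_⟩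
        · have := hKA a⁻¹ (K.inv_mem ha) y0 hy0
          simpa using this
        · have hy0e' : g * y0 * g⁻¹ = g * a * g⁻¹ * y * (g * a * g⁻¹)⁻¹ := hy0e
          show g * (a⁻¹ * y0 * a) * g⁻¹ = y
          have e : g * (a⁻¹ * y0 * a) * g⁻¹ = (g * a * g⁻¹)⁻¹ * (g * y0 * g⁻¹) * (g * a * g⁻¹) := by
            group
          rw [e, hy0e']; group
    have hcardKg : Nat.card ↥(K.map (MulAut.conj g).toMonoidHom) = Nat.card K :=
      (Nat.card_congr (Subgroup.equivMapOfInjective _ (MulAut.conj g).toMonoidHom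
        (MulAut.conj g).injective).toEquiv).symm
    have hKgσ : K.map (MulAut.conj g).toMonoidHom ≤ sigmaCore Ms := by
      apply Cfsg.Agent.Lib.helper87.BG133.le_sigmaCore_of_pi hG Ms b.hMs _ hKg
      intro q hq hqd
      rw [hcardKg] at hqd
      rw [(Nat.prime_dvd_prime_iff_eq hq b.kprime).mp hqd]
      exact b.pσs
    -- `W^g ≤ [M*_σ, M*_σ]`
    have hcg : g * (w * k * w⁻¹ * k⁻¹) * g⁻¹ ∈ ⁅sigmaCore Ms, sigmaCore Ms⁆ := by
      have e : g * (w * k * w⁻¹ * k⁻¹) * g⁻¹ = ⁅g * w * g⁻¹, g * k * g⁻¹⁆ := by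
        rw [commutatorElement_def]; group
      rw [e]
      exact Subgroup.commutator_mem_commutator
        (hg ⟨w, Subgroup.mem_sup_right hw, rfl⟩) (hKgσ ⟨k, hk, rfl⟩)
    have hWg : W.map (MulAut.conj g).toMonoidHom ≤ ⁅sigmaCore Ms, sigmaCore Ms⁆ := by
      rintro _ ⟨a, ha, rfl⟩
      obtain ⟨n, hn⟩ := Subgroup.mem_zpowers_iff.mp (hWz a ha)
      show g * a * g⁻¹ ∈ _
      rw [← hn, ← conj_zpow]
      exact Subgroup.zpow_mem _ hcg n
    have hcardWg : Nat.card ↥(W.map (MulAut.conj g).toMonoidHom) = s := by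
      rw [← hWs]
      exact (Nat.card_congr (Subgroup.equivMapOfInjective _ (MulAut.conj g).toMonoidHom
        (MulAut.conj g).injective).toEquiv).symm
    obtain ⟨P⟩ : Nonempty (Sylow s ↥(sigmaCore Ms)) := inferInstance
    have hWgMs : W.map (MulAut.conj g).toMonoidHom ≤ Ms :=
      (Subgroup.map_mono le_sup_right).trans (hg.trans (Cfsg.Agent.Lib.helper71.BGA.sigmaCore_le Ms))
    obtain ⟨⟨-, hu⟩, -, -⟩ := Cfsg.Agent.S1423.result hG Ms b.hMs s hsMs
      (W.map (MulAut.conj g).toMonoidHom) hWgMs hcardWg P (Or.inr hWg)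
    -- `H^g` contains `C(W^g)`
    have hHg : centralizer ((W.map (MulAut.conj g).toMonoidHom : Subgroup G) : Set G) ≤
        H.map (MulAut.conj g).toMonoidHom := by
      intro y hy
      refine ⟨g⁻¹ * y * g, hCW ?_, ?_⟩
      · rw [Subgroup.mem_centralizer_iff]
        intro a ha
        have h1 := Subgroup.mem_centralizer_iff.mp hy (g * a * g⁻¹) ⟨a, ha, rfl⟩
        have e1 : a * (g⁻¹ * y * g) = g⁻¹ * ((g * a * g⁻¹) * y) * g := by group
        have e2 : g⁻¹ * y * g * a = g⁻¹ * (y * (g * a * g⁻¹)) * g := by group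
        rw [e1, e2, h1]
      · show g * (g⁻¹ * y * g) * g⁻¹ = y
        group
    have hHgMs := hu _ (Cfsg.Agent.Lib.helper71.BGA.isCoatom_map_conj h.hH g) hHg
    have hp := b.pσs
    rw [← hHgMs, Cfsg.Agent.Lib.helper3.sigma_map_conj] at hp
    exact h.pσ hp
  · -- Case `s ∉ σ(M*)`
    have hx' : x ∈ Ms ⊓ centralizer ({k} : Set G) := by
      refine Subgroup.mem_inf.mpr ⟨hxMs, ?_⟩
      rw [Subgroup.mem_centralizer_iff]
      intro y hy
      rw [Set.mem_singleton_iff.mp hy]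
      exact hxk.symm
    have hσx : ∀ q : ℕ, q.Prime → q ∣ orderOf x → q ∉ sigma Ms := by
      intro q hq hqd
      rw [hxo] at hqd
      rw [(Nat.prime_dvd_prime_iff_eq hq hs).mp hqd]
      exact hsMs
    rcases Cfsg.Agent.S1432.result hG Ms b.hMs k hkMsσ hk1 x hx' hx1 hσx with ⟨hκ, -⟩ | ⟨-, -, hCx, -⟩
    · have hsκ : s ∈ kappa Ms := hκ s hs (by rw [hxo])
      have hsMs' : s ∣ Nat.card Ms := hsκ.2.1
      have hsKs : s ∣ Nat.card ↥(sigmaCore M ⊓ centralizer (K : Set G)) := by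
        rw [← Cfsg.Agent.Lib.helper69.bgk_card_mul_relIndex b.ksH.1] at hsMs'
        rcases (Nat.Prime.dvd_mul hs).mp hsMs' with h0 | h0
        · exact h0
        · exact absurd h0 (b.ksH.2.2 s hs hsκ)
      exact hT (Cfsg.Agent.Lib.helper71.BG12.mem_sigma_of_dvd_card_sigmaCore M hs
        (hsKs.trans (Subgroup.card_dvd_of_le inf_le_left)))
    · have hwMs : w ∈ Ms := by
        apply hCx
        rw [Subgroup.mem_centralizer_iff]
        intro y hy
        rw [Set.mem_singleton_iff.mp hy]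
        exact (Subgroup.mem_centralizer_iff.mp hxW w hw).symm
      have hcσ : w * k * w⁻¹ * k⁻¹ ∈ sigmaCore Ms :=
        Subgroup.mul_mem _ (hMsn w hwMs k hkMsσ) (Subgroup.inv_mem _ hkMsσ)
      have hco : orderOf (w * k * w⁻¹ * k⁻¹) = s := by
        have h1 : orderOf (⟨w * k * w⁻¹ * k⁻¹, hcW⟩ : W) = Nat.card W := by
          have hWp : Fact (Nat.card W).Prime := ⟨hWs ▸ hs⟩
          exact orderOf_eq_card_of_forall_mem_zpowers
            (fun a => mem_zpowers_of_prime_card (G := W) (p := Nat.card W) rfl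
              (fun h0 => hc1 (congrArg Subtype.val h0)))
        rw [← Subgroup.orderOf_coe] at h1
        rw [← hWs]; exact h1
      apply hsMs
      apply Cfsg.Agent.Lib.helper71.BG12.mem_sigma_of_dvd_card_sigmaCore Ms hs
      rw [← hco]
      exact Subgroup.orderOf_dvd_natCard _ hcσ

end Cfsg.Agent.Lib.helper55.P2
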