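import Mathlib
import Cfsg.Agent.Lib.helper84.BrAlpha
import Cfsg.Agent.Lib.helper18.PSLCongr

/-!
S4504 (architect helper2), sub-steps of piece R (`bg_reduce`), pure group theory:
* `helper58_bg_endgame` (V7 + V8): from the group-theoretic data to `G / Z(G) ≅ PSL(2, p)`;
* `helper58_bg_K_central` (V5): the `p`-regular elements of `C_G(P)` are central.
-/

set_option autoImplicit false

namespace Cfsg.Agent.Lib.helper2.BG

/-- a `p`-element centralizing a Sylow `p`-subgroup lies in it -/
theorem helper58_mem_sylow_of_cent {G : Type*} [Group G] (p : ℕ) [Fact p.Prime] (Q : Sylow p G)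
    (u : G) (hu : ∀ y ∈ (Q : Subgroup G), u * y = y * u) (hup : u ^ p = 1) :
    u ∈ (Q : Subgroup G) := by
  have hz : IsPGroup p (Subgroup.zpowers u) := by
    rintro ⟨y, hy⟩
    obtain ⟨k, rfl⟩ := Subgroup.mem_zpowers_iff.mp hy
    refine ⟨1, Subtype.ext ?_⟩
    show (u ^ k) ^ p ^ 1 = 1
    rw [pow_one, ← zpow_natCast, ← zpow_mul, mul_comm, zpow_mul, zpow_natCast, hup, one_zpow]
  have hle : Subgroup.zpowers u ≤ Subgroup.normalizer ((Q : Subgroup G) : Set G) := by
    rw [Subgroup.zpowers_le, Subgroup.mem_normalizer_iff]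
    intro h
    constructor
    · intro hh
      rw [hu h hh]
      simpa using hh
    · intro hh
      have h1 := hu _ hh
      have h2 : u * h * u⁻¹ = h := by
        have h3 : u * (u * h * u⁻¹) = u * h := by rw [h1]; group
        exact mul_left_cancel h3
      rwa [h2] at hh
  have hsup := IsPGroup.to_sup_of_normal_left' Q.isPGroup' hz hle
  have h4 := Q.is_maximal' hsup le_sup_left
  rw [← h4]
  exact (le_sup_right : Subgroup.zpowers u ≤ _) (Subgroup.mem_zpowers u)

/-- with `p + 1` Sylow `p`-subgroups of order `p`, a central element of order dividing `p` is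
trivial -/
theorem helper58_central_p_eq_one {G : Type*} [Group G] [Finite G] (p : ℕ) [Fact p.Prime]
    (P : Sylow p G) (hP : Nat.card P = p) (hn : Nat.card (Sylow p G) = p + 1)
    (c : G) (hc : c ∈ Subgroup.center G) (hcp : c ^ p = 1) : c = 1 := by
  have hp : p.Prime := Fact.out
  by_contra hc1
  have hmem : ∀ Q : Sylow p G, c ∈ (Q : Subgroup G) := fun Q =>
    helper58_mem_sylow_of_cent p Q c (fun y _ => (Subgroup.mem_center_iff.mp hc y).symm) hcp
  have hcard : ∀ Q : Sylow p G, Nat.card (Q : Subgroup G) = p := fun Q => by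
    rw [Sylow.card_eq_multiplicity Q, ← Sylow.card_eq_multiplicity P, hP]
  have hoc : orderOf c = p := orderOf_eq_prime hcp hc1
  have heq : ∀ Q : Sylow p G, (Q : Subgroup G) = Subgroup.zpowers c := fun Q => by
    symm
    apply Subgroup.eq_of_le_of_card_ge
    · rw [Subgroup.zpowers_le]; exact hmem Q
    · rw [hcard Q, Nat.card_zpowers, hoc]
  have hsub : Subsingleton (Sylow p G) := ⟨fun Q R => Sylow.ext ((heq Q).trans (heq R).symm)⟩
  have h1 : Nat.card (Sylow p G) ≤ 1 := Finite.card_le_one_iff_subsingleton.mpr hsub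
  have := hp.pos
  omega

/-- a `p`-element normalizing a Sylow `p`-subgroup lies in it -/
theorem helper58_mem_sylow_of_norm {G : Type*} [Group G] (p : ℕ) [Fact p.Prime] (Q : Sylow p G)
    (u : G) (hu : u ∈ Subgroup.normalizer ((Q : Subgroup G) : Set G)) (hup : u ^ p = 1) :
    u ∈ (Q : Subgroup G) := by
  have hz : IsPGroup p (Subgroup.zpowers u) := by
    rintro ⟨y, hy⟩
    obtain ⟨k, rfl⟩ := Subgroup.mem_zpowers_iff.mp hy
    refine ⟨1, Subtype.ext ?_⟩
    show (u ^ k) ^ p ^ 1 = 1
    rw [pow_one, ← zpow_natCast, ← zpow_mul, mul_comm, zpow_mul, zpow_natCast, hup, one_zpow]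
  have hle : Subgroup.zpowers u ≤ Subgroup.normalizer ((Q : Subgroup G) : Set G) := by
    rw [Subgroup.zpowers_le]; exact hu
  have hsup := IsPGroup.to_sup_of_normal_left' Q.isPGroup' hz hle
  have h4 := Q.is_maximal' hsup le_sup_left
  rw [← h4]
  exact (le_sup_right : Subgroup.zpowers u ≤ _) (Subgroup.mem_zpowers u)

/-- with `p + 1` Sylow `p`-subgroups of order `p`, an element of order dividing `p` lying in all
of them is trivial -/
theorem helper58_all_sylow_eq_one {G : Type*} [Group G] [Finite G] (p : ℕ) [Fact p.Prime]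
    (P : Sylow p G) (hP : Nat.card P = p) (hn : Nat.card (Sylow p G) = p + 1)
    (c : G) (hmem : ∀ Q : Sylow p G, c ∈ (Q : Subgroup G)) (hcp : c ^ p = 1) : c = 1 := by
  have hp : p.Prime := Fact.out
  by_contra hc1
  have hcard : ∀ Q : Sylow p G, Nat.card (Q : Subgroup G) = p := fun Q => by
    rw [Sylow.card_eq_multiplicity Q, ← Sylow.card_eq_multiplicity P, hP]
  have hoc : orderOf c = p := orderOf_eq_prime hcp hc1
  have heq : ∀ Q : Sylow p G, (Q : Subgroup G) = Subgroup.zpowers c := fun Q => by
    symm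
    apply Subgroup.eq_of_le_of_card_ge
    · rw [Subgroup.zpowers_le]; exact hmem Q
    · rw [hcard Q, Nat.card_zpowers, hoc]
  have hsub : Subsingleton (Sylow p G) := ⟨fun Q R => Sylow.ext ((heq Q).trans (heq R).symm)⟩
  have h1 : Nat.card (Sylow p G) ≤ 1 := Finite.card_le_one_iff_subsingleton.mpr hsub
  have := hp.pos
  omega

/-- an element fixing every Sylow `p`-subgroup is central, if the centralizer of all Sylow
`p`-subgroups is central -/
theorem helper58_fixAll_central {G : Type*} [Group G] [Finite G] (p : ℕ) [Fact p.Prime]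
    (P : Sylow p G) (hP : Nat.card P = p) (hn : Nat.card (Sylow p G) = p + 1)
    (hcent : ∀ g : G, (∀ Q : Sylow p G, ∀ y ∈ (Q : Subgroup G), g * y = y * g) →
      g ∈ Subgroup.center G)
    (l : G) (hl : ∀ Q : Sylow p G, l • Q = Q) : l ∈ Subgroup.center G := by
  have hcard : ∀ Q : Sylow p G, Nat.card (Q : Subgroup G) = p := fun Q => by
    rw [Sylow.card_eq_multiplicity Q, ← Sylow.card_eq_multiplicity P, hP]
  have hlinv : ∀ Q : Sylow p G, l⁻¹ • Q = Q := fun Q => by
    rw [inv_smul_eq_iff, hl Q]
  apply hcent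
  intro Q y hy
  have hlN : l ∈ Subgroup.normalizer ((Q : Subgroup G) : Set G) :=
    Sylow.smul_eq_iff_mem_normalizer.mp (hl Q)
  have hc_mem : l * y * l⁻¹ * y⁻¹ ∈ (Q : Subgroup G) :=
    Subgroup.mul_mem _ ((Subgroup.mem_normalizer_iff.mp hlN y).mp hy) (Subgroup.inv_mem _ hy)
  have hc_fix : ∀ R : Sylow p G, (l * y * l⁻¹ * y⁻¹) • R = R := by
    intro R
    rw [mul_smul, mul_smul, mul_smul, hlinv, smul_inv_smul, hl]
  have hcp : (l * y * l⁻¹ * y⁻¹) ^ p = 1 := by
    have h := pow_card_eq_one' (G := (Q : Subgroup G)) (x := ⟨_, hc_mem⟩)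
    rw [hcard Q] at h
    simpa using congrArg Subtype.val h
  have hc1 : l * y * l⁻¹ * y⁻¹ = 1 := by
    apply helper58_all_sylow_eq_one p P hP hn _ _ hcp
    intro R
    exact helper58_mem_sylow_of_norm p R _ (Sylow.smul_eq_iff_mem_normalizer.mp (hc_fix R)) hcp
  have h4 : l * y = (l * y * l⁻¹ * y⁻¹) * (y * l) := by group
  rw [h4, hc1, one_mul]

/-- (V5) the `p`-regular elements of `C_G(P)` are central. -/
theorem helper58_bg_K_central {G : Type*} [Group G] [Finite G] (p : ℕ) [Fact p.Prime]
    (P : Sylow p G) (hP : Nat.card P = p) (hn : Nat.card (Sylow p G) = p + 1)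
    (hcent : ∀ g : G, (∀ Q : Sylow p G, ∀ y ∈ (Q : Subgroup G), g * y = y * g) →
      g ∈ Subgroup.center G) :
    ∀ k ∈ Subgroup.centralizer ((P : Subgroup G) : Set G), ¬ p ∣ orderOf k →
      k ∈ Subgroup.center G := by
  classical
  intro k hk hko
  have hp : p.Prime := Fact.out
  have hn' : Nat.card (Sylow p G) = 1 + p := by rw [hn, add_comm]
  have hL0 := helper58_central_p_eq_one p P hP hn
  have hPp : ∀ u ∈ (P : Subgroup G), u ^ p = 1 := by
    intro u hu
    have h := pow_card_eq_one' (G := (P : Subgroup G)) (x := ⟨u, hu⟩)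
    rw [hP] at h
    simpa using congrArg Subtype.val h
  -- a second Sylow subgroup
  obtain ⟨Q₀, hQ₀⟩ : ∃ Q₀ : Sylow p G, Q₀ ≠ P := by
    by_contra hcon
    push Not at hcon
    have hsub : Subsingleton (Sylow p G) := ⟨fun Q R => (hcon Q).trans (hcon R).symm⟩
    have h1 : Nat.card (Sylow p G) ≤ 1 := Finite.card_le_one_iff_subsingleton.mpr hsub
    have := hp.pos
    omega
  have hkN : k ∈ Subgroup.normalizer ((P : Subgroup G) : Set G) :=
    Subgroup.centralizer_le_normalizer _ hk
  have hkP : k • P = P := Sylow.smul_eq_iff_mem_normalizer.mpr hkN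
  have hkQ₀ : k • Q₀ ≠ P := by
    intro h
    exact hQ₀ (smul_left_cancel k (h.trans hkP.symm))
  obtain ⟨u, hu, -⟩ := Cfsg.Agent.Lib.helper52.BrAl.al_reg P hP hn' Q₀ (k • Q₀) hQ₀ hkQ₀
  have huP : (u : G) • P = P :=
    Sylow.smul_eq_iff_mem_normalizer.mpr (Subgroup.le_normalizer u.2)
  have hfix : ∀ R : Sylow p G, ((u : G)⁻¹ * k) • R = R := by
    intro R
    by_cases hR : R = P
    · rw [hR, mul_smul, hkP, inv_smul_eq_iff, huP]
    · obtain ⟨v, hv, -⟩ := Cfsg.Agent.Lib.helper52.BrAl.al_reg P hP hn' Q₀ R hQ₀ hR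
      have hkv : k * (v : G) = (v : G) * k :=
        (Subgroup.mem_centralizer_iff.mp hk (v : G) v.2).symm
      have huv : (u : G) * (v : G) = (v : G) * (u : G) := by
        have hcomm : ∀ a b : (P : Subgroup G), (a : G) * (b : G) = (b : G) * (a : G) := by
          have hcyc : IsCyclic (P : Subgroup G) := by
            have : Fact (Nat.card (P : Subgroup G)).Prime := ⟨by rw [hP]; exact hp⟩
            exact isCyclic_of_prime_card rfl
          obtain ⟨g, hg⟩ := IsCyclic.exists_generator (α := (P : Subgroup G))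
          intro a b
          obtain ⟨i, rfl⟩ := Subgroup.mem_zpowers_iff.mp (hg a)
          obtain ⟨j, rfl⟩ := Subgroup.mem_zpowers_iff.mp (hg b)
          have h : g ^ i * g ^ j = g ^ j * g ^ i := by
            rw [← zpow_add, ← zpow_add, add_comm]
          have h' := congrArg Subtype.val h
          simpa only [Subgroup.coe_mul] using h'
        exact hcomm u v
      calc ((u : G)⁻¹ * k) • R = ((u : G)⁻¹ * k) • ((v : G) • Q₀) := by rw [hv]
        _ = ((u : G)⁻¹ * (v : G)) • (k • Q₀) := by
            rw [← mul_smul, ← mul_smul, mul_assoc, hkv, ← mul_assoc]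
        _ = ((u : G)⁻¹ * (v : G)) • ((u : G) • Q₀) := by rw [hu]
        _ = (v : G) • Q₀ := by
            rw [← mul_smul, mul_assoc, ← huv, inv_mul_cancel_left]
        _ = R := hv
  have hz : (u : G)⁻¹ * k ∈ Subgroup.center G :=
    helper58_fixAll_central p P hP hn hcent _ hfix
  have hzc : Commute ((u : G)⁻¹ * k) (u : G) := (Subgroup.mem_center_iff.mp hz (u : G)).symm
  have hk_eq : k = (u : G) * ((u : G)⁻¹ * k) := by group
  have huo : (u : G) ^ orderOf k ∈ Subgroup.center G := by
    have h1 : ((u : G) * ((u : G)⁻¹ * k)) ^ orderOf k = 1 := by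
      rw [← hk_eq]; exact pow_orderOf_eq_one k
    rw [hzc.symm.mul_pow] at h1
    have h2 : (u : G) ^ orderOf k = (((u : G)⁻¹ * k) ^ orderOf k)⁻¹ :=
      eq_inv_of_mul_eq_one_left h1
    rw [h2]
    exact Subgroup.inv_mem _ (Subgroup.pow_mem _ hz _)
  have huo1 : (u : G) ^ orderOf k = 1 := by
    apply hL0 _ huo
    rw [← pow_mul, mul_comm, pow_mul, hPp (u : G) u.2, one_pow]
  have hu1 : (u : G) = 1 := by
    have h1 : orderOf (u : G) ∣ orderOf k := orderOf_dvd_of_pow_eq_one huo1
    have h2 : orderOf (u : G) ∣ p := orderOf_dvd_of_pow_eq_one (hPp (u : G) u.2)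
    rcases (Nat.dvd_prime hp).mp h2 with h | h
    · exact orderOf_eq_one_iff.mp h
    · exact absurd (h ▸ h1) hko
  have hk' : (u : G)⁻¹ * k = k := by rw [hu1, inv_one, one_mul]
  rw [← hk']
  exact hz

/-- cardinality of the image in the quotient by the centre of a subgroup containing the centre -/
theorem helper58_card_map_mk {G : Type*} [Group G] [Finite G] (H : Subgroup G)
    (hH : Subgroup.center G ≤ H) :
    Nat.card (H.map (QuotientGroup.mk' (Subgroup.center G))) * Nat.card (Subgroup.center G)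
      = Nat.card H := by
  have hπ : Function.Surjective (QuotientGroup.mk' (Subgroup.center G)) :=
    QuotientGroup.mk'_surjective _
  have hidx : (H.map (QuotientGroup.mk' (Subgroup.center G))).index = H.index :=
    Subgroup.index_map_eq H hπ (by rw [QuotientGroup.ker_mk']; exact hH)
  have h1 := Subgroup.card_mul_index H
  have h2 := Subgroup.card_mul_index (H.map (QuotientGroup.mk' (Subgroup.center G)))
  have h3 := Subgroup.card_eq_card_quotient_mul_card_subgroup (Subgroup.center G)
  rw [hidx] at h2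
  have h0 : H.index ≠ 0 := Subgroup.index_ne_zero_of_finite
  have h4 : Nat.card (H.map (QuotientGroup.mk' (Subgroup.center G))) *
      Nat.card (Subgroup.center G) * H.index = Nat.card H * H.index := by
    rw [h1, h3, ← h2]; ring
  exact Nat.eq_of_mul_eq_mul_right (Nat.pos_of_ne_zero h0) h4

/-- (V7 + V8) the group-theoretic endgame of S4504. -/
theorem helper58_bg_endgame {G : Type*} [Group G] [Finite G] (p : ℕ) [Fact p.Prime]
    (P : Sylow p G) (hP : Nat.card P = p) (d : ℕ) (hd : 2 * d + 1 = p) (hd2 : 2 ≤ d)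
    (hperf : commutator (G ⧸ Subgroup.center G) = ⊤)
    (hK : ∀ k ∈ Subgroup.centralizer ((P : Subgroup G) : Set G), ¬ p ∣ orderOf k →
      k ∈ Subgroup.center G)
    (hidx : (Subgroup.centralizer ((P : Subgroup G) : Set G)).relIndex
      (Subgroup.normalizer ((P : Subgroup G) : Set G)) = d)
    (hn : Nat.card (Sylow p G) = p + 1) :
    Nonempty ((G ⧸ Subgroup.center G) ≃*
      Matrix.ProjectiveSpecialLinearGroup (Fin 2) (ZMod p)) := by
  classical
  have hp : p.Prime := Fact.out
  have hπ : Function.Surjective (QuotientGroup.mk' (Subgroup.center G)) :=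
    QuotientGroup.mk'_surjective _
  have hker : (QuotientGroup.mk' (Subgroup.center G)).ker = Subgroup.center G :=
    QuotientGroup.ker_mk' _
  have hL0 := helper58_central_p_eq_one p P hP hn
  -- a generator of `P`
  obtain ⟨x, hxP, hx1⟩ : ∃ x ∈ (P : Subgroup G), x ≠ 1 := by
    by_contra hcon
    push Not at hcon
    have h0 : (P : Subgroup G) = ⊥ := (Subgroup.eq_bot_iff_forall _).mpr hcon
    have h1 : Nat.card (P : Subgroup G) = 1 := by rw [h0]; exact Subgroup.card_bot
    rw [hP] at h1
    exact hp.one_lt.ne' h1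
  have hxp : x ^ p = 1 := by
    have h := pow_card_eq_one' (G := (P : Subgroup G)) (x := ⟨x, hxP⟩)
    rw [hP] at h
    simpa using congrArg Subtype.val h
  have hox : orderOf x = p := orderOf_eq_prime hxp hx1
  have hPz : (P : Subgroup G) = Subgroup.zpowers x := by
    symm
    apply Subgroup.eq_of_le_of_card_ge
    · rw [Subgroup.zpowers_le]; exact hxP
    · rw [hP, Nat.card_zpowers, hox]
  have hPp : ∀ u ∈ (P : Subgroup G), u ^ p = 1 := by
    intro u hu
    rw [hPz] at hu
    obtain ⟨k, rfl⟩ := Subgroup.mem_zpowers_iff.mp hu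
    rw [← zpow_natCast, ← zpow_mul, mul_comm, zpow_mul, zpow_natCast, hxp, one_zpow]
  -- arithmetic of `|G|`
  have hfac : (Nat.card G).factorization p = 1 := by
    have h := Sylow.card_eq_multiplicity P
    rw [hP] at h
    have h' : p ^ 1 = p ^ (Nat.card G).factorization p := by rw [pow_one]; exact h
    exact (Nat.pow_right_injective hp.two_le h').symm
  have hpG : p ∣ Nat.card G := by
    rw [← hP]; exact Subgroup.card_subgroup_dvd_card _
  obtain ⟨m, hGm⟩ := hpG
  have hpm : ¬ p ∣ m := by
    intro h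
    have h2 : p ^ 2 ∣ Nat.card G := by rw [hGm, pow_two]; exact mul_dvd_mul_left p h
    have h3 := (hp.pow_dvd_iff_le_factorization (Nat.card_pos (α := G)).ne').mp h2
    omega
  have hcop : Nat.gcd m p = 1 :=
    Nat.Coprime.symm ((Nat.Prime.coprime_iff_not_dvd hp).mpr hpm)
  -- `C_G(P) = P Z(G)`
  have hCle : Subgroup.centralizer ((P : Subgroup G) : Set G) ≤
      (P : Subgroup G) ⊔ Subgroup.center G := by
    intro g hg
    have hgm : g ^ m ∈ (P : Subgroup G) := by
      apply helper58_mem_sylow_of_cent p P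
      · intro y hy
        exact (Subgroup.mem_centralizer_iff.mp (Subgroup.pow_mem _ hg m) y hy).symm
      · rw [← pow_mul, mul_comm, ← hGm]; exact pow_card_eq_one'
    have hgp : g ^ p ∈ Subgroup.center G := by
      apply hK _ (Subgroup.pow_mem _ hg p)
      intro hdiv
      have h1 : orderOf (g ^ p) ∣ m :=
        orderOf_dvd_of_pow_eq_one (by rw [← pow_mul, ← hGm]; exact pow_card_eq_one')
      exact hpm (hdiv.trans h1)
    have hb : (m : ℤ) * Nat.gcdA m p + (p : ℤ) * Nat.gcdB m p = 1 := by
      have h := Nat.gcd_eq_gcd_ab m p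
      rw [hcop] at h
      exact_mod_cast h.symm
    have hg' : g = (g ^ m) ^ (Nat.gcdA m p) * (g ^ p) ^ (Nat.gcdB m p) := by
      rw [← zpow_natCast g m, ← zpow_natCast g p, ← zpow_mul, ← zpow_mul, ← zpow_add, hb,
        zpow_one]
    rw [hg']
    exact Subgroup.mul_mem _ (Subgroup.mem_sup_left (Subgroup.zpow_mem _ hgm _))
      (Subgroup.mem_sup_right (Subgroup.zpow_mem _ hgp _))
  have hPC : (P : Subgroup G) ≤ Subgroup.centralizer ((P : Subgroup G) : Set G) := by
    intro u hu
    rw [Subgroup.mem_centralizer_iff]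
    intro h hh
    have hh' : h ∈ (P : Subgroup G) := hh
    rw [hPz] at hu hh'
    obtain ⟨i, rfl⟩ := Subgroup.mem_zpowers_iff.mp hu
    obtain ⟨j, rfl⟩ := Subgroup.mem_zpowers_iff.mp hh'
    rw [← zpow_add, ← zpow_add, add_comm]
  have hCeq : Subgroup.centralizer ((P : Subgroup G) : Set G) =
      (P : Subgroup G) ⊔ Subgroup.center G :=
    le_antisymm hCle (sup_le hPC (Subgroup.center_le_centralizer _))
  -- the image of `P`
  set Pbar : Sylow p (G ⧸ Subgroup.center G) := P.mapSurjective hπ with hPbar_def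
  have hPbar : (Pbar : Subgroup (G ⧸ Subgroup.center G)) =
      (P : Subgroup G).map (QuotientGroup.mk' (Subgroup.center G)) := Sylow.coe_mapSurjective hπ P
  have hPbarz : (Pbar : Subgroup (G ⧸ Subgroup.center G)) =
      Subgroup.zpowers (QuotientGroup.mk' (Subgroup.center G) x) := by
    rw [hPbar, hPz, MonoidHom.map_zpowers]
  have hxZ : x ∉ Subgroup.center G := fun h => hx1 (hL0 x h hxp)
  have hoxb : orderOf (QuotientGroup.mk' (Subgroup.center G) x) = p := by
    apply orderOf_eq_prime
    · rw [← map_pow, hxp, map_one]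
    · intro h
      apply hxZ
      rw [← hker]
      exact h
  have hPbarcard : Nat.card (Pbar : Subgroup (G ⧸ Subgroup.center G)) = p := by
    rw [hPbarz, Nat.card_zpowers, hoxb]
  have hmapC : (Subgroup.centralizer ((P : Subgroup G) : Set G)).map
      (QuotientGroup.mk' (Subgroup.center G)) = (Pbar : Subgroup (G ⧸ Subgroup.center G)) := by
    rw [hCeq, Subgroup.map_sup, QuotientGroup.map_mk'_self, sup_bot_eq, hPbar]
  -- `C(P̄) = P̄`
  have hCbar : Subgroup.centralizer ((Pbar : Subgroup (G ⧸ Subgroup.center G)) :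
      Set (G ⧸ Subgroup.center G)) = (Pbar : Subgroup (G ⧸ Subgroup.center G)) := by
    apply le_antisymm
    · intro gb hgb
      obtain ⟨g, rfl⟩ := hπ gb
      have hxb : QuotientGroup.mk' (Subgroup.center G) x ∈
          ((Pbar : Subgroup (G ⧸ Subgroup.center G)) : Set (G ⧸ Subgroup.center G)) := by
        show _ ∈ (Pbar : Subgroup (G ⧸ Subgroup.center G))
        rw [hPbar]; exact Subgroup.mem_map_of_mem _ hxP
      have h1 := Subgroup.mem_centralizer_iff.mp hgb _ hxb
      have hc : g * x * g⁻¹ * x⁻¹ ∈ Subgroup.center G := by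
        rw [← hker, MonoidHom.mem_ker]
        simp only [map_mul, map_inv]
        rw [← h1]; group
      have hcx : Commute (g * x * g⁻¹ * x⁻¹) x := (Subgroup.mem_center_iff.mp hc x).symm
      have hcp : (g * x * g⁻¹ * x⁻¹) ^ p = 1 := by
        have h2 : (g * x * g⁻¹) ^ p = 1 := by rw [conj_pow, hxp]; group
        have h3 : g * x * g⁻¹ = (g * x * g⁻¹ * x⁻¹) * x := by group
        rw [h3, hcx.mul_pow, hxp, mul_one] at h2
        exact h2
      have hc1 := hL0 _ hc hcp
      have hgx : Commute g x := by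
        have : g * x = x * g := by
          have h4 : g * x = (g * x * g⁻¹ * x⁻¹) * (x * g) := by group
          rw [h4, hc1, one_mul]
        exact this
      have hgC : g ∈ Subgroup.centralizer ((P : Subgroup G) : Set G) := by
        rw [Subgroup.mem_centralizer_iff]
        intro h hh
        have hh' : h ∈ (P : Subgroup G) := hh
        rw [hPz] at hh'
        obtain ⟨j, rfl⟩ := Subgroup.mem_zpowers_iff.mp hh'
        exact ((hgx.zpow_right j).eq).symm
      rw [← hmapC]
      exact Subgroup.mem_map_of_mem _ hgC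
    · intro a ha
      rw [Subgroup.mem_centralizer_iff]
      intro b hb
      have hb' : b ∈ (Pbar : Subgroup (G ⧸ Subgroup.center G)) := hb
      rw [hPbarz] at ha hb'
      obtain ⟨i, rfl⟩ := Subgroup.mem_zpowers_iff.mp ha
      obtain ⟨j, rfl⟩ := Subgroup.mem_zpowers_iff.mp hb'
      rw [← zpow_add, ← zpow_add, add_comm]
  -- `N(P̄)` is the image of `N(P)`
  have hNbar : Subgroup.normalizer ((Pbar : Subgroup (G ⧸ Subgroup.center G)) :
      Set (G ⧸ Subgroup.center G)) = (Subgroup.normalizer ((P : Subgroup G) : Set G)).map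
        (QuotientGroup.mk' (Subgroup.center G)) := by
    apply le_antisymm
    · intro nb hnb
      obtain ⟨n, rfl⟩ := hπ nb
      have hxb : QuotientGroup.mk' (Subgroup.center G) x ∈
          (Pbar : Subgroup (G ⧸ Subgroup.center G)) := by
        rw [hPbar]; exact Subgroup.mem_map_of_mem _ hxP
      have h1 := (Subgroup.mem_normalizer_iff.mp hnb _).mp hxb
      rw [hPbar] at h1
      obtain ⟨u, hu, hu'⟩ := h1
      have hz : u⁻¹ * (n * x * n⁻¹) ∈ Subgroup.center G := by
        rw [← hker, MonoidHom.mem_ker]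
        simp only [map_mul, map_inv]
        rw [hu']; group
      have hzu : Commute (u⁻¹ * (n * x * n⁻¹)) u := (Subgroup.mem_center_iff.mp hz u).symm
      have hzp : (u⁻¹ * (n * x * n⁻¹)) ^ p = 1 := by
        have h2 : (n * x * n⁻¹) ^ p = 1 := by rw [conj_pow, hxp]; group
        have h3 : n * x * n⁻¹ = (u⁻¹ * (n * x * n⁻¹)) * u := by
          rw [hzu.eq]; group
        rw [h3, hzu.mul_pow, hPp u hu, mul_one] at h2
        exact h2
      have hz1 := hL0 _ hz hzp
      have hnx : n * x * n⁻¹ ∈ (P : Subgroup G) := by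
        have : n * x * n⁻¹ = u := by
          have h4 : n * x * n⁻¹ = u * (u⁻¹ * (n * x * n⁻¹)) := by group
          rw [h4, hz1, mul_one]
        rw [this]; exact hu
      have hnN : n ∈ Subgroup.normalizer ((P : Subgroup G) : Set G) := by
        apply Subgroup.mem_normalizer_fintype
        intro h hh
        have hh' : h ∈ (P : Subgroup G) := hh
        rw [hPz] at hh'
        obtain ⟨j, rfl⟩ := Subgroup.mem_zpowers_iff.mp hh'
        show n * x ^ j * n⁻¹ ∈ (P : Subgroup G)
        have h5 : n * x ^ j * n⁻¹ = (n * x * n⁻¹) ^ j := by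
          rw [conj_zpow]
        rw [h5]
        exact Subgroup.zpow_mem _ hnx j
      exact Subgroup.mem_map_of_mem _ hnN
    · rw [hPbar]
      exact Subgroup.le_normalizer_map _
  have hZN : Subgroup.center G ≤ Subgroup.normalizer ((P : Subgroup G) : Set G) :=
    (Subgroup.center_le_centralizer _).trans (Subgroup.centralizer_le_normalizer _)
  -- counting
  have hc1 := helper58_card_map_mk (Subgroup.normalizer ((P : Subgroup G) : Set G)) hZN
  have hc2 := helper58_card_map_mk (Subgroup.centralizer ((P : Subgroup G) : Set G))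
    (Subgroup.center_le_centralizer _)
  rw [hmapC, hPbarcard] at hc2
  rw [← hNbar] at hc1
  have hCN : Nat.card (Subgroup.normalizer ((P : Subgroup G) : Set G)) =
      Nat.card (Subgroup.centralizer ((P : Subgroup G) : Set G)) * d := by
    have h1 := Subgroup.card_mul_index (Subgroup.normalizer ((P : Subgroup G) : Set G))
    have h2 := Subgroup.card_mul_index (Subgroup.centralizer ((P : Subgroup G) : Set G))
    have h3 := Subgroup.relIndex_mul_index (Subgroup.centralizer_le_normalizer
      ((P : Subgroup G) : Set G))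
    rw [hidx] at h3
    have h0 : (Subgroup.normalizer ((P : Subgroup G) : Set G)).index ≠ 0 :=
      Subgroup.index_ne_zero_of_finite
    have h4 : Nat.card (Subgroup.normalizer ((P : Subgroup G) : Set G)) *
        (Subgroup.normalizer ((P : Subgroup G) : Set G)).index =
        Nat.card (Subgroup.centralizer ((P : Subgroup G) : Set G)) * d *
        (Subgroup.normalizer ((P : Subgroup G) : Set G)).index := by
      rw [h1, ← h2, ← h3]; ring
    exact Nat.eq_of_mul_eq_mul_right (Nat.pos_of_ne_zero h0) h4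
  have hNcard : Nat.card (Subgroup.normalizer ((Pbar : Subgroup (G ⧸ Subgroup.center G)) :
      Set (G ⧸ Subgroup.center G))) = d * p := by
    have hZpos : 0 < Nat.card (Subgroup.center G) := Nat.card_pos
    have h5 : Nat.card (Subgroup.normalizer ((Pbar : Subgroup (G ⧸ Subgroup.center G)) :
      Set (G ⧸ Subgroup.center G))) * Nat.card (Subgroup.center G) =
        d * p * Nat.card (Subgroup.center G) := by
      rw [hc1, hCN, ← hc2]; ring
    exact Nat.eq_of_mul_eq_mul_right hZpos h5
  have hSyl : Nat.card (Sylow p (G ⧸ Subgroup.center G)) = 1 + p := by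
    have h1 : Nat.card (Sylow p (G ⧸ Subgroup.center G)) =
        (Subgroup.normalizer ((Pbar : Subgroup (G ⧸ Subgroup.center G)) :
          Set (G ⧸ Subgroup.center G))).index := Sylow.card_eq_index_normalizer Pbar
    have h2 : Nat.card (Sylow p G) = (Subgroup.normalizer ((P : Subgroup G) : Set G)).index :=
      Sylow.card_eq_index_normalizer P
    rw [h1, hNbar, Subgroup.index_map_eq _ hπ (by rw [hker]; exact hZN), ← h2, hn, add_comm]
  obtain ⟨F, iF, iFt, hF, ⟨e⟩⟩ := Cfsg.Agent.Lib.helper84.Br.brauer_alpha hperf p Pbar hPbarcard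
    hCbar d hNcard hd2 (by omega) hSyl
  obtain ⟨e'⟩ := Cfsg.Agent.Lib.helper18.nonempty_pslCongr_of_card_eq (n := Fin 2) (K := F)
    (K' := ZMod p) (by rw [hF, ZMod.card])
  exact ⟨e.trans e'⟩

end Cfsg.Agent.Lib.helper2.BG
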