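import Mathlib

set_option autoImplicit false

namespace Cfsg.Agent.Lib.helper58

open scoped Pointwise

/-- If `Q` is a `p`-subgroup of `N` and `T` is a Sylow `p`-subgroup of `G` contained in `N`,
then some `N`-conjugate of `Q` lies in `T`. -/
theorem exists_conj_mem_sylow_of_le {G : Type*} [Group G] [Finite G] {p : ℕ} [Fact p.Prime]
    (T : Sylow p G) {N Q : Subgroup G} (hTN : (T : Subgroup G) ≤ N) (hQN : Q ≤ N)
    (hQ : IsPGroup p ↥Q) :
    ∃ n ∈ N, ∀ x ∈ Q, n * x * n⁻¹ ∈ (T : Subgroup G) := by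
  have hQ' : IsPGroup p ↥(Q.subgroupOf N) := hQ.comap_subtype
  obtain ⟨R, hR⟩ := hQ'.exists_le_sylow
  obtain ⟨n, hn⟩ := MulAction.exists_smul_eq ↥N R (T.subtype hTN)
  refine ⟨n, n.2, ?_⟩
  intro x hx
  have hxR : (⟨x, hQN hx⟩ : ↥N) ∈ (R : Subgroup ↥N) := hR (by
    rw [Subgroup.mem_subgroupOf]; exact hx)
  have h1 : n * ⟨x, hQN hx⟩ * n⁻¹ ∈ ((n • R : Sylow p ↥N) : Subgroup ↥N) := by
    rw [Sylow.coe_subgroup_smul]
    exact (Subgroup.mem_smul_pointwise_iff_exists _ _ _).mpr ⟨_, hxR, rfl⟩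
  rw [hn, Sylow.coe_subtype, Subgroup.mem_subgroupOf] at h1
  exact h1

/-- Normalizers grow in finite `p`-groups (ambient form). -/
theorem exists_mem_normalizer_notMem {G : Type*} [Group G] [Finite G] {p : ℕ} [Fact p.Prime]
    {Q R : Subgroup G} (hR : IsPGroup p R) (hQR : Q ≤ R) (hne : Q ≠ R) :
    ∃ y ∈ R, y ∉ Q ∧ y ∈ Subgroup.normalizer (Q : Set G) := by
  have : Group.IsNilpotent R := hR.isNilpotent
  have hnc : NormalizerCondition R := Group.normalizerCondition_of_isNilpotent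
  have hlt : Q.subgroupOf R < ⊤ := by
    rw [lt_top_iff_ne_top]
    intro h
    rw [Subgroup.subgroupOf_eq_top] at h
    exact hne (le_antisymm hQR h)
  have h2 := hnc _ hlt
  obtain ⟨y, hy1, hy2⟩ := SetLike.exists_of_lt h2
  refine ⟨y, y.2, ?_, ?_⟩
  · intro h; exact hy2 (Subgroup.mem_subgroupOf.mpr h)
  · rw [Subgroup.mem_normalizer_iff]
    intro x
    have hy1' := Subgroup.mem_normalizer_iff.mp hy1
    constructor
    · intro hx
      have := (hy1' ⟨x, hQR hx⟩).mp (Subgroup.mem_subgroupOf.mpr hx)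
      exact Subgroup.mem_subgroupOf.mp this
    · intro hx
      have hxR : x ∈ R := by
        have h3 : (y : G)⁻¹ * ((y : G) * x * (y : G)⁻¹) * (y : G) ∈ R :=
          R.mul_mem (R.mul_mem (R.inv_mem y.2) (hQR hx)) y.2
        have h4 : (y : G)⁻¹ * ((y : G) * x * (y : G)⁻¹) * (y : G) = x := by group
        rwa [h4] at h3
      have := (hy1' ⟨x, hxR⟩).mpr (Subgroup.mem_subgroupOf.mpr hx)
      exact Subgroup.mem_subgroupOf.mp this

/-- Membership in a conjugate Sylow subgroup. -/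
theorem mem_smul_sylow_iff {G : Type*} [Group G] {p : ℕ} (g x : G) (P : Sylow p G) :
    x ∈ g • P ↔ g⁻¹ * x * g ∈ P := by
  have h1 : x ∈ g • P ↔ x ∈ (MulAut.conj g • (P : Subgroup G)) := Iff.rfl
  rw [h1, Subgroup.mem_pointwise_smul_iff_inv_smul_mem]
  simp only [MulAut.smul_def, MulAut.inv_apply, MulAut.conj_symm_apply]
  exact Iff.rfl

/-- The cyclic group generated by an element of a `p`-subgroup is a `p`-group. -/
theorem isPGroup_zpowers_of_mem {G : Type*} [Group G] {p : ℕ} {P : Subgroup G} (hP : IsPGroup p P)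
    {x : G} (hx : x ∈ P) : IsPGroup p (Subgroup.zpowers x) :=
  hP.to_le (by rw [Subgroup.zpowers_le]; exact hx)

end Cfsg.Agent.Lib.helper58
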