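import Mathlib
import Cfsg.Prelude.Def_CaseTheorems
import Cfsg.Agent.Lib.helper58.SylowTools
import Cfsg.Agent.Lib.helper40.Cores

/-!
# Groups whose Sylow 2-intersections are central in some Sylow 2-subgroup (helper58)

`ci_isolated`: under the hypothesis of S3184 the involution `c` of a cyclic characteristic subgroup
of a Sylow 2-subgroup `S` is the only conjugate of itself in `S`.
`ci_central_mod_core`: consequently (given the `Z*`-theorem for `G`) it is central modulo `O(G)`.
-/

set_option autoImplicit false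

namespace Cfsg.Agent.Lib.helper58

open scoped Pointwise

section Aut

variable {G : Type*} [Group G]

/-- Conjugation by an element of the normalizer, as an automorphism of the subgroup. -/
def normConjAut (H : Subgroup G) (n : G) (hn : n ∈ Subgroup.normalizer (H : Set G)) :
    ↥H ≃* ↥H where
  toFun s := ⟨n * s * n⁻¹, (Subgroup.mem_normalizer_iff.mp hn s).mp s.2⟩
  invFun s := ⟨n⁻¹ * s * n, by
    apply (Subgroup.mem_normalizer_iff.mp hn (n⁻¹ * s * n)).mpr
    have : n * (n⁻¹ * s * n) * n⁻¹ = s := by group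
    rw [this]; exact s.2⟩
  left_inv s := by apply Subtype.ext; simp only []; group
  right_inv s := by apply Subtype.ext; simp only []; group
  map_mul' a b := by apply Subtype.ext; simp only [Subgroup.coe_mul]; group

theorem normConjAut_coe (H : Subgroup G) (n : G) (hn : n ∈ Subgroup.normalizer (H : Set G))
    (s : H) : ((normConjAut H n hn s : H) : G) = n * s * n⁻¹ := rfl

/-- A finite cyclic group has at most one element of order 2. -/
theorem cyclic_involution_unique {C : Type*} [Group C] [Finite C] [IsCyclic C] {a b : C}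
    (ha : orderOf a = 2) (hb : orderOf b = 2) : a = b := by
  classical
  haveI := Fintype.ofFinite C
  by_contra hne
  have h := IsCyclic.card_pow_eq_one_le (α := C) (n := 2) (by norm_num)
  have ha1 : a ≠ 1 := by
    intro h1; rw [h1, orderOf_one] at ha; norm_num at ha
  have hb1 : b ≠ 1 := by
    intro h1; rw [h1, orderOf_one] at hb; norm_num at hb
  have hsub : ({1, a, b} : Finset C) ⊆ Finset.univ.filter (fun x => x ^ 2 = 1) := by
    intro x hx
    simp only [Finset.mem_insert, Finset.mem_singleton] at hx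
    simp only [Finset.mem_filter, Finset.mem_univ, true_and]
    rcases hx with rfl | rfl | rfl
    · simp
    · rw [← ha]; exact pow_orderOf_eq_one _
    · rw [← hb]; exact pow_orderOf_eq_one _
  have h3 : ({1, a, b} : Finset C).card = 3 := by
    rw [Finset.card_insert_of_notMem, Finset.card_insert_of_notMem, Finset.card_singleton]
    · simpa using hne
    · simp only [Finset.mem_insert, Finset.mem_singleton, not_or]
      exact ⟨fun h => ha1 h.symm, fun h => hb1 h.symm⟩
  have h4 := Finset.card_le_card hsub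
  omega

/-- The involution of a cyclic characteristic subgroup is fixed by every automorphism. -/
theorem char_cyclic_involution_fixed {S : Type*} [Group S] [Finite S] (C : Subgroup S)
    (hCc : IsCyclic C) (hCh : C.Characteristic) (c : S) (hc : c ∈ C) (hc2 : orderOf c = 2)
    (φ : S ≃* S) : φ c = c := by
  have hφc : φ c ∈ C := by
    have h := Subgroup.characteristic_iff_map_eq.mp hCh φ
    rw [← h]
    exact ⟨c, hc, rfl⟩
  have h1 : orderOf (⟨φ c, hφc⟩ : C) = 2 := by
    rw [Subgroup.orderOf_mk, MulEquiv.orderOf_eq]; exact hc2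
  have h2 : orderOf (⟨c, hc⟩ : C) = 2 := by
    rw [Subgroup.orderOf_mk]; exact hc2
  exact congrArg Subtype.val (cyclic_involution_unique h1 h2)

end Aut

section CI

variable {G : Type*} [Group G] [Finite G]

/-- Under the hypothesis that Sylow 2-intersections are central in some Sylow 2-subgroup, the
involution of a cyclic characteristic subgroup of a Sylow 2-subgroup `S` is its only conjugate
in `S`. -/
theorem ci_isolated
    (hCI : ∀ S T : Sylow 2 G, S ≠ T → ∃ U : Sylow 2 G,
      (S : Subgroup G) ⊓ (T : Subgroup G) ≤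
        (Subgroup.center ↥(U : Subgroup G)).map (U : Subgroup G).subtype)
    (S : Sylow 2 G) (C : Subgroup ↥(S : Subgroup G)) (hCc : IsCyclic ↥C) (hCh : C.Characteristic)
    (c : ↥(S : Subgroup G)) (hc : c ∈ C) (hc2 : orderOf c = 2) (g : G)
    (hg : g * (c : G) * g⁻¹ ∈ (S : Subgroup G)) : g * (c : G) * g⁻¹ = (c : G) := by
  have : Fact (Nat.Prime 2) := ⟨Nat.prime_two⟩
  have hN1 : ∀ n ∈ Subgroup.normalizer ((S : Subgroup G) : Set G),
      n * (c : G) * n⁻¹ = (c : G) := by
    intro n hn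
    have h := char_cyclic_involution_fixed C hCc hCh c hc hc2 (normConjAut (S : Subgroup G) n hn)
    exact congrArg Subtype.val h
  have hcS : ∀ s ∈ (S : Subgroup G), s * (c : G) = (c : G) * s := by
    intro s hs
    have h := hN1 s (Subgroup.le_normalizer hs)
    calc s * (c : G) = (s * c * s⁻¹) * s := by group
      _ = c * s := by rw [h]
  have hN2 : ∀ (h n : G), n ∈ Subgroup.normalizer (((h • S : Sylow 2 G) : Subgroup G) : Set G) →
      n * (h * (c : G) * h⁻¹) * n⁻¹ = h * (c : G) * h⁻¹ := by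
    intro h n hn
    have h1 : h⁻¹ * n * h ∈ Subgroup.normalizer ((S : Subgroup G) : Set G) := by
      rw [Subgroup.mem_normalizer_iff] at hn ⊢
      intro s
      have h3 := hn (h * s * h⁻¹)
      have e1 : h * s * h⁻¹ ∈ ((h • S : Sylow 2 G) : Subgroup G) ↔ s ∈ (S : Subgroup G) := by
        have := mem_smul_sylow_iff h (h * s * h⁻¹) S
        have e : h⁻¹ * (h * s * h⁻¹) * h = s := by group
        rw [e] at this
        exact this
      have e2 : n * (h * s * h⁻¹) * n⁻¹ ∈ ((h • S : Sylow 2 G) : Subgroup G) ↔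
          (h⁻¹ * n * h) * s * (h⁻¹ * n * h)⁻¹ ∈ (S : Subgroup G) := by
        have := mem_smul_sylow_iff h (n * (h * s * h⁻¹) * n⁻¹) S
        have e : h⁻¹ * (n * (h * s * h⁻¹) * n⁻¹) * h = (h⁻¹ * n * h) * s * (h⁻¹ * n * h)⁻¹ := by
          group
        rw [e] at this
        exact this
      exact e1.symm.trans (h3.trans e2)
    have h2 := hN1 _ h1
    calc n * (h * (c : G) * h⁻¹) * n⁻¹
        = h * ((h⁻¹ * n * h) * (c : G) * (h⁻¹ * n * h)⁻¹) * h⁻¹ := by group
      _ = h * (c : G) * h⁻¹ := by rw [h2]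
  obtain ⟨x, hx⟩ : ∃ x : G, x = g * (c : G) * g⁻¹ := ⟨_, rfl⟩
  rw [← hx] at hg ⊢
  have hxc : x * (c : G) = (c : G) * x := hcS x hg
  have hUle : ((g • S : Sylow 2 G) : Subgroup G) ≤ Subgroup.centralizer ({x} : Set G) := by
    intro y hy
    have hy' : g⁻¹ * y * g ∈ (S : Subgroup G) := (mem_smul_sylow_iff g y S).mp hy
    rw [Subgroup.mem_centralizer_singleton_iff]
    have h1 := hcS _ hy'
    rw [hx]
    calc y * (g * (c : G) * g⁻¹) = g * ((g⁻¹ * y * g) * (c : G)) * g⁻¹ := by group
      _ = g * ((c : G) * (g⁻¹ * y * g)) * g⁻¹ := by rw [h1]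
      _ = g * (c : G) * g⁻¹ * y := by group
  have hcx : Subgroup.zpowers (c : G) ≤ Subgroup.centralizer ({x} : Set G) := by
    rw [Subgroup.zpowers_le, Subgroup.mem_centralizer_singleton_iff]
    exact hxc.symm
  have hpc : IsPGroup 2 (Subgroup.zpowers (c : G)) :=
    isPGroup_zpowers_of_mem S.isPGroup' c.2
  obtain ⟨k, hk, hkc⟩ := exists_conj_mem_sylow_of_le (g • S) hUle hcx hpc
  have hkc' : k * (c : G) * k⁻¹ ∈ (g • S : Sylow 2 G) := hkc c (Subgroup.mem_zpowers _)
  have hkx : k * x = x * k := Subgroup.mem_centralizer_singleton_iff.mp hk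
  obtain ⟨g', hg'⟩ : ∃ g' : G, g' = k⁻¹ * g := ⟨_, rfl⟩
  have hx' : g' * (c : G) * g'⁻¹ = x := by
    rw [hg']
    calc k⁻¹ * g * (c : G) * (k⁻¹ * g)⁻¹ = k⁻¹ * (g * (c : G) * g⁻¹) * k := by group
      _ = k⁻¹ * (x * k) := by rw [← hx]; group
      _ = k⁻¹ * (k * x) := by rw [hkx]
      _ = x := by group
  have hcU : (c : G) ∈ (g' • S : Sylow 2 G) := by
    rw [mem_smul_sylow_iff]
    have h1 := (mem_smul_sylow_iff g _ S).mp hkc'
    have e : g'⁻¹ * (c : G) * g' = g⁻¹ * (k * (c : G) * k⁻¹) * g := by rw [hg']; group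
    rw [e]; exact h1
  have hxU : x ∈ (g' • S : Sylow 2 G) := by
    rw [mem_smul_sylow_iff, ← hx']
    have e : g'⁻¹ * (g' * (c : G) * g'⁻¹) * g' = (c : G) := by group
    rw [e]; exact c.2
  by_cases hSU : S = g' • S
  · have hn : g' ∈ Subgroup.normalizer ((S : Subgroup G) : Set G) :=
      Sylow.smul_eq_iff_mem_normalizer.mp hSU.symm
    rw [← hx']; exact hN1 g' hn
  · obtain ⟨W, hW⟩ := hCI S (g' • S) hSU
    have hcW := hW (Subgroup.mem_inf.mpr ⟨c.2, hcU⟩)
    have hxW := hW (Subgroup.mem_inf.mpr ⟨hg, hxU⟩)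
    obtain ⟨h, hh⟩ := MulAction.exists_smul_eq G S W
    have hcen : ∀ y : G,
        y ∈ (Subgroup.center ↥(W : Subgroup G)).map (W : Subgroup G).subtype →
        y ∈ Subgroup.centralizer ((W : Subgroup G) : Set G) := by
      rintro y ⟨w, hw, rfl⟩
      rw [Subgroup.mem_centralizer_iff]
      intro z hz
      have := Subgroup.mem_center_iff.mp hw ⟨z, hz⟩
      exact congrArg Subtype.val this
    have hhc : h * (c : G) * h⁻¹ ∈ Subgroup.centralizer ((W : Subgroup G) : Set G) := by
      rw [Subgroup.mem_centralizer_iff]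
      intro z hz
      rw [← hh] at hz
      have hz' : h⁻¹ * z * h ∈ (S : Subgroup G) := (mem_smul_sylow_iff h z S).mp hz
      have h1 := hcS _ hz'
      calc z * (h * (c : G) * h⁻¹) = h * ((h⁻¹ * z * h) * (c : G)) * h⁻¹ := by group
        _ = h * ((c : G) * (h⁻¹ * z * h)) * h⁻¹ := by rw [h1]
        _ = h * (c : G) * h⁻¹ * z := by group
    have key : ∀ y : G, y ∈ Subgroup.centralizer ((W : Subgroup G) : Set G) →
        ∀ g₂ : G, g₂⁻¹ * (h * (c : G) * h⁻¹) * g₂ = y → y = h * (c : G) * h⁻¹ := by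
      intro y hy g₂ hg₂
      obtain ⟨n, hn, hn'⟩ := W.conj_eq_normalizer_conj_of_mem_centralizer (h * (c : G) * h⁻¹) g₂
        hhc (by rw [hg₂]; exact hy)
      rw [hg₂] at hn'
      rw [hn']
      have h1 := hN2 h n⁻¹ (by rw [hh]; exact Subgroup.inv_mem _ hn)
      rw [inv_inv] at h1
      exact h1
    have h1 := key (c : G) (hcen _ hcW) h (by group)
    have h2 := key x (hcen _ hxW) (h * g'⁻¹) (by rw [← hx']; group)
    rw [h2, ← h1]

/-- Consequence of the `Z*`-theorem (given for `G` as a hypothesis `hZ`). -/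
theorem ci_central_mod_core
    (hZ : ∀ (P : Sylow 2 G) (u : G), orderOf u = 2 → u ∈ P →
      (∀ g : G, g * u * g⁻¹ ∈ P → g * u * g⁻¹ = u) →
      ∃ N : Subgroup G, N.Normal ∧ Odd (Nat.card N) ∧ ∀ g : G, (u * g * u⁻¹ * g⁻¹) ∈ N)
    (hCI : ∀ S T : Sylow 2 G, S ≠ T → ∃ U : Sylow 2 G,
      (S : Subgroup G) ⊓ (T : Subgroup G) ≤
        (Subgroup.center ↥(U : Subgroup G)).map (U : Subgroup G).subtype)
    (S : Sylow 2 G) (C : Subgroup ↥(S : Subgroup G)) (hCc : IsCyclic ↥C) (hCh : C.Characteristic)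
    (c : ↥(S : Subgroup G)) (hc : c ∈ C) (hc2 : orderOf c = 2) (g : G) :
    (QuotientGroup.mk (s := Cfsg.oddCore G) (g * (c : G) * g⁻¹)) =
      QuotientGroup.mk (s := Cfsg.oddCore G) (c : G) := by
  have hc2' : orderOf (c : G) = 2 := by rw [Subgroup.orderOf_coe]; exact hc2
  obtain ⟨N, hNn, hNodd, hN⟩ := hZ S (c : G) hc2' c.2
    (fun g hg => ci_isolated hCI S C hCc hCh c hc hc2 g hg)
  have hle : N ≤ Cfsg.oddCore G :=
    Cfsg.Agent.Lib.helper40.le_pPrimeCore N hNn (Nat.coprime_two_right.mpr hNodd)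
  rw [QuotientGroup.eq]
  apply hle
  have hcc : (c : G) * (c : G) = 1 := by
    have h := pow_orderOf_eq_one (c : G)
    rw [hc2', pow_two] at h
    exact h
  have hcinv : (c : G)⁻¹ = (c : G) := inv_eq_of_mul_eq_one_left hcc
  have h1 := hN g⁻¹
  have h2 := hNn.conj_mem _ h1 g
  have e : (g * (c : G) * g⁻¹)⁻¹ * (c : G)
      = g * ((c : G) * g⁻¹ * (c : G)⁻¹ * g⁻¹⁻¹) * g⁻¹ := by
    rw [hcinv]
    have : (g * (c : G) * g⁻¹)⁻¹ = g * (c : G)⁻¹ * g⁻¹ := by group
    rw [this, hcinv]; group
  rw [e]; exact h2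

end CI

end Cfsg.Agent.Lib.helper58
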