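import Mathlib
import Cfsg.Agent.Lib.helper58.Q8BlockA
import Cfsg.Agent.Lib.helper20.NormalIdem
import Cfsg.Agent.Lib.helper20.BlockOrth
import Cfsg.Agent.Lib.helper81.PrincipalQuot
import Cfsg.Agent.Lib.helper78.KleinBlock

/-!
# The principal block modulo a centralized normal `p`-subgroup (helper58)

Let `Q` be a normal `p`-subgroup of the finite group `G` with `G = Q C_G(Q)`.

* `pRegular_mem_centralizer_of_sup`: every `p`-regular element centralizes `Q`.
* `exists_pRegular_lift`, `exists_pRegular_section`: `p`-regular elements of `G ⧸ Q` lift to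
  `p`-regular elements (any normal `p`-subgroup `Q`).
* `pRegular_lift_inj`: a `p`-regular element is determined by its image in `G ⧸ Q`.
* `sum_pRegular_quotient_of_sup`: sums over `p`-regular elements of `G` and `G ⧸ Q` agree.
* `blockRank_principal_quotient_of_sup`: the principal blocks of `G` and `G ⧸ Q` have the same
  `p`-regular rank.
-/

set_option autoImplicit false

namespace Cfsg.Agent.Lib.helper58

open Cfsg Cfsg.Agent.Lib.helper20 Cfsg.Agent.Lib.helper81 Cfsg.Agent.Lib.helper78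
open scoped ComplexConjugate ComplexOrder

universe u

section CentQuot

variable {G : Type u} [Group G]

/-- If `G = Q C_G(Q)` for a `p`-subgroup `Q`, every `p`-regular element centralizes `Q`. -/
theorem pRegular_mem_centralizer_of_sup {p : ℕ} [Fact p.Prime] (Q : Subgroup G) [Q.Normal]
    (hQ : IsPGroup p Q) (hsup : Q ⊔ Subgroup.centralizer (Q : Set G) = ⊤) {g : G}
    (hg : ¬ p ∣ orderOf g) : g ∈ Subgroup.centralizer (Q : Set G) := by
  have hmem : g ∈ (↑(Q ⊔ Subgroup.centralizer (Q : Set G)) : Set G) := by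
    rw [hsup]
    exact Set.mem_univ g
  rw [Subgroup.normal_mul] at hmem
  obtain ⟨q, hq, c, hc, rfl⟩ := Set.mem_mul.mp hmem
  have hqc : Commute q c := Subgroup.mem_centralizer_iff.mp hc q hq
  obtain ⟨b, hb⟩ := (IsPGroup.iff_orderOf.mp hQ) ⟨q, hq⟩
  rw [Subgroup.orderOf_mk] at hb
  have hpow : q ^ orderOf (q * c) = (c ^ orderOf (q * c))⁻¹ := by
    have h1 := pow_orderOf_eq_one (q * c)
    rw [hqc.mul_pow] at h1
    exact eq_inv_of_mul_eq_one_left h1
  have hqn : q ^ orderOf (q * c) ∈ Subgroup.centralizer (Q : Set G) := by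
    rw [hpow]
    exact Subgroup.inv_mem _ (Subgroup.pow_mem _ hc _)
  have hcop : (orderOf (q * c)).Coprime (orderOf q) := by
    rw [hb]
    exact Nat.Coprime.pow_right _ ((Nat.Prime.coprime_iff_not_dvd Fact.out).mpr hg).symm
  obtain ⟨m, hm⟩ := exists_pow_eq_self_of_coprime hcop
  have hqC : q ∈ Subgroup.centralizer (Q : Set G) := by
    rw [← hm]
    exact Subgroup.pow_mem _ hqn _
  exact Subgroup.mul_mem _ hqC hc

/-- A `p`-regular element of the quotient by a normal `p`-subgroup lifts to a `p`-regular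
element. -/
theorem exists_pRegular_lift {p : ℕ} [Fact p.Prime] (Q : Subgroup G) [Q.Normal]
    (hQ : IsPGroup p Q) (y : G ⧸ Q) (hy : ¬ p ∣ orderOf y) :
    ∃ g : G, (g : G ⧸ Q) = y ∧ ¬ p ∣ orderOf g := by
  obtain ⟨g₀, rfl⟩ := QuotientGroup.mk_surjective y
  have hm : g₀ ^ orderOf (g₀ : G ⧸ Q) ∈ Q := by
    rw [← QuotientGroup.eq_one_iff, QuotientGroup.mk_pow, pow_orderOf_eq_one]
  obtain ⟨b, hb⟩ := hQ ⟨_, hm⟩
  have hb' : (g₀ ^ orderOf (g₀ : G ⧸ Q)) ^ p ^ b = 1 := by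
    have h1 := congrArg Subtype.val hb
    simpa using h1
  have hcop : (p ^ b).Coprime (orderOf (g₀ : G ⧸ Q)) :=
    Nat.Coprime.pow_left _ ((Nat.Prime.coprime_iff_not_dvd Fact.out).mpr hy)
  obtain ⟨k, hk⟩ := exists_pow_eq_self_of_coprime hcop
  refine ⟨(g₀ ^ p ^ b) ^ k, ?_, ?_⟩
  · rw [QuotientGroup.mk_pow, QuotientGroup.mk_pow]
    exact hk
  · intro hdvd
    apply hy
    refine hdvd.trans (orderOf_dvd_of_pow_eq_one ?_)
    have h2 : ((g₀ ^ p ^ b) ^ k) ^ orderOf (g₀ : G ⧸ Q)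
        = ((g₀ ^ orderOf (g₀ : G ⧸ Q)) ^ p ^ b) ^ k := by
      rw [← pow_mul, ← pow_mul, ← pow_mul, ← pow_mul]
      congr 1
      ring
    rw [h2, hb', one_pow]

/-- A set-theoretic section of `G → G ⧸ Q` mapping `p`-regular elements to `p`-regular
elements. -/
theorem exists_pRegular_section {p : ℕ} [Fact p.Prime] (Q : Subgroup G) [Q.Normal]
    (hQ : IsPGroup p Q) :
    ∃ ℓ : G ⧸ Q → G, (∀ y, (ℓ y : G ⧸ Q) = y) ∧ ∀ y, ¬ p ∣ orderOf y → ¬ p ∣ orderOf (ℓ y) := by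
  classical
  have h : ∀ y : G ⧸ Q, ∃ g : G, (g : G ⧸ Q) = y ∧ (¬ p ∣ orderOf y → ¬ p ∣ orderOf g) := by
    intro y
    by_cases hy : p ∣ orderOf y
    · obtain ⟨g, hg⟩ := QuotientGroup.mk_surjective y
      exact ⟨g, hg, fun h => absurd hy h⟩
    · obtain ⟨g, hg, hg'⟩ := exists_pRegular_lift Q hQ y hy
      exact ⟨g, hg, fun _ => hg'⟩
  choose ℓ h1 h2 using h
  exact ⟨ℓ, h1, h2⟩

/-- If `G = Q C_G(Q)`, a `p`-regular element is determined by its image modulo `Q`. -/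
theorem pRegular_lift_inj {p : ℕ} [Fact p.Prime] (Q : Subgroup G) [Q.Normal]
    (hQ : IsPGroup p Q) (hsup : Q ⊔ Subgroup.centralizer (Q : Set G) = ⊤) {g₁ g₂ : G}
    (h₁ : ¬ p ∣ orderOf g₁) (h₂ : ¬ p ∣ orderOf g₂) (h : (g₁ : G ⧸ Q) = (g₂ : G ⧸ Q)) :
    g₁ = g₂ := by
  have hmem : g₁⁻¹ * g₂ ∈ Q := QuotientGroup.eq.mp h
  obtain ⟨q, hq⟩ : ∃ q : G, q = g₁⁻¹ * g₂ := ⟨_, rfl⟩
  rw [← hq] at hmem
  have hg2 : g₂ = g₁ * q := by rw [hq]; group
  have hc : Commute g₁ q :=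
    (Subgroup.mem_centralizer_iff.mp (pRegular_mem_centralizer_of_sup Q hQ hsup h₁) q hmem).symm
  have h3 : q ^ (orderOf g₁ * orderOf g₂) = 1 := by
    have h4 : g₂ ^ (orderOf g₁ * orderOf g₂) = q ^ (orderOf g₁ * orderOf g₂) := by
      nth_rewrite 1 [hg2]
      rw [hc.mul_pow, pow_mul, pow_orderOf_eq_one, one_pow, one_mul]
    rw [← h4, mul_comm, pow_mul, pow_orderOf_eq_one, one_pow]
  obtain ⟨b, hb⟩ := (IsPGroup.iff_orderOf.mp hQ) ⟨q, hmem⟩
  rw [Subgroup.orderOf_mk] at hb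
  have hdvd : orderOf q ∣ orderOf g₁ * orderOf g₂ := orderOf_dvd_of_pow_eq_one h3
  have hcop : (orderOf q).Coprime (orderOf g₁ * orderOf g₂) := by
    rw [hb]
    apply Nat.Coprime.pow_left
    rw [Nat.Prime.coprime_iff_not_dvd Fact.out, (Fact.out : p.Prime).dvd_mul, not_or]
    exact ⟨h₁, h₂⟩
  have h1 : orderOf q = 1 := Nat.Coprime.eq_one_of_dvd hcop hdvd
  rw [orderOf_eq_one_iff] at h1
  rw [hg2, h1, mul_one]

/-- If `G = Q C_G(Q)`, the sums over the `p`-regular elements of `G` and of `G ⧸ Q` agree. -/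
theorem sum_pRegular_quotient_of_sup [Fintype G] {p : ℕ} [Fact p.Prime] (Q : Subgroup G)
    [Q.Normal] (hQ : IsPGroup p Q) (hsup : Q ⊔ Subgroup.centralizer (Q : Set G) = ⊤)
    [Fintype (G ⧸ Q)] (f : G ⧸ Q → ℂ) :
    ∑ y : G, (if ¬ p ∣ orderOf y then f (y : G ⧸ Q) else 0)
      = ∑ q : G ⧸ Q, (if ¬ p ∣ orderOf q then f q else 0) := by
  classical
  rw [← Finset.sum_filter, ← Finset.sum_filter]
  refine Finset.sum_bij (fun y _ => (y : G ⧸ Q)) ?_ ?_ ?_ ?_
  · intro y hy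
    rw [Finset.mem_filter] at hy ⊢
    exact ⟨Finset.mem_univ _, fun h => hy.2 (h.trans (orderOf_map_dvd (QuotientGroup.mk' Q) y))⟩
  · intro y₁ h₁ y₂ h₂ heq
    rw [Finset.mem_filter] at h₁ h₂
    exact pRegular_lift_inj Q hQ hsup h₁.2 h₂.2 heq
  · intro q hq
    rw [Finset.mem_filter] at hq
    obtain ⟨g, hg, hg'⟩ := exists_pRegular_lift Q hQ q hq.2
    exact ⟨g, by rw [Finset.mem_filter]; exact ⟨Finset.mem_univ _, hg'⟩, hg⟩
  · intro y _
    rfl

end CentQuot

section Main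

variable {G : Type u} [Group G] [Finite G]

/-- **Principal blocks modulo a centralized normal `p`-subgroup**: if `Q` is a normal
`p`-subgroup of `G` with `G = Q C_G(Q)`, the principal `p`-blocks of `G` and `G ⧸ Q` have the
same `p`-regular rank. -/
theorem blockRank_principal_quotient_of_sup {p : ℕ} [Fact p.Prime] {M : Ideal AlgInt}
    (hM : IsPModular p M) (Q : Subgroup G) [Q.Normal] (hQ : IsPGroup p Q)
    (hsup : Q ⊔ Subgroup.centralizer (Q : Set G) = ⊤) :
    blockRank p (principalBlock M G) = blockRank p (principalBlock M (G ⧸ Q)) := by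
  classical
  let _ : Fintype G := Fintype.ofFinite G
  let _ : Fintype (G ⧸ Q) := Fintype.ofFinite (G ⧸ Q)
  have hMp : M.IsPrime := hM.2.1.isPrime
  have hcent : ∀ g : G, ¬ p ∣ orderOf g → ∀ q ∈ Q, Commute q g := fun g hg q hq =>
    Subgroup.mem_centralizer_iff.mp (pRegular_mem_centralizer_of_sup Q hQ hsup hg) q hq
  -- the spans
  obtain ⟨W, hW⟩ : ∃ W : Submodule ℂ (G → ℂ), W = Submodule.span ℂ
      ((fun χ : IrrCharacter G => pRegularPart p (χ : G → ℂ)) '' principalBlock M G) := ⟨_, rfl⟩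
  obtain ⟨W', hW'⟩ : ∃ W' : Submodule ℂ (G ⧸ Q → ℂ), W' = Submodule.span ℂ
      ((fun ψ : IrrCharacter (G ⧸ Q) => pRegularPart p (ψ : G ⧸ Q → ℂ)) ''
        principalBlock M (G ⧸ Q)) := ⟨_, rfl⟩
  show Module.finrank ℂ ↥(Submodule.span ℂ
      ((fun χ : IrrCharacter G => pRegularPart p (χ : G → ℂ)) '' principalBlock M G))
    = Module.finrank ℂ ↥(Submodule.span ℂ
      ((fun ψ : IrrCharacter (G ⧸ Q) => pRegularPart p (ψ : G ⧸ Q → ℂ)) ''
        principalBlock M (G ⧸ Q)))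
  rw [← hW, ← hW']
  -- inflation and deflation
  have hinfl : ∀ ψ : IrrCharacter (G ⧸ Q), ψ ∈ principalBlock M (G ⧸ Q) →
      ∃ χ : IrrCharacter G, χ ∈ principalBlock M G ∧
        ∀ g : G, (χ : G → ℂ) g = (ψ : G ⧸ Q → ℂ) (g : G ⧸ Q) := by
    intro ψ hψ
    refine ⟨⟨fun g => (ψ : G ⧸ Q → ℂ) (g : G ⧸ Q),
      Cfsg.Agent.Lib.helper82.isIrrCharacter_inflation Q ψ.2⟩, ?_, fun g => rfl⟩
    exact sameBlock_inflation hMp Q hψ
  have hdefl : ∀ χ : IrrCharacter G, χ ∈ principalBlock M G →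
      (∀ x ∈ Q, (χ : G → ℂ) x = (χ : G → ℂ) 1) →
      ∃ ψ : IrrCharacter (G ⧸ Q), ψ ∈ principalBlock M (G ⧸ Q) ∧
        ∀ g : G, (ψ : G ⧸ Q → ℂ) (g : G ⧸ Q) = (χ : G → ℂ) g := by
    intro χ hχ hker
    obtain ⟨ψ, hψ, hψχ⟩ := Cfsg.Agent.Lib.helper82.isIrrCharacter_deflation Q χ.2 hker
    refine ⟨⟨ψ, hψ⟩, ?_, hψχ⟩
    by_contra hnot
    have h0 := sum_pRegular_irr_eq_zero hM (⟨ψ, hψ⟩ : IrrCharacter (G ⧸ Q)) hnot
    rw [← sum_pRegular_quotient_of_sup Q hQ hsup] at h0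
    apply sum_pRegular_ne_zero hM χ hχ
    refine Eq.trans (Finset.sum_congr rfl (fun g _ => ?_)) h0
    show (if ¬ p ∣ orderOf g then (χ : G → ℂ) g else 0)
      = (if ¬ p ∣ orderOf g then ψ (g : G ⧸ Q) else 0)
    rw [hψχ]
  obtain ⟨ℓ, hℓ1, hℓ2⟩ := exists_pRegular_section Q hQ
  -- first inequality
  have hle1 : Module.finrank ℂ W' ≤ Module.finrank ℂ W := by
    have hsub : W' ≤ Submodule.map (LinearMap.funLeft ℂ ℂ ℓ) W := by
      rw [hW']
      apply Submodule.span_le.mpr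
      rintro _ ⟨ψ, hψ, rfl⟩
      obtain ⟨χ, hχ, hχψ⟩ := hinfl ψ hψ
      refine ⟨pRegularPart p (χ : G → ℂ), ?_, ?_⟩
      · rw [hW]
        exact Submodule.subset_span ⟨χ, hχ, rfl⟩
      · funext y
        show pRegularPart p (χ : G → ℂ) (ℓ y) = pRegularPart p (ψ : G ⧸ Q → ℂ) y
        by_cases hy : p ∣ orderOf y
        · have hy' : p ∣ orderOf (ℓ y) := by
            have h1 := orderOf_map_dvd (QuotientGroup.mk' Q) (ℓ y)
            have h2 : (QuotientGroup.mk' Q) (ℓ y) = y := hℓ1 y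
            rw [h2] at h1
            exact hy.trans h1
          rw [pRegularPart_apply_of_sing p _ hy, pRegularPart_apply_of_sing p _ hy']
        · rw [pRegularPart_apply_of_reg p _ hy, pRegularPart_apply_of_reg p _ (hℓ2 y hy), hχψ,
            hℓ1]
    exact (Submodule.finrank_mono hsub).trans (Submodule.finrank_map_le _ _)
  -- the finsets
  obtain ⟨F, hF⟩ : ∃ F : Finset (IrrCharacter G),
      F = Finset.univ.filter (fun χ => χ ∈ principalBlock M G) := ⟨_, rfl⟩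
  have hmemF : ∀ χ : IrrCharacter G, χ ∈ F ↔ χ ∈ principalBlock M G := by
    intro χ
    rw [hF]
    simp
  obtain ⟨Fp, hFp⟩ : ∃ Fp : Finset (IrrCharacter G), Fp = F.filter
      (fun χ : IrrCharacter G => ∀ x ∈ Q, (χ : G → ℂ) x = (χ : G → ℂ) 1) := ⟨_, rfl⟩
  have hmemFp : ∀ χ : IrrCharacter G, χ ∈ Fp ↔
      χ ∈ principalBlock M G ∧ ∀ x ∈ Q, (χ : G → ℂ) x = (χ : G → ℂ) 1 := by
    intro χ
    rw [hFp, Finset.mem_filter, hmemF]
  -- the matrices
  obtain ⟨A, hA⟩ : ∃ A : Matrix G F ℂ, A = Matrix.of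
      (fun (g : G) (i : F) => pRegularPart p ((i : IrrCharacter G) : G → ℂ) g) := ⟨_, rfl⟩
  obtain ⟨Ap, hAp⟩ : ∃ Ap : Matrix G Fp ℂ, Ap = Matrix.of
      (fun (g : G) (i : Fp) => pRegularPart p ((i : IrrCharacter G) : G → ℂ) g) := ⟨_, rfl⟩
  have hAreg : ∀ (g : G) (i : F), ¬ p ∣ orderOf g →
      A g i = ((i : IrrCharacter G) : G → ℂ) g := by
    intro g i hg
    rw [hA, Matrix.of_apply, pRegularPart_apply_of_reg p _ hg]
  have hAsing : ∀ (g : G) (i : F), p ∣ orderOf g → A g i = 0 := by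
    intro g i hg
    rw [hA, Matrix.of_apply, pRegularPart_apply_of_sing p _ hg]
  have hApreg : ∀ (g : G) (i : Fp), ¬ p ∣ orderOf g →
      Ap g i = ((i : IrrCharacter G) : G → ℂ) g := by
    intro g i hg
    rw [hAp, Matrix.of_apply, pRegularPart_apply_of_reg p _ hg]
  have hApsing : ∀ (g : G) (i : Fp), p ∣ orderOf g → Ap g i = 0 := by
    intro g i hg
    rw [hAp, Matrix.of_apply, pRegularPart_apply_of_sing p _ hg]
  have hWeq : W = LinearMap.range A.mulVecLin := by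
    rw [Matrix.range_mulVecLin, hW]
    congr 1
    ext f
    constructor
    · rintro ⟨χ, hχ, rfl⟩
      exact ⟨⟨χ, (hmemF χ).mpr hχ⟩, by rw [hA]; rfl⟩
    · rintro ⟨i, rfl⟩
      exact ⟨i.1, (hmemF _).mp i.2, by rw [hA]; rfl⟩
  -- the shift identity
  have hqcard : (Nat.card Q : ℂ) ≠ 0 := by
    have : 0 < Nat.card Q := Nat.card_pos
    exact_mod_cast this.ne'
  have hshift : ∀ (χ : IrrCharacter G) (g : G),
      ∑ x : G, (if x ∈ Q then (χ : G → ℂ) (x * g) else 0)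
        = (Nat.card Q : ℂ) * (omega (χ : G → ℂ) (normIdem Q) * (χ : G → ℂ) g) := by
    intro χ g
    have h := sum_coeff_mul_irr_shift χ (normIdem Q) (isCentralElt_normIdem Q) g
    rw [← h, Finset.mul_sum]
    refine Finset.sum_congr rfl (fun x _ => ?_)
    rw [coeff_normIdem]
    split_ifs
    · field_simp
    · simp
  have hom : ∀ χ : IrrCharacter G, omega (χ : G → ℂ) (normIdem Q)
      = if (∀ x ∈ Q, (χ : G → ℂ) x = (χ : G → ℂ) 1) then 1 else 0 := by
    intro χ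
    split_ifs with h
    · exact omega_normIdem_of_ker Q _ (irr_one_ne_zero χ) h
    · rcases omega_normIdem_eq_zero_or_one Q (χ : G → ℂ) χ.2 with h0 | h1
      · exact h0
      · exact absurd (eq_one_of_omega_normIdem Q χ h1) h
  have hBset : principalBlock M G = (F : Set (IrrCharacter G)) := by
    ext χ
    exact (hmemF χ).symm
  have horth : ∀ g h : G, ¬ p ∣ orderOf g → ¬ p ∣ orderOf h → ∀ q ∈ Q, q ≠ 1 →
      ∑ χ ∈ F, (χ : G → ℂ) (q * g) * (χ : G → ℂ) h⁻¹ = 0 := by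
    intro g h hg hh q hq hq1
    have hqo : ∃ k : ℕ, orderOf q = p ^ k := by
      obtain ⟨b, hb⟩ := (IsPGroup.iff_orderOf.mp hQ) ⟨q, hq⟩
      rw [Subgroup.orderOf_mk] at hb
      exact ⟨b, hb⟩
    have hx : IsPPart p (q * g) q := ⟨g, rfl, hcent g hg q hq, hqo, hg⟩
    have hy : IsPPart p h 1 := ⟨h, one_mul h, Commute.one_left h, ⟨0, by simp⟩, hh⟩
    have hne : ¬ IsConj q 1 := by
      rw [isConj_one_left]
      exact hq1
    have h1 := sum_block_mul_inv_eq_zero hM (q * g) h q 1 hx hy hne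
      (principalBlock M G) isPBlock_principalBlock
    rw [hBset, finsum_mem_coe_finset] at h1
    exact h1
  have hkey : ∀ g h : G, ¬ p ∣ orderOf g → ¬ p ∣ orderOf h →
      ∑ χ ∈ F, (χ : G → ℂ) g * conj ((χ : G → ℂ) h)
        = (Nat.card Q : ℂ) * ∑ χ ∈ Fp, (χ : G → ℂ) g * conj ((χ : G → ℂ) h) := by
    intro g h hg hh
    have e1 : ∑ x : G, (if x ∈ Q then ∑ χ ∈ F, (χ : G → ℂ) (x * g) * (χ : G → ℂ) h⁻¹ else 0)
        = ∑ χ ∈ F, (χ : G → ℂ) g * (χ : G → ℂ) h⁻¹ := by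
      rw [Finset.sum_eq_single (1 : G)]
      · rw [if_pos Q.one_mem]
        simp only [one_mul]
      · intro x _ hx1
        split_ifs with hxQ
        · exact horth g h hg hh x hxQ hx1
        · rfl
      · intro h'
        exact absurd (Finset.mem_univ _) h'
    have e2 : ∑ x : G, (if x ∈ Q then ∑ χ ∈ F, (χ : G → ℂ) (x * g) * (χ : G → ℂ) h⁻¹ else 0)
        = ∑ χ ∈ F, (Nat.card Q : ℂ) * (omega (χ : G → ℂ) (normIdem Q) * (χ : G → ℂ) g)
            * (χ : G → ℂ) h⁻¹ := by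
      have e0 : ∀ x : G,
          (if x ∈ Q then ∑ χ ∈ F, (χ : G → ℂ) (x * g) * (χ : G → ℂ) h⁻¹ else 0)
          = ∑ χ ∈ F, (if x ∈ Q then (χ : G → ℂ) (x * g) else 0) * (χ : G → ℂ) h⁻¹ := by
        intro x
        split_ifs
        · rfl
        · simp
      simp_rw [e0]
      rw [Finset.sum_comm]
      refine Finset.sum_congr rfl (fun χ _ => ?_)
      rw [← Finset.sum_mul, hshift]
    rw [e1] at e2
    have e3 : ∑ χ ∈ F, (Nat.card Q : ℂ) * (omega (χ : G → ℂ) (normIdem Q) * (χ : G → ℂ) g)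
          * (χ : G → ℂ) h⁻¹
        = (Nat.card Q : ℂ) * ∑ χ ∈ Fp, (χ : G → ℂ) g * (χ : G → ℂ) h⁻¹ := by
      rw [hFp, Finset.sum_filter, Finset.mul_sum]
      refine Finset.sum_congr rfl (fun χ _ => ?_)
      rw [hom]
      split_ifs <;> ring
    rw [e3] at e2
    have e4 : ∀ χ : IrrCharacter G, (χ : G → ℂ) g * (χ : G → ℂ) h⁻¹
        = (χ : G → ℂ) g * conj ((χ : G → ℂ) h) := fun χ => by rw [irr_inv]
    simp_rw [e4] at e2
    exact e2
  have hgram : A * A.conjTranspose = Ap * ((Nat.card Q : ℂ) • Ap.conjTranspose) := by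
    ext g g'
    rw [Matrix.mul_apply, Matrix.mul_apply]
    simp only [Matrix.conjTranspose_apply, Matrix.smul_apply, smul_eq_mul]
    by_cases hg : p ∣ orderOf g
    · rw [Finset.sum_eq_zero (fun i _ => by rw [hAsing g i hg, zero_mul]),
        Finset.sum_eq_zero (fun i _ => by rw [hApsing g i hg, zero_mul])]
    · by_cases hg' : p ∣ orderOf g'
      · rw [Finset.sum_eq_zero (fun i _ => by rw [hAsing g' i hg', star_zero, mul_zero]),
          Finset.sum_eq_zero (fun i _ => by rw [hApsing g' i hg', star_zero, mul_zero, mul_zero])]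
      · have h := hkey g g' hg hg'
        rw [← Finset.sum_coe_sort F, ← Finset.sum_coe_sort Fp] at h
        have e1 : ∑ i : F, A g i * star (A g' i)
            = ∑ i : F, ((i : IrrCharacter G) : G → ℂ) g
              * conj (((i : IrrCharacter G) : G → ℂ) g') :=
          Finset.sum_congr rfl (fun i _ => by rw [hAreg g i hg, hAreg g' i hg']; rfl)
        have e2 : ∑ i : Fp, Ap g i * ((Nat.card Q : ℂ) * star (Ap g' i))
            = (Nat.card Q : ℂ) * ∑ i : Fp, ((i : IrrCharacter G) : G → ℂ) g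
              * conj (((i : IrrCharacter G) : G → ℂ) g') := by
          rw [Finset.mul_sum]
          refine Finset.sum_congr rfl (fun i _ => ?_)
          rw [hApreg g i hg, hApreg g' i hg']
          show _ * (_ * conj _) = _
          ring
        rw [e1, e2]
        exact h
  have hrank : A.rank ≤ Ap.rank := by
    rw [← Matrix.rank_self_mul_conjTranspose A, hgram]
    exact Matrix.rank_mul_le_left _ _
  -- second inequality
  have hle3 : Ap.rank ≤ Module.finrank ℂ W' := by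
    obtain ⟨P, hP⟩ : ∃ P : (G ⧸ Q → ℂ) →ₗ[ℂ] (G → ℂ),
        ∀ f g, P f g = if ¬ p ∣ orderOf g then f (g : G ⧸ Q) else 0 := by
      refine ⟨{ toFun := fun f g => if ¬ p ∣ orderOf g then f (g : G ⧸ Q) else 0,
                map_add' := ?_, map_smul' := ?_ }, fun f g => rfl⟩
      · intro f f'
        funext g
        simp only [Pi.add_apply]
        split_ifs <;> simp
      · intro c f
        funext g
        simp only [Pi.smul_apply, RingHom.id_apply]
        split_ifs <;> simp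
    have hsub : LinearMap.range Ap.mulVecLin ≤ Submodule.map P W' := by
      rw [Matrix.range_mulVecLin]
      apply Submodule.span_le.mpr
      rintro _ ⟨i, rfl⟩
      obtain ⟨hi1, hi2⟩ := (hmemFp _).mp i.2
      obtain ⟨ψ, hψ, hψχ⟩ := hdefl (i : IrrCharacter G) hi1 hi2
      refine ⟨pRegularPart p (ψ : G ⧸ Q → ℂ), ?_, ?_⟩
      · rw [hW']
        exact Submodule.subset_span ⟨ψ, hψ, rfl⟩
      · funext g
        rw [hP]
        show _ = Ap g i
        by_cases hg : p ∣ orderOf g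
        · rw [if_neg (not_not.mpr hg), hApsing g i hg]
        · rw [if_pos hg, hApreg g i hg, pRegularPart_apply_of_reg p _
            (show ¬ p ∣ orderOf (g : G ⧸ Q) from
              fun h => hg (h.trans (orderOf_map_dvd (QuotientGroup.mk' Q) g))), hψχ]
    unfold Matrix.rank
    exact (Submodule.finrank_mono hsub).trans (Submodule.finrank_map_le _ _)
  refine le_antisymm ?_ hle1
  rw [hWeq]
  exact hrank.trans hle3

end Main

end Cfsg.Agent.Lib.helper58
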