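import Mathlib
import Cfsg.Prelude.Def_FusionSystem
import Cfsg.Prelude.Def_CaseTheorems
import Cfsg.Agent.Lib.helper58.SylowTools
import Cfsg.Agent.Lib.helper40.Cores

/-!
# The centre of the 2-fusion system of a finite group (helper58)

`fusion_center_eq`: given the "cyclic `Z*`-theorem" for `G` (hypothesis `hcyc`), the centre of
`F_S(G)` is `S ∩ Z*(G)`, where `Z*(G)` is the preimage of `Z(G / O(G))`.
-/

set_option autoImplicit false

namespace Cfsg.Agent.Lib.helper58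

open Cfsg

section

variable {G : Type*} [Group G]

/-- Membership in the preimage of the centre of `G / O`. -/
theorem mem_comap_center_iff (O : Subgroup G) [hO : O.Normal] (z : G) :
    z ∈ (Subgroup.center (G ⧸ O)).comap (QuotientGroup.mk' O) ↔
      ∀ g : G, z * g * z⁻¹ * g⁻¹ ∈ O := by
  rw [Subgroup.mem_comap, Subgroup.mem_center_iff]
  constructor
  · intro h g
    have h1 := h (QuotientGroup.mk' O g⁻¹)
    rw [← map_mul, ← map_mul] at h1
    have h2 : (g⁻¹ * z)⁻¹ * (z * g⁻¹) ∈ O := QuotientGroup.eq.mp h1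
    have h3 := hO.conj_mem _ h2 z
    have h4 := O.inv_mem h3
    have e : (z * ((g⁻¹ * z)⁻¹ * (z * g⁻¹)) * z⁻¹)⁻¹ = z * g * z⁻¹ * g⁻¹ := by group
    rw [e] at h4
    exact h4
  · intro h q
    induction q using QuotientGroup.induction_on with
    | H g =>
      show (QuotientGroup.mk' O g) * (QuotientGroup.mk' O z) = (QuotientGroup.mk' O z) * (QuotientGroup.mk' O g)
      rw [← map_mul, ← map_mul]
      apply QuotientGroup.eq.mpr
      have h1 := h g⁻¹
      have h3 := hO.conj_mem _ h1 z⁻¹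
      have h4 := O.inv_mem h3
      have e : (z⁻¹ * (z * g⁻¹ * z⁻¹ * g⁻¹⁻¹) * z⁻¹⁻¹)⁻¹ = (g * z)⁻¹ * (z * g) := by group
      rw [e] at h4
      exact h4

variable [Finite G]

/-- A Sylow 2-subgroup meets the odd core trivially. -/
theorem eq_one_of_mem_sylow_of_mem_oddCore (S : Sylow 2 G) {w : G} (hS : w ∈ (S : Subgroup G))
    (hO : w ∈ Cfsg.oddCore G) : w = 1 := by
  obtain ⟨k, hk⟩ := S.isPGroup' ⟨w, hS⟩
  have hk' : w ^ 2 ^ k = 1 := by
    have := congrArg Subtype.val hk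
    simpa using this
  exact Cfsg.Agent.Lib.helper40.eq_one_of_pow_eq_one_of_coprime hk'
    (Cfsg.Agent.Lib.helper40.orderOf_coprime_of_mem_pPrimeCore hO)

/-- Extension of a fusion map by the elements central modulo the odd core. -/
theorem exists_conj_centralizing (S : Sylow 2 G) (P : Subgroup G) (hP : P ≤ S) (g : G)
    (hg : ∀ x ∈ P, g * x * g⁻¹ ∈ (S : Subgroup G)) :
    ∃ g' : G, (∀ x ∈ P, g' * x * g'⁻¹ = g * x * g⁻¹) ∧
      ∀ z ∈ (S : Subgroup G), (∀ k : G, z * k * z⁻¹ * k⁻¹ ∈ Cfsg.oddCore G) →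
        g' * z * g'⁻¹ = z := by
  have : Fact (Nat.Prime 2) := ⟨Nat.prime_two⟩
  haveI hOn : (Cfsg.oddCore G).Normal := Cfsg.Agent.Lib.helper40.pPrimeCore_normal' 2 G
  -- the subgroup of `S` central modulo `O`
  let Z : Subgroup G := (S : Subgroup G) ⊓
    (Subgroup.center (G ⧸ Cfsg.oddCore G)).comap (QuotientGroup.mk' (Cfsg.oddCore G))
  have hZ : ∀ z : G, z ∈ Z ↔ z ∈ (S : Subgroup G) ∧ ∀ k : G, z * k * z⁻¹ * k⁻¹ ∈ Cfsg.oddCore G := by
    intro z
    rw [Subgroup.mem_inf, mem_comap_center_iff]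
  -- `R = g (P ⊔ Z) g⁻¹`
  let R : Subgroup G := (P ⊔ Z).map (MulAut.conj g).toMonoidHom
  have hPZ : P ⊔ Z ≤ (S : Subgroup G) := sup_le hP inf_le_left
  have hRp : IsPGroup 2 R := by
    have h1 : IsPGroup 2 (P ⊔ Z : Subgroup G) := S.isPGroup'.to_le hPZ
    exact h1.map _
  have hRle : R ≤ (S : Subgroup G) ⊔ Cfsg.oddCore G := by
    rw [Subgroup.map_le_iff_le_comap]
    apply sup_le
    · intro x hx
      rw [Subgroup.mem_comap]
      exact Subgroup.mem_sup_left (hg x hx)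
    · intro z hz
      rw [Subgroup.mem_comap]
      obtain ⟨hzS, hzc⟩ := (hZ z).mp hz
      show g * z * g⁻¹ ∈ _
      have h1 : g * z * g⁻¹ = z * (z⁻¹ * g * z⁻¹⁻¹ * g⁻¹) := by group
      rw [h1]
      refine Subgroup.mul_mem_sup hzS ?_
      have h2 := hzc g
      have h3 := hOn.conj_mem _ h2 z⁻¹
      have e : z⁻¹ * (z * g * z⁻¹ * g⁻¹) * z⁻¹⁻¹ = g * z⁻¹ * g⁻¹ * z := by group
      rw [e] at h3
      have h4 := (Cfsg.oddCore G).inv_mem h3
      have e2 : (g * z⁻¹ * g⁻¹ * z)⁻¹ = z⁻¹ * g * z⁻¹⁻¹ * g⁻¹ := by group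
      rw [e2] at h4
      exact h4
  obtain ⟨n, hn, hnR⟩ := exists_conj_mem_sylow_of_le S (le_sup_left : (S : Subgroup G) ≤ _) hRle hRp
  obtain ⟨s, hs, o, ho, rfl⟩ := Subgroup.mem_sup_of_normal_right.mp hn
  have hoR : ∀ r ∈ R, o * r * o⁻¹ ∈ (S : Subgroup G) := by
    intro r hr
    have h1 := hnR r hr
    have h2 : o * r * o⁻¹ = s⁻¹ * (s * o * r * (s * o)⁻¹) * s := by group
    rw [h2]
    exact (S : Subgroup G).mul_mem ((S : Subgroup G).mul_mem ((S : Subgroup G).inv_mem hs) h1) hs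
  -- conjugation by `o ∈ O` fixes elements `w ∈ S` with `o w o⁻¹ ∈ S`
  have hfix : ∀ w : G, w ∈ (S : Subgroup G) → o * w * o⁻¹ ∈ (S : Subgroup G) → o * w * o⁻¹ = w := by
    intro w hw how
    have h1 : o * w * o⁻¹ * w⁻¹ ∈ Cfsg.oddCore G := by
      have h2 := hOn.conj_mem _ ((Cfsg.oddCore G).inv_mem ho) w
      have e : o * w * o⁻¹ * w⁻¹ = o * (w * o⁻¹ * w⁻¹) := by group
      rw [e]
      exact (Cfsg.oddCore G).mul_mem ho h2
    have h3 : o * w * o⁻¹ * w⁻¹ ∈ (S : Subgroup G) :=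
      (S : Subgroup G).mul_mem how ((S : Subgroup G).inv_mem hw)
    have h4 := eq_one_of_mem_sylow_of_mem_oddCore S h3 h1
    exact mul_inv_eq_one.mp h4
  refine ⟨o * g, ?_, ?_⟩
  · intro x hx
    have hr : g * x * g⁻¹ ∈ R := ⟨x, Subgroup.mem_sup_left hx, rfl⟩
    have h1 := hfix _ (hg x hx) (hoR _ hr)
    rw [← h1]; group
  · intro z hzS hzc
    have hzZ : z ∈ Z := (hZ z).mpr ⟨hzS, hzc⟩
    have hr : g * z * g⁻¹ ∈ R := ⟨z, Subgroup.mem_sup_right hzZ, rfl⟩
    have h1 : o * g * z * (o * g)⁻¹ ∈ (S : Subgroup G) := by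
      have := hoR _ hr
      have e : o * g * z * (o * g)⁻¹ = o * (g * z * g⁻¹) * o⁻¹ := by group
      rw [e]; exact this
    have h2 : o * g * z * (o * g)⁻¹ * z⁻¹ ∈ Cfsg.oddCore G := by
      have h3 := (Cfsg.oddCore G).inv_mem (hzc (o * g))
      have e : (z * (o * g) * z⁻¹ * (o * g)⁻¹)⁻¹ = o * g * z * (o * g)⁻¹ * z⁻¹ := by group
      rw [e] at h3
      exact h3
    have h3 : o * g * z * (o * g)⁻¹ * z⁻¹ ∈ (S : Subgroup G) :=
      (S : Subgroup G).mul_mem h1 ((S : Subgroup G).inv_mem hzS)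
    exact mul_inv_eq_one.mp (eq_one_of_mem_sylow_of_mem_oddCore S h3 h2)

/-- **Glauberman's `Z*`-theorem in fusion language**, given the cyclic `Z*`-theorem for `G`. -/
theorem fusion_center_eq (S : Sylow 2 G)
    (hcyc : ∀ t : G, t ∈ S →
      (∀ (j : ℕ) (g : G), g * t ^ j * g⁻¹ ∈ S → g * t ^ j * g⁻¹ = t ^ j) →
      ∀ g : G, t * g * t⁻¹ * g⁻¹ ∈ Cfsg.oddCore G) :
    (Cfsg.groupFusionSystem (S : Subgroup G)).center = (S : Subgroup G) ⊓
      (Subgroup.center (G ⧸ Cfsg.oddCore G)).comap (QuotientGroup.mk' (Cfsg.oddCore G)) := by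
  haveI hOn : (Cfsg.oddCore G).Normal := Cfsg.Agent.Lib.helper40.pPrimeCore_normal' 2 G
  apply le_antisymm
  · apply sSup_le
    rintro Q ⟨hQS, hQ⟩ t ht
    rw [Subgroup.mem_inf, mem_comap_center_iff]
    refine ⟨hQS ht, hcyc t (hQS ht) ?_⟩
    intro j g hgS
    have hPS : Subgroup.zpowers (t ^ j) ≤ (S : Subgroup G) := by
      rw [Subgroup.zpowers_le]
      exact Subgroup.pow_mem _ (hQS ht) j
    have hφ : conjHom (Subgroup.zpowers (t ^ j)) g ∈
        (Cfsg.groupFusionSystem (S : Subgroup G)).Hom (Subgroup.zpowers (t ^ j)) := by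
      refine ⟨hPS, ?_, g, fun x => rfl⟩
      intro x
      obtain ⟨i, hi⟩ := Subgroup.mem_zpowers_iff.mp x.2
      show g * (x : G) * g⁻¹ ∈ (S : Subgroup G)
      rw [← hi]
      have e : g * (t ^ j) ^ i * g⁻¹ = (g * t ^ j * g⁻¹) ^ i := by
        rw [← MulAut.conj_apply, ← MulAut.conj_apply, map_zpow]
      rw [e]
      exact Subgroup.zpow_mem _ hgS i
    obtain ⟨ψ, -, hψ1, hψ2⟩ := hQ _ _ hφ
    have h1 := hψ1 ⟨t ^ j, Subgroup.mem_zpowers _⟩
    have h2 := hψ2 ⟨t ^ j, Subgroup.pow_mem _ ht j⟩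
    have e : (Subgroup.inclusion le_sup_left
        (⟨t ^ j, Subgroup.mem_zpowers _⟩ : Subgroup.zpowers (t ^ j)) :
          (Subgroup.zpowers (t ^ j) ⊔ Q : Subgroup G)) =
        Subgroup.inclusion le_sup_right (⟨t ^ j, Subgroup.pow_mem _ ht j⟩ : Q) :=
      Subtype.ext rfl
    rw [e, h2] at h1
    exact h1.symm
  · apply le_sSup
    refine ⟨inf_le_left, ?_⟩
    rintro P φ ⟨hP, hφS, g, hg⟩
    obtain ⟨g', hg'1, hg'2⟩ := exists_conj_centralizing S P hP g
      (fun x hx => by have := hφS ⟨x, hx⟩; rw [hg] at this; exact this)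
    have hle : P ⊔ ((S : Subgroup G) ⊓
        (Subgroup.center (G ⧸ Cfsg.oddCore G)).comap (QuotientGroup.mk' (Cfsg.oddCore G))) ≤
        (S : Subgroup G) := sup_le hP inf_le_left
    refine ⟨conjHom _ g', ⟨hle, ?_, g', fun x => rfl⟩, ?_, ?_⟩
    · have hT : P ⊔ ((S : Subgroup G) ⊓
          (Subgroup.center (G ⧸ Cfsg.oddCore G)).comap (QuotientGroup.mk' (Cfsg.oddCore G))) ≤
          (S : Subgroup G).comap (MulAut.conj g').toMonoidHom := by
        apply sup_le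
        · intro x hx
          rw [Subgroup.mem_comap]
          show g' * x * g'⁻¹ ∈ (S : Subgroup G)
          rw [hg'1 x hx]
          have := hφS ⟨x, hx⟩
          rw [hg] at this
          exact this
        · intro z hz
          rw [Subgroup.mem_inf, mem_comap_center_iff] at hz
          rw [Subgroup.mem_comap]
          show g' * z * g'⁻¹ ∈ (S : Subgroup G)
          rw [hg'2 z hz.1 hz.2]
          exact hz.1
      intro y
      exact hT y.2
    · intro x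
      show g' * (x : G) * g'⁻¹ = φ x
      rw [hg, hg'1 x x.2]
    · intro z
      have hz := z.2
      rw [Subgroup.mem_inf, mem_comap_center_iff] at hz
      show g' * (z : G) * g'⁻¹ = z
      exact hg'2 z hz.1 hz.2

end

end Cfsg.Agent.Lib.helper58
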