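import Mathlib

/-!
# The group `GL(5, 2)`

* `card_GL52`: `|GL(5,2)| = 9999360 = 2^10 * 3^2 * 5 * 7 * 31`;
* `nine_dvd_card_not_fixed`: if `σ ^ 9 = 1` then the number of points moved by `σ ^ 3` is
  divisible by 9;
* `orderOf_ne_nine`: `GL(5,2)` has no element of order 9;
* `orderOf_ne_nine_section`: neither does any section of `GL(5,2)`.
-/

set_option autoImplicit false

namespace Cfsg.Agent.Lib.helper58

open scoped Matrix

theorem card_GL52 : Nat.card (GL (Fin 5) (ZMod 2)) = 9999360 := by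
  rw [Matrix.card_GL_field]
  simp [Fin.prod_univ_five, ZMod.card]

/-- If `σ ^ 9 = 1` then the number of points not fixed by `σ ^ 3` is divisible by 9. -/
theorem nine_dvd_card_not_fixed {α : Type*} [Finite α] (σ : Equiv.Perm α) (h9 : σ ^ 9 = 1) :
    9 ∣ Nat.card {x : α // (σ ^ 3) x ≠ x} := by
  classical
  by_cases hne : Nonempty {x : α // (σ ^ 3) x ≠ x}
  swap
  · rw [not_nonempty_iff] at hne
    rw [Nat.card_of_isEmpty]; exact dvd_zero 9
  have hinv : ∀ x, (σ ^ 3) (σ x) ≠ σ x ↔ (σ ^ 3) x ≠ x := by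
    intro x
    have h1 : (σ ^ 3) (σ x) = σ ((σ ^ 3) x) := by
      rw [← Equiv.Perm.mul_apply, ← Equiv.Perm.mul_apply, ← pow_succ, ← pow_succ']
    rw [h1]
    exact not_congr σ.injective.eq_iff
  obtain ⟨τ, hτ⟩ : ∃ τ : Equiv.Perm {x : α // (σ ^ 3) x ≠ x}, τ = σ.subtypePerm hinv := ⟨_, rfl⟩
  have hτpow : ∀ (n : ℕ) (u : {x : α // (σ ^ 3) x ≠ x}), ((τ ^ n) u : α) = (σ ^ n) u := by
    intro n u
    rw [hτ, Equiv.Perm.subtypePerm_pow, Equiv.Perm.subtypePerm_apply]
  have hτ9 : τ ^ 9 = 1 := by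
    ext u
    rw [hτpow, h9]; rfl
  have hτ9' : τ ^ (9 : ℤ) = 1 := by exact_mod_cast hτ9
  have hτ3 : ∀ u, (τ ^ 3) u ≠ u := by
    intro u h
    apply u.2
    have h1 := congrArg Subtype.val h
    rwa [hτpow] at h1
  have hfree : ∀ u : {x : α // (σ ^ 3) x ≠ x},
      MulAction.stabilizer (Subgroup.zpowers τ) u = ⊥ := by
    intro u
    rw [eq_bot_iff]
    rintro ⟨x, hx⟩ hxu
    obtain ⟨k, rfl⟩ := Subgroup.mem_zpowers_iff.mp hx
    have hfix : (τ ^ k) u = u := hxu
    rw [Subgroup.mem_bot]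
    apply Subtype.ext
    show τ ^ k = 1
    have hb := Int.gcd_eq_gcd_ab k 9
    have hd : (Int.gcd k 9 : ℤ) ∣ 9 := Int.gcd_dvd_right k 9
    have hdn : Int.gcd k 9 ∣ 9 := by exact_mod_cast hd
    have hle : Int.gcd k 9 ≤ 9 := Nat.le_of_dvd (by norm_num) hdn
    have hfixd : (τ ^ (Int.gcd k 9)) u = u := by
      have e1 : τ ^ ((Int.gcd k 9 : ℕ) : ℤ) =
          (τ ^ k) ^ (Int.gcdA k 9) * (τ ^ (9 : ℤ)) ^ (Int.gcdB k 9) := by
        rw [hb, zpow_add, zpow_mul, zpow_mul]
      rw [hτ9', one_zpow, mul_one] at e1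
      have h1 := Equiv.Perm.zpow_apply_eq_self_of_apply_eq_self hfix (Int.gcdA k 9)
      rw [← e1] at h1
      rwa [zpow_natCast] at h1
    have hcases : Int.gcd k 9 = 1 ∨ Int.gcd k 9 = 3 ∨ Int.gcd k 9 = 9 := by
      generalize Int.gcd k 9 = d at hdn hle
      interval_cases d <;> omega
    rcases hcases with h1 | h3 | h9'
    · exfalso
      rw [h1, pow_one] at hfixd
      exact hτ3 u (Equiv.Perm.pow_apply_eq_self_of_apply_eq_self hfixd 3)
    · exfalso
      rw [h3] at hfixd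
      exact hτ3 u hfixd
    · have h9k : (9 : ℤ) ∣ k := by
        have h0 := Int.gcd_dvd_left k 9
        rwa [h9'] at h0
      obtain ⟨j, rfl⟩ := h9k
      rw [zpow_mul, hτ9', one_zpow]
  have hcard : Nat.card {x : α // (σ ^ 3) x ≠ x} =
      Nat.card (Quotient (MulAction.orbitRel (Subgroup.zpowers τ) {x : α // (σ ^ 3) x ≠ x})) *
        Nat.card (Subgroup.zpowers τ) := by
    rw [Nat.card_congr (MulAction.selfEquivOrbitsQuotientProd hfree), Nat.card_prod]
  rw [hcard, Nat.card_zpowers]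
  have hord : orderOf τ ∣ 9 := orderOf_dvd_of_pow_eq_one hτ9
  obtain ⟨u⟩ := hne
  have h3 : ¬ orderOf τ ∣ 3 := by
    intro h
    exact hτ3 u (by rw [orderOf_dvd_iff_pow_eq_one.mp h]; rfl)
  have hle : orderOf τ ≤ 9 := Nat.le_of_dvd (by norm_num) hord
  have h9o : orderOf τ = 9 := by
    generalize orderOf τ = d at hord h3 hle
    interval_cases d <;> omega
  rw [h9o]; exact dvd_mul_left 9 _

/-- The permutation of column vectors induced by an invertible matrix. -/
def glPerm {n : Type*} [Fintype n] [DecidableEq n] {R : Type*} [CommRing R] :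
    GL n R →* Equiv.Perm (n → R) where
  toFun g :=
    { toFun := fun v => (g : Matrix n n R) *ᵥ v
      invFun := fun v => ((g⁻¹ : GL n R) : Matrix n n R) *ᵥ v
      left_inv := fun v => by
        show ((g⁻¹ : GL n R) : Matrix n n R) *ᵥ ((g : Matrix n n R) *ᵥ v) = v
        rw [Matrix.mulVec_mulVec, ← Units.val_mul, inv_mul_cancel, Units.val_one,
          Matrix.one_mulVec]
      right_inv := fun v => by
        show (g : Matrix n n R) *ᵥ (((g⁻¹ : GL n R) : Matrix n n R) *ᵥ v) = v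
        rw [Matrix.mulVec_mulVec, ← Units.val_mul, mul_inv_cancel, Units.val_one,
          Matrix.one_mulVec] }
  map_one' := by
    ext v
    simp
  map_mul' g h := by
    ext v
    simp [Matrix.mulVec_mulVec]

theorem glPerm_apply {n : Type*} [Fintype n] [DecidableEq n] {R : Type*} [CommRing R]
    (g : GL n R) (v : n → R) : glPerm g v = (g : Matrix n n R) *ᵥ v := rfl

theorem glPerm_injective {n : Type*} [Fintype n] [DecidableEq n] {R : Type*} [CommRing R] :
    Function.Injective (glPerm : GL n R →* Equiv.Perm (n → R)) := by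
  rw [injective_iff_map_eq_one]
  intro g hg
  apply Units.ext
  apply Matrix.mulVec_injective
  funext v
  have h1 := congrArg (fun s : Equiv.Perm (n → R) => s v) hg
  simpa [glPerm_apply] using h1

/-- `GL(5, 2)` has no element of order 9. -/
theorem orderOf_ne_nine (g : GL (Fin 5) (ZMod 2)) : orderOf g ≠ 9 := by
  classical
  intro h9
  have hσ9 : (glPerm g) ^ 9 = 1 := by
    rw [← map_pow, ← h9, pow_orderOf_eq_one, map_one]
  have hdvd := nine_dvd_card_not_fixed (glPerm g) hσ9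
  have hpow : ∀ v, ((glPerm g) ^ 3) v = ((g ^ 3 : GL (Fin 5) (ZMod 2)) : Matrix _ _ _) *ᵥ v := by
    intro v
    rw [← map_pow, glPerm_apply]
  let W : AddSubgroup (Fin 5 → ZMod 2) :=
    { carrier := {v | ((glPerm g) ^ 3) v = v}
      add_mem' := by
        intro a b ha hb
        have ha' : ((glPerm g) ^ 3) a = a := ha
        have hb' : ((glPerm g) ^ 3) b = b := hb
        show ((glPerm g) ^ 3) (a + b) = a + b
        rw [hpow] at ha' hb' ⊢
        rw [Matrix.mulVec_add, ha', hb']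
      zero_mem' := by
        show ((glPerm g) ^ 3) 0 = 0
        rw [hpow, Matrix.mulVec_zero]
      neg_mem' := by
        intro a ha
        have ha' : ((glPerm g) ^ 3) a = a := ha
        show ((glPerm g) ^ 3) (-a) = -a
        rw [hpow] at ha' ⊢
        rw [Matrix.mulVec_neg, ha'] }
  have hWdvd : Nat.card W ∣ Nat.card (Fin 5 → ZMod 2) := AddSubgroup.card_addSubgroup_dvd_card W
  have hV : Nat.card (Fin 5 → ZMod 2) = 32 := by
    rw [Nat.card_eq_fintype_card]
    simp [ZMod.card]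
  have hWne : Nat.card W ≠ 32 := by
    intro h
    have htop : W = ⊤ := by
      rw [← AddSubgroup.card_eq_iff_eq_top, h, hV]
    have h1 : glPerm (g ^ 3) = 1 := by
      ext v
      have hv : v ∈ W := by rw [htop]; exact AddSubgroup.mem_top v
      have hv' : ((glPerm g) ^ 3) v = v := hv
      rw [map_pow]
      rw [hv']; rfl
    have h2 : g ^ 3 = 1 := glPerm_injective (h1.trans (map_one _).symm)
    have h3 : orderOf g ∣ 3 := orderOf_dvd_of_pow_eq_one h2
    rw [h9] at h3
    omega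
  have hsum : Nat.card W + Nat.card {x : Fin 5 → ZMod 2 // ((glPerm g) ^ 3) x ≠ x} = 32 := by
    rw [← hV, ← Nat.card_sum]
    exact Nat.card_congr (Equiv.sumCompl (fun x : Fin 5 → ZMod 2 => ((glPerm g) ^ 3) x = x))
  rw [hV] at hWdvd
  have hle : Nat.card W ≤ 32 := Nat.le_of_dvd (by norm_num) hWdvd
  generalize Nat.card W = w at hWdvd hWne hsum hle
  generalize Nat.card {x : Fin 5 → ZMod 2 // ((glPerm g) ^ 3) x ≠ x} = c at hdvd hsum
  interval_cases w <;> omega

/-- No section of `GL(5, 2)` has an element of order 9. -/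
theorem orderOf_ne_nine_section {H : Subgroup (GL (Fin 5) (ZMod 2))} {K : Subgroup ↥H} [K.Normal]
    (x : ↥H ⧸ K) : orderOf x ≠ 9 := by
  intro h9
  obtain ⟨y, rfl⟩ := QuotientGroup.mk_surjective x
  have h1 : orderOf (y : ↥H ⧸ K) ∣ orderOf y := by
    apply orderOf_dvd_of_pow_eq_one
    rw [← QuotientGroup.mk_pow, pow_orderOf_eq_one]; rfl
  rw [h9] at h1
  obtain ⟨j, hj⟩ := h1
  have hpos : 0 < orderOf y := orderOf_pos y
  have hj0 : j ≠ 0 := by
    rintro rfl
    omega
  have h2 : orderOf (y ^ j) = 9 := by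
    rw [orderOf_pow_of_dvd hj0 (Dvd.intro_left 9 hj.symm), hj]
    exact Nat.mul_div_cancel _ (Nat.pos_of_ne_zero hj0)
  have h3 : orderOf ((y ^ j : ↥H) : GL (Fin 5) (ZMod 2)) = 9 := by
    rw [Subgroup.orderOf_coe]; exact h2
  exact orderOf_ne_nine _ h3

end Cfsg.Agent.Lib.helper58
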