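import Mathlib
import Cfsg.Agent.Lib.helper89.GfHDefs

/-!
S4395 piece EXB, sub-split leaf XB5 (`exb_card`): the order of the Heisenberg-type group `H89G D`.
-/

set_option autoImplicit false

namespace Cfsg.Agent.Lib.helper3.Gf

universe u

theorem exb_card {L : Type u} [CommRing L] [Finite L] {n : ℕ} [NeZero n] (D : H89Data L n)
    (htr : ∀ w : L, D.σ w = w → ∃ z : L, z + D.σ z = w) :
    Finite (H89G D) ∧ Nat.card (H89G D) = Nat.card L * Nat.card {z : L // z + D.σ z = 0} * n := by
  have hex : ∀ x : L, ∃ z : L, z + D.σ z = x * D.σ x := fun x =>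
    htr (x * D.σ x) (by rw [map_mul, D.σ_invol, mul_comm])
  choose z₀ hz₀ using hex
  let φ : H89G D ≃ L × {z : L // z + D.σ z = 0} × ZMod n :=
    { toFun := fun a => (a.x, ⟨a.z - z₀ a.x, by
        have h1 := a.hz
        have h2 := hz₀ a.x
        rw [map_sub]
        linear_combination h1 - h2⟩, a.k)
      invFun := fun t => ⟨t.1, t.2.1.1 + z₀ t.1, t.2.2, by
        have h1 := t.2.1.2
        have h2 := hz₀ t.1
        rw [map_add]
        linear_combination h1 + h2⟩
      left_inv := by
        intro a
        ext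
        · rfl
        · simp
        · rfl
      right_inv := by
        rintro ⟨x, ⟨w, hw⟩, k⟩
        simp }
  have hfin : Finite (H89G D) := Finite.of_equiv _ φ.symm
  refine ⟨hfin, ?_⟩
  rw [Nat.card_congr φ, Nat.card_prod, Nat.card_prod, Nat.card_zmod, mul_assoc]

end Cfsg.Agent.Lib.helper3.Gf
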