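import Mathlib
import Cfsg.Agent.Lib.helper89.GfHDefs

/-!
S4395 piece EXB, sub-split leaf XF1 (`exb_field`): a field with `p ^ a` elements,
`a = orderOf (p : ZMod q)`, and an element of order `q` which generates it (every additive subgroup
stable under multiplication by it is trivial or everything).
-/

set_option autoImplicit false

namespace Cfsg.Agent.Lib.helper3.Gf

universe u

/-- In a field with `p ^ orderOf (p : ZMod q)` elements, an additive subgroup stable under
multiplication by an element of order `q` is `⊥` or `⊤`. -/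
theorem helper58_irr_of_order (p q : ℕ) [Fact p.Prime] [Fact q.Prime] {L : Type*} [Field L]
    [Finite L] [CharP L p] (hcard : Nat.card L = p ^ orderOf (p : ZMod q)) (lam : L)
    (hlam : orderOf lam = q) (X : AddSubgroup L) (hX : ∀ x ∈ X, lam * x ∈ X) :
    X = ⊥ ∨ X = ⊤ := by
  classical
  have hp : p.Prime := Fact.out
  have hq : q.Prime := Fact.out
  by_cases hbot : X = ⊥
  · exact Or.inl hbot
  right
  let S : Subfield L :=
    { carrier := {c | ∀ x ∈ X, c * x ∈ X}
      mul_mem' := by
        intro c d hc hd x hx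
        rw [mul_assoc]
        exact hc _ (hd x hx)
      one_mem' := by
        intro x hx
        rw [one_mul]
        exact hx
      add_mem' := by
        intro c d hc hd x hx
        rw [add_mul]
        exact X.add_mem (hc x hx) (hd x hx)
      zero_mem' := by
        intro x _
        rw [zero_mul]
        exact X.zero_mem
      neg_mem' := by
        intro c hc x hx
        rw [neg_mul]
        exact X.neg_mem (hc x hx)
      inv_mem' := by
        intro c hc x hx
        by_cases hc0 : c = 0
        · rw [hc0, inv_zero, zero_mul]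
          exact X.zero_mem
        · let f : ↥X → ↥X := fun t => ⟨c * t.1, hc t.1 t.2⟩
          have hinj : Function.Injective f := by
            intro s t hst
            have h1 : c * s.1 = c * t.1 := congrArg Subtype.val hst
            exact Subtype.ext (mul_left_cancel₀ hc0 h1)
          have hsurj : Function.Surjective f := Finite.surjective_of_injective hinj
          obtain ⟨t, ht⟩ := hsurj ⟨x, hx⟩
          have h2 : c * t.1 = x := congrArg Subtype.val ht
          have h3 : c⁻¹ * x = t.1 := by
            rw [← h2, ← mul_assoc, inv_mul_cancel₀ hc0, one_mul]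
          rw [h3]
          exact t.2 }
  have hlamS : lam ∈ S := hX
  have hlam0 : lam ≠ 0 := by
    intro h0
    rw [h0] at hlam
    have h1 : orderOf (0 : L) = 0 := by
      rw [orderOf_eq_zero_iff]
      intro hfin
      obtain ⟨n, hn, hn1⟩ := isOfFinOrder_iff_pow_eq_one.1 hfin
      rw [zero_pow hn.ne'] at hn1
      exact zero_ne_one hn1
    rw [h1] at hlam
    exact hq.ne_zero hlam.symm
  haveI : Fintype ↥S := Fintype.ofFinite _
  haveI : CharP ↥S p := RingHom.charP S.subtype (fun a b hab => Subtype.ext hab) p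
  obtain ⟨n, -, hn⟩ := FiniteField.card ↥S p
  have h1 : (⟨lam, hlamS⟩ : ↥S) ^ (Fintype.card ↥S - 1) = 1 :=
    FiniteField.pow_card_sub_one_eq_one _ (fun h0 => hlam0 (congrArg Subtype.val h0))
  have h2 : lam ^ (p ^ (n : ℕ) - 1) = 1 := by
    have := congrArg Subtype.val h1
    rw [hn] at this
    simpa using this
  have h3 : q ∣ p ^ (n : ℕ) - 1 := by
    rw [← hlam]
    exact orderOf_dvd_of_pow_eq_one h2
  have h4 : (p : ZMod q) ^ (n : ℕ) = 1 := by
    have h5 : ((p ^ (n : ℕ) - 1 : ℕ) : ZMod q) = 0 := (ZMod.natCast_eq_zero_iff _ _).2 h3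
    rw [Nat.cast_sub (Nat.one_le_pow _ _ hp.pos), Nat.cast_pow, Nat.cast_one, sub_eq_zero] at h5
    exact h5
  have h6 : orderOf (p : ZMod q) ≤ (n : ℕ) :=
    Nat.le_of_dvd n.pos (orderOf_dvd_of_pow_eq_one h4)
  have h7 : Nat.card L ≤ Nat.card ↥S := by
    rw [hcard, Nat.card_eq_fintype_card, hn]
    exact Nat.pow_le_pow_right hp.pos h6
  have hbij : Function.Bijective (Subtype.val : ↥S → L) :=
    Function.Injective.bijective_of_nat_card_le Subtype.val_injective h7
  have hall : ∀ w : L, w ∈ S := by
    intro w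
    obtain ⟨s, hs⟩ := hbij.2 w
    rw [← hs]
    exact s.2
  obtain ⟨⟨x, hxX⟩, hx0⟩ := (AddSubgroup.ne_bot_iff_exists_ne_zero).1 hbot
  have hx0' : x ≠ 0 := fun h0 => hx0 (Subtype.ext h0)
  rw [eq_top_iff]
  intro w _
  have h8 : w * x⁻¹ * x ∈ X := hall (w * x⁻¹) x hxX
  rw [mul_assoc, inv_mul_cancel₀ hx0', mul_one] at h8
  exact h8

theorem exb_field (p q : ℕ) [Fact p.Prime] [Fact q.Prime] (hpq : p ≠ q) :
    ∃ (L : Type u) (_ : Field L) (_ : Finite L) (_ : CharP L p) (lam : L),
      Nat.card L = p ^ orderOf (p : ZMod q) ∧ lam ^ q = 1 ∧ lam ≠ 1 ∧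
      (∀ X : AddSubgroup L, (∀ x ∈ X, lam * x ∈ X) → X = ⊥ ∨ X = ⊤) := by
  have hp : p.Prime := Fact.out
  have hq : q.Prime := Fact.out
  have hpq0 : (p : ZMod q) ≠ 0 := by
    intro h0
    rw [ZMod.natCast_eq_zero_iff] at h0
    exact hpq ((Nat.prime_dvd_prime_iff_eq hq hp).1 h0).symm
  have ha : 0 < orderOf (p : ZMod q) := by
    rw [orderOf_pos_iff, isOfFinOrder_iff_pow_eq_one]
    exact ⟨q - 1, Nat.sub_pos_of_lt hq.one_lt, ZMod.pow_card_sub_one_eq_one hpq0⟩
  set a := orderOf (p : ZMod q) with hadef
  haveI : CharP (ULift.{u} (GaloisField p a)) p :=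
    charP_of_injective_ringHom
      (f := ((ULift.ringEquiv (R := GaloisField p a)).symm : GaloisField p a →+* ULift.{u} (GaloisField p a)))
      (ULift.ringEquiv (R := GaloisField p a)).symm.injective p
  have hcard : Nat.card (ULift.{u} (GaloisField p a)) = p ^ a := by
    rw [Nat.card_ulift, GaloisField.card p a ha.ne']
  have hdvd : q ∣ Nat.card (ULift.{u} (GaloisField p a))ˣ := by
    rw [Nat.card_units, hcard]
    have h1 : ((p ^ a - 1 : ℕ) : ZMod q) = 0 := by
      rw [Nat.cast_sub (Nat.one_le_pow _ _ hp.pos), Nat.cast_pow, Nat.cast_one, hadef,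
        pow_orderOf_eq_one, sub_self]
    exact (ZMod.natCast_eq_zero_iff _ _).1 h1
  obtain ⟨lamU, hlamU⟩ := exists_prime_orderOf_dvd_card' q hdvd
  have hord : orderOf (lamU : ULift.{u} (GaloisField p a)) = q := by
    rw [orderOf_units, hlamU]
  refine ⟨ULift.{u} (GaloisField p a), inferInstance, inferInstance, inferInstance,
    (lamU : ULift.{u} (GaloisField p a)), hcard, ?_, ?_, ?_⟩
  · rw [← hord, pow_orderOf_eq_one]
  · intro h1
    rw [h1, orderOf_one] at hord
    exact hq.one_lt.ne hord
  · intro X hX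
    exact helper58_irr_of_order p q hcard _ hord X hX

end Cfsg.Agent.Lib.helper3.Gf
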