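import Mathlib
import Cfsg.Prelude.Def_Classical
import Cfsg.Prelude.Def_GeometricClasses
import Cfsg.Agent.Lib.helper24.SfoDefs

/-!
S5977 / S5978 split, leaf HCI, sub-split piece EMBED (`hci_embed`): `T ↦ Ψ T Ψ⁻¹` embeds the isometry
group of `QE` into the isometries of `Q` normalizing `φ E`.
-/

set_option autoImplicit false

namespace Cfsg.Agent.Lib.helper99.HCI

open Matrix Cfsg.Geo Cfsg.Agent.Lib.helper24

/-- Transport of a matrix over `E` along the `F`-linear equivalence `Ψ`. -/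
noncomputable def helper58_theta {F : Type*} [Field F] {ι : Type} [Fintype ι] [DecidableEq ι]
    {E : Type*} [Field E] [Algebra F E] {d : ℕ} (Ψ : (Fin d → E) ≃ₗ[F] (ι → F)) :
    Matrix (Fin d) (Fin d) E →* Matrix ι ι F where
  toFun T := LinearMap.toMatrix' ((Ψ : (Fin d → E) →ₗ[F] (ι → F)) ∘ₗ
    ((Matrix.mulVecLin T).restrictScalars F) ∘ₗ (Ψ.symm : (ι → F) →ₗ[F] (Fin d → E)))
  map_one' := by
    have h : (Ψ : (Fin d → E) →ₗ[F] (ι → F)) ∘ₗ
        ((Matrix.mulVecLin (1 : Matrix (Fin d) (Fin d) E)).restrictScalars F) ∘ₗ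
        (Ψ.symm : (ι → F) →ₗ[F] (Fin d → E)) = LinearMap.id := by
      apply LinearMap.ext
      intro v
      simp
    rw [h, LinearMap.toMatrix'_id]
  map_mul' S T := by
    rw [← LinearMap.toMatrix'_comp]
    congr 1
    apply LinearMap.ext
    intro v
    simp [Matrix.mulVecLin_mul]

theorem helper58_theta_mulVec {F : Type*} [Field F] {ι : Type} [Fintype ι] [DecidableEq ι]
    {E : Type*} [Field E] [Algebra F E] {d : ℕ} (Ψ : (Fin d → E) ≃ₗ[F] (ι → F))
    (T : Matrix (Fin d) (Fin d) E) (v : ι → F) :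
    helper58_theta Ψ T *ᵥ v = Ψ (T *ᵥ Ψ.symm v) := by
  change LinearMap.toMatrix' ((Ψ : (Fin d → E) →ₗ[F] (ι → F)) ∘ₗ
    ((Matrix.mulVecLin T).restrictScalars F) ∘ₗ (Ψ.symm : (ι → F) →ₗ[F] (Fin d → E))) *ᵥ v = _
  rw [LinearMap.toMatrix'_mulVec]
  rfl

theorem hci_embed {F : Type*} [Field F] [Finite F] {ι : Type} [Fintype ι] [DecidableEq ι]
    {E : Type*} [Field E] [Finite E] [Algebra F E] (φ : E →ₐ[F] Matrix ι ι F) (Q : (ι → F) → F)
    (lam : E → F) (d : ℕ) (QE : (Fin d → E) → E)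
    (Ψ : (Fin d → E) ≃ₗ[F] (ι → F)) (hΨ : ∀ (a : E) (w : Fin d → E), Ψ (a • w) = φ a *ᵥ Ψ w)
    (hQ : ∀ w, Q (Ψ w) = lam (QE w)) :
    Nat.card (sfoIsom QE) ∣
      Nat.card ↥(Cfsg.isometryGroup F Q ⊓ Cfsg.Geo.subalgebraNormalizer φ.range) := by
  -- `θ T` commutes with `φ a`
  have hsymm : ∀ (a : E) (v : ι → F), Ψ.symm (φ a *ᵥ v) = a • Ψ.symm v := by
    intro a v
    rw [LinearEquiv.symm_apply_eq, hΨ, LinearEquiv.apply_symm_apply]
  have hcomm : ∀ (T : Matrix (Fin d) (Fin d) E) (a : E),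
      helper58_theta Ψ T * φ a = φ a * helper58_theta Ψ T := by
    intro T a
    apply Matrix.toLin'.injective
    apply LinearMap.ext
    intro v
    rw [Matrix.toLin'_apply, Matrix.toLin'_apply, ← Matrix.mulVec_mulVec, ← Matrix.mulVec_mulVec,
      helper58_theta_mulVec, helper58_theta_mulVec, hsymm, Matrix.mulVec_smul, hΨ]
  have hmem : ∀ g : ↥(sfoIsom QE), Units.map (helper58_theta Ψ) (g : GL (Fin d) E) ∈
      Cfsg.isometryGroup F Q ⊓ Cfsg.Geo.subalgebraNormalizer φ.range := by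
    intro g
    have hg : ∀ v, QE (((g : GL (Fin d) E) : Matrix (Fin d) (Fin d) E) *ᵥ v) = QE v := g.2
    set G : GL ι F := Units.map (helper58_theta Ψ) (g : GL (Fin d) E) with hG
    have hGv : (G : Matrix ι ι F) = helper58_theta Ψ ((g : GL (Fin d) E) : Matrix (Fin d) (Fin d) E) :=
      rfl
    refine Subgroup.mem_inf.2 ⟨?_, ?_⟩
    · intro u _
      change Q ((G : Matrix ι ι F) *ᵥ u) = Q u
      rw [hGv, helper58_theta_mulVec, hQ, hg, ← hQ, LinearEquiv.apply_symm_apply]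
    · intro k
      have h1 : (G : Matrix ι ι F) * ((G⁻¹ : GL ι F) : Matrix ι ι F) = 1 := Units.mul_inv G
      have h2 : ((G⁻¹ : GL ι F) : Matrix ι ι F) * (G : Matrix ι ι F) = 1 := Units.inv_mul G
      constructor
      · intro hk
        obtain ⟨a, rfl⟩ := (AlgHom.mem_range φ).1 hk
        rw [hGv, hcomm, ← hGv, mul_assoc, h1, mul_one]
        exact (AlgHom.mem_range φ).2 ⟨a, rfl⟩
      · intro hk
        obtain ⟨b, hb⟩ := (AlgHom.mem_range φ).1 hk
        have h3 : k = φ b := by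
          calc k = ((G⁻¹ : GL ι F) : Matrix ι ι F) *
                ((G : Matrix ι ι F) * k * ((G⁻¹ : GL ι F) : Matrix ι ι F)) * (G : Matrix ι ι F) := by
                rw [mul_assoc, mul_assoc, h2, mul_one, ← mul_assoc, h2, one_mul]
            _ = ((G⁻¹ : GL ι F) : Matrix ι ι F) * φ b * (G : Matrix ι ι F) := by rw [← hb]
            _ = φ b := by rw [mul_assoc, hGv, ← hcomm, ← hGv, ← mul_assoc, h2, one_mul]
        rw [h3]
        exact (AlgHom.mem_range φ).2 ⟨b, rfl⟩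
  let Θ : ↥(sfoIsom QE) →* ↥(Cfsg.isometryGroup F Q ⊓ Cfsg.Geo.subalgebraNormalizer φ.range) :=
    ((Units.map (helper58_theta Ψ)).comp (sfoIsom QE).subtype).codRestrict _ hmem
  have hinj : Function.Injective Θ := by
    intro x y hxy
    have h1 : Units.map (helper58_theta Ψ) (x : GL (Fin d) E) =
        Units.map (helper58_theta Ψ) (y : GL (Fin d) E) := congrArg Subtype.val hxy
    have h2 : helper58_theta Ψ ((x : GL (Fin d) E) : Matrix (Fin d) (Fin d) E) =
        helper58_theta Ψ ((y : GL (Fin d) E) : Matrix (Fin d) (Fin d) E) :=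
      congrArg (fun u : GL ι F => (u : Matrix ι ι F)) h1
    apply Subtype.ext
    apply Units.ext
    apply Matrix.toLin'.injective
    apply LinearMap.ext
    intro w
    rw [Matrix.toLin'_apply, Matrix.toLin'_apply]
    have h3 := congrArg (fun M : Matrix ι ι F => M *ᵥ Ψ w) h2
    simp only [helper58_theta_mulVec, LinearEquiv.symm_apply_apply] at h3
    exact Ψ.injective h3
  exact Subgroup.card_dvd_of_injective Θ hinj

end Cfsg.Agent.Lib.helper99.HCI
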