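import Mathlib
import Cfsg.Agent.Lib.helper75.SimpleOrdA
import Cfsg.Agent.Lib.helper11.SylowFour

/-!
# No simple group of order 1980 (helper58, after helper11's order 5940)

`1980 = 2^2 * 3^2 * 5 * 11`.  `n_11 ∈ {12, 45}`; `12`: an element of order 3 centralizes a
Sylow 11-subgroup; `45`: `|N(P)| = 44`, `|C(P)| = 22`, and the Sylow 2-subgroups have order 4
(`sylow_four_even_kill`).
-/

set_option autoImplicit false

namespace Cfsg.Agent.Lib.helper58

open MulAction
open Cfsg.Agent.Lib.helper75 Cfsg.Agent.Lib.helper11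

/-- No finite simple group has order 1980. -/
theorem no_simple_1980 {G : Type*} [Group G] [Finite G] [IsSimpleGroup G] :
    Nat.card G ≠ 1980 := by
  intro hS
  have h11 : Fact (Nat.Prime 11) := ⟨by norm_num⟩
  have h3 : Fact (Nat.Prime 3) := ⟨by norm_num⟩
  obtain ⟨P⟩ : Nonempty (Sylow 11 G) := inferInstance
  obtain ⟨hP, hn1, hmod, ⟨k, hk, hnk⟩, e, he, he1, hCe⟩ :=
    sylow_setup (p := 11) 180 (by rw [hS]) (by norm_num) (by norm_num) P
  have he' : e = 2 ∨ e = 5 ∨ e = 10 := by
    have hle : e ≤ 10 := Nat.le_of_dvd (by norm_num) he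
    have hpos : 0 < e := Nat.pos_of_dvd_of_pos he (by norm_num)
    interval_cases e <;> omega
  obtain ⟨n, hn⟩ : ∃ n, n = Nat.card (Sylow 11 G) := ⟨_, rfl⟩
  rw [← hn] at hmod hnk
  have hnd : n ∣ 180 := Dvd.intro _ hnk
  have hnle : n ≤ 180 := Nat.le_of_dvd (by norm_num) hnd
  have hn1' : n ≠ 1 := by rw [hn]; exact hn1
  have hcases : n = 12 ∨ n = 45 := by
    clear hnk hn
    interval_cases n <;> omega
  rcases hcases with rfl | rfl
  · -- `n_11 = 12`
    have hk15 : k = 15 := by omega
    rw [hk15] at hk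
    rw [hk] at hCe
    have h3C : 3 ∣ Nat.card (Subgroup.centralizer ((P : Subgroup G) : Set G)) := by
      rcases he' with rfl | rfl | rfl
      · omega
      · exact ⟨11, by omega⟩
      · omega
    obtain ⟨x, hxC, hx⟩ := exists_mem_orderOf_prime _ 3 h3C
    obtain ⟨c1, c2, c3⟩ := sylow_prime_counts P hn1 x 3 hx hxC
    rw [← hn] at c2 c3
    omega
  · -- `n_11 = 45`
    have hk4 : k = 4 := by omega
    rw [hk4] at hk
    rw [hk] at hCe
    have hC22 : Nat.card (Subgroup.centralizer ((P : Subgroup G) : Set G)) = 22 := by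
      rcases he' with rfl | rfl | rfl <;> omega
    have hrel : (Subgroup.centralizer ((P : Subgroup G) : Set G)).relIndex
        (Subgroup.normalizer ((P : Subgroup G) : Set G)) = 2 := by
      have h := card_centralizer_mul_relIndex P
      rw [hC22, hk] at h
      omega
    apply sylow_four_even_kill 495 (by decide) (by rw [hS]) (by norm_num) P hn1
      (by rw [hC22]; norm_num) (by rw [hrel])
    intro f hf1 hf2 hf3
    rw [← hn] at hf2 hf3
    omega

end Cfsg.Agent.Lib.helper58
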