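import Mathlib
import Cfsg.Agent.Lib.helper40.Cores
import Cfsg.Agent.Lib.helper67.Tate
import Cfsg.Agent.Lib.helper3.PGroupFrattini

/-!
Shared lemmas (helper58): the group-theoretic half of "the kernel of the characters of degree
prime to `p`".

* `exists_pPrime_normal`: a normal subgroup `L` meeting a Sylow `p`-subgroup `P` inside `[P, P]`
  has a normal (in `G`) subgroup `M` of order prime to `p` containing all `p'`-elements of `L`
  (Tate).
* `exists_mul_of_pPrime_normal`: then `L ≤ P M`.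
* `commutator_sup_zpowers_le`: `[P⟨x⟩, P⟨x⟩] ≤ P` for `x` centralizing `P`.
* `le_sup_commutator_of_pPrime_ker`: a normal subgroup `K` with `K ∩ H ≤ [H, H]` for all `H` of
  index prime to `p` lies in `N [P, P]`, where `N` is the largest normal subgroup with
  `C_N(P) = 1`.
-/

set_option autoImplicit false

namespace Cfsg.Agent.Lib.helper58

open scoped commutatorElement

universe u

/-- A normal subgroup `L` meeting a Sylow `p`-subgroup `P` inside `[P, P]` has a normal subgroup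
`M` of `G` of order prime to `p` containing all `p'`-elements of `L`. -/
theorem exists_pPrime_normal {G : Type u} [Group G] [Finite G] {p : ℕ} [Fact p.Prime]
    (P : Sylow p G) (L : Subgroup G) [hLn : L.Normal]
    (hLP : L ⊓ (P : Subgroup G) ≤ ⁅(P : Subgroup G), (P : Subgroup G)⁆) :
    ∃ M : Subgroup G, M.Normal ∧ M ≤ L ∧ (Nat.card M).Coprime p ∧
      M ⊓ (P : Subgroup G) = ⊥ ∧ ∀ x ∈ L, (orderOf x).Coprime p → x ∈ M := by
  classical
  set s : Set G := {x : G | x ∈ L ∧ (orderOf x).Coprime p} with hs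
  set M : Subgroup G := Subgroup.normalClosure s with hM
  have hMn : M.Normal := Subgroup.normalClosure_normal
  have hML : M ≤ L := Subgroup.normalClosure_le_normal (fun x hx => hx.1)
  have hMgen : M ≤ Subgroup.closure {g : G | g ∈ M ∧ (orderOf g).Coprime p} := by
    rw [hM, Subgroup.normalClosure]
    apply Subgroup.closure_mono
    intro g hg
    rw [Group.mem_conjugatesOfSet_iff] at hg
    obtain ⟨a, has, hconj⟩ := hg
    obtain ⟨c, rfl⟩ := isConj_iff.1 hconj
    refine ⟨?_, ?_⟩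
    · exact (Subgroup.normalClosure_normal).conj_mem _ (Subgroup.subset_normalClosure has) c
    · have hsc : SemiconjBy c a (c * a * c⁻¹) := by
        unfold SemiconjBy
        group
      rw [← hsc.orderOf_eq]
      exact has.2
  have hMP : M ⊓ (P : Subgroup G) ≤
      (frattini ↥(P : Subgroup G)).map (P : Subgroup G).subtype := by
    intro x hx
    obtain ⟨hx1, hx2⟩ := Subgroup.mem_inf.1 hx
    have h2 := hLP (Subgroup.mem_inf.2 ⟨hML hx1, hx2⟩)
    rw [← Subgroup.map_subtype_commutator] at h2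
    exact Subgroup.map_mono (Cfsg.Agent.Lib.helper3.commutator_le_frattini P.2) h2
  have hbot := Cfsg.Agent.Lib.helper67.tate_frattini P M hMgen hMP
  have hcop := Cfsg.Agent.Lib.helper67.card_coprime_of_inf_sylow_eq_bot P M hbot
  exact ⟨M, hMn, hML, hcop, hbot, fun x hxL hxo => Subgroup.subset_normalClosure ⟨hxL, hxo⟩⟩

/-- If the normal subgroup `M ≤ L` contains all `p'`-elements of the normal subgroup `L`, then
`L ≤ P M` for every Sylow `p`-subgroup `P`. -/
theorem exists_mul_of_pPrime_normal {G : Type u} [Group G] [Finite G] {p : ℕ} [Fact p.Prime]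
    (P : Sylow p G) (L M : Subgroup G) [hLn : L.Normal] [hMn : M.Normal]
    (hM : ∀ x ∈ L, (orderOf x).Coprime p → x ∈ M) (k : G) (hk : k ∈ L) :
    ∃ u ∈ (P : Subgroup G), ∃ m ∈ M, k = u * m := by
  classical
  have hpp : p.Prime := Fact.out
  have hpg : IsPGroup p ↥(L.map (QuotientGroup.mk' M)) := by
    rintro ⟨g, hg⟩
    obtain ⟨k, hkL, rfl⟩ := hg
    have ho : orderOf k ≠ 0 := (orderOf_pos k).ne'
    obtain ⟨a, m, hm, hkm⟩ := Nat.exists_eq_pow_mul_and_not_dvd ho p hpp.ne_one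
    refine ⟨a, ?_⟩
    apply Subtype.ext
    show (QuotientGroup.mk' M k) ^ p ^ a = 1
    rw [← map_pow]
    apply (QuotientGroup.eq_one_iff _).2
    apply hM _ (L.pow_mem hkL _)
    have h1 : (k ^ p ^ a) ^ m = 1 := by rw [← pow_mul, ← hkm, pow_orderOf_eq_one]
    have h2 : orderOf (k ^ p ^ a) ∣ m := orderOf_dvd_of_pow_eq_one h1
    exact Nat.Coprime.coprime_dvd_left h2 ((Nat.Prime.coprime_iff_not_dvd hpp).2 hm).symm
  have hn : (L.map (QuotientGroup.mk' M)).Normal :=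
    Subgroup.Normal.map hLn _ (QuotientGroup.mk'_surjective M)
  set P' : Sylow p (G ⧸ M) := P.mapSurjective (QuotientGroup.mk'_surjective M) with hP'
  have hle : L.map (QuotientGroup.mk' M) ≤ (P' : Subgroup (G ⧸ M)) := by
    have h1 : IsPGroup p ↥(L.map (QuotientGroup.mk' M) ⊔ (P' : Subgroup (G ⧸ M))) :=
      IsPGroup.to_sup_of_normal_left hpg P'.2
    have h2 := P'.3 h1 le_sup_right
    exact le_sup_left.trans h2.le
  have hk' : QuotientGroup.mk' M k ∈ (P' : Subgroup (G ⧸ M)) :=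
    hle (Subgroup.mem_map_of_mem _ hk)
  rw [hP', Sylow.coe_mapSurjective] at hk'
  obtain ⟨u, huP, huk⟩ := hk'
  refine ⟨u, huP, u⁻¹ * k, ?_, by group⟩
  exact QuotientGroup.eq.1 huk

/-- `[P⟨x⟩, P⟨x⟩] ≤ P` when `x` centralizes `P`. -/
theorem commutator_sup_zpowers_le {G : Type*} [Group G] (P : Subgroup G) (x : G)
    (hx : x ∈ Subgroup.centralizer (P : Set G)) :
    ⁅P ⊔ Subgroup.zpowers x, P ⊔ Subgroup.zpowers x⁆ ≤ P := by
  have hcx : ∀ a ∈ P, Commute a x := fun a ha => Subgroup.mem_centralizer_iff.1 hx a ha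
  have hc : ∀ a ∈ P, ∀ b ∈ Subgroup.zpowers x, a * b = b * a := by
    intro a ha b hb
    obtain ⟨i, rfl⟩ := Subgroup.mem_zpowers_iff.1 hb
    exact ((hcx a ha).zpow_right i).eq
  rw [Subgroup.commutator_le]
  intro g₁ hg₁ g₂ hg₂
  obtain ⟨a, ha, b, hb, rfl⟩ := Cfsg.Agent.Lib.helper40.exists_mul_of_mem_sup_of_commute hc hg₁
  obtain ⟨a', ha', b', hb', rfl⟩ := Cfsg.Agent.Lib.helper40.exists_mul_of_mem_sup_of_commute hc hg₂
  have h1 : b * a' = a' * b := (hc a' ha' b hb).symm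
  have h2 : b * b' = b' * b := by
    obtain ⟨i, rfl⟩ := Subgroup.mem_zpowers_iff.1 hb
    obtain ⟨j, rfl⟩ := Subgroup.mem_zpowers_iff.1 hb'
    exact (Commute.zpow_zpow_self x i j).eq
  have h3 : b' * a⁻¹ = a⁻¹ * b' := (hc a⁻¹ (P.inv_mem ha) b' hb').symm
  have e : ⁅a * b, a' * b'⁆ = a * a' * a⁻¹ * a'⁻¹ := by
    rw [commutatorElement_def]
    calc (a * b) * (a' * b') * (a * b)⁻¹ * (a' * b')⁻¹
        = a * (b * a') * b' * b⁻¹ * a⁻¹ * b'⁻¹ * a'⁻¹ := by group
      _ = a * (a' * b) * b' * b⁻¹ * a⁻¹ * b'⁻¹ * a'⁻¹ := by rw [h1]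
      _ = a * a' * (b * b') * b⁻¹ * a⁻¹ * b'⁻¹ * a'⁻¹ := by group
      _ = a * a' * (b' * b) * b⁻¹ * a⁻¹ * b'⁻¹ * a'⁻¹ := by rw [h2]
      _ = a * a' * (b' * a⁻¹) * b'⁻¹ * a'⁻¹ := by group
      _ = a * a' * (a⁻¹ * b') * b'⁻¹ * a'⁻¹ := by rw [h3]
      _ = a * a' * a⁻¹ * a'⁻¹ := by group
  rw [e]
  exact P.mul_mem (P.mul_mem (P.mul_mem ha ha') (P.inv_mem ha)) (P.inv_mem ha')

/-- Let `N` contain every normal subgroup `L` of `G` with `C_L(P) = 1`, and let `K` be a normal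
subgroup with `K ∩ H ≤ [H, H]` for every subgroup `H` of index prime to `p`.  Then
`K ≤ N [P, P]`. -/
theorem le_sup_commutator_of_pPrime_ker {G : Type u} [Group G] [Finite G] {p : ℕ}
    [Fact p.Prime] (P : Sylow p G) (N : Subgroup G)
    (hmax : ∀ L : Subgroup G, L.Normal →
      L ⊓ Subgroup.centralizer ((P : Subgroup G) : Set G) = ⊥ → L ≤ N)
    (K : Subgroup G) [hKn : K.Normal]
    (hK : ∀ H : Subgroup G, ¬ p ∣ H.index → ∀ x ∈ H, x ∈ K → x ∈ ⁅H, H⁆) :
    K ≤ N ⊔ ⁅(P : Subgroup G), (P : Subgroup G)⁆ := by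
  have hKP : K ⊓ (P : Subgroup G) ≤ ⁅(P : Subgroup G), (P : Subgroup G)⁆ :=
    fun x hx => hK P P.not_dvd_index x hx.2 hx.1
  obtain ⟨M, hMn, hMK, hcop, hbot, hM⟩ := exists_pPrime_normal P K hKP
  have hMC : M ⊓ Subgroup.centralizer ((P : Subgroup G) : Set G) = ⊥ := by
    rw [eq_bot_iff]
    intro x hx
    obtain ⟨hxM, hxC⟩ := Subgroup.mem_inf.1 hx
    have hidx : ¬ p ∣ ((P : Subgroup G) ⊔ Subgroup.zpowers x).index :=
      fun h => P.not_dvd_index (h.trans (Subgroup.index_dvd_of_le le_sup_left))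
    have h1 := hK _ hidx x
      (Subgroup.mem_sup_right (Subgroup.mem_zpowers x)) (hMK hxM)
    have h2 : x ∈ (P : Subgroup G) := commutator_sup_zpowers_le (P : Subgroup G) x hxC h1
    have h3 : x ∈ M ⊓ (P : Subgroup G) := Subgroup.mem_inf.2 ⟨hxM, h2⟩
    rw [hbot] at h3
    exact h3
  have hMN : M ≤ N := hmax M hMn hMC
  intro k hk
  obtain ⟨u, hu, m, hm, rfl⟩ := exists_mul_of_pPrime_normal P K M hM k hk
  have huK : u ∈ K := by
    have e : u = (u * m) * m⁻¹ := by group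
    rw [e]
    exact K.mul_mem hk (K.inv_mem (hMK hm))
  have huc := hKP (Subgroup.mem_inf.2 ⟨huK, hu⟩)
  exact Subgroup.mul_mem _ (Subgroup.mem_sup_right huc) (Subgroup.mem_sup_left (hMN hm))

end Cfsg.Agent.Lib.helper58
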