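import Mathlib
import Cfsg.Prelude.Def_Local
import Cfsg.Agent.Lib.helper40.Cores
import Cfsg.Agent.Lib.helper38.HallHigman
import Cfsg.Agent.Lib.helper38.HallHigman2
import Cfsg.Agent.Lib.helper67.Tate
import Cfsg.Agent.Lib.helper3.PGroupFrattini

/-!
Shared lemmas (helper58): a finite group that is `p`-solvable and `q`-solvable for two different
primes, in which every Sylow `p`-subgroup meets `O_{q'}(G)` inside its derived subgroup and every
Sylow `q`-subgroup meets `O_{p'}(G)` inside its derived subgroup, has order prime to `p` or to `q`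
(`not_dvd_of_sylowMeetsCore`).  The proof is by induction on the order, through `G / O_{q'}(G)`,
with Tate's theorem and Hall–Higman 1.2.3.
-/

set_option autoImplicit false

namespace Cfsg.Agent.Lib.helper58

open Cfsg

universe u

/-- Every Sylow `p`-subgroup of `G` meets `O_{q'}(G)` inside its own derived subgroup. -/
def SylowMeetsCore (p q : ℕ) (G : Type*) [Group G] : Prop :=
  ∀ P : Sylow p G, (P : Subgroup G) ⊓ pPrimeCore q G ≤ ⁅(P : Subgroup G), (P : Subgroup G)⁆

/-- A Sylow subgroup contained in its own derived subgroup is trivial. -/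
theorem sylow_eq_bot_of_le_commutator {G : Type*} [Group G] [Finite G] {p : ℕ} [Fact p.Prime]
    (P : Sylow p G) (h : (P : Subgroup G) ≤ ⁅(P : Subgroup G), (P : Subgroup G)⁆) :
    (P : Subgroup G) = ⊥ := by
  by_contra hne
  have : Nontrivial ↥(P : Subgroup G) := (Subgroup.nontrivial_iff_ne_bot _).2 hne
  have : Group.IsNilpotent ↥(P : Subgroup G) := P.2.isNilpotent
  have hlt := Group.IsSolvable.commutator_lt_top_of_nontrivial ↥(P : Subgroup G)
  apply hlt.ne
  rw [eq_top_iff]
  intro x _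
  have hx : (x : G) ∈ ⁅(P : Subgroup G), (P : Subgroup G)⁆ := h x.2
  rw [← Subgroup.map_subtype_commutator] at hx
  obtain ⟨y, hy, hyx⟩ := hx
  have : y = x := Subtype.ext hyx
  rw [← this]
  exact hy

/-- The hypothesis on the Sylow `q`-subgroups passes to `G / O_{q'}(G)`. -/
theorem sylowMeetsCore_quotient {G : Type u} [Group G] [Finite G] {p q : ℕ} [Fact p.Prime]
    [Fact q.Prime] (hpq : p ≠ q) (hp : SylowMeetsCore p q G) (hq : SylowMeetsCore q p G)
    [hKn : (pPrimeCore q G).Normal] :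
    SylowMeetsCore q p (G ⧸ pPrimeCore q G) := by
  classical
  intro Qbar ybar hy
  obtain ⟨Q, rfl⟩ :=
    Sylow.mapSurjective_surjective (QuotientGroup.mk'_surjective (pPrimeCore q G)) q Qbar
  rw [Subgroup.mem_inf] at hy
  obtain ⟨hy1, hy2⟩ := hy
  rw [Sylow.coe_mapSurjective] at hy1 ⊢
  obtain ⟨y, hyQ, rfl⟩ := hy1
  set L : Subgroup G :=
    (pPrimeCore p (G ⧸ pPrimeCore q G)).comap (QuotientGroup.mk' (pPrimeCore q G)) with hL
  have hLn : L.Normal := by
    have := Cfsg.Agent.Lib.helper40.pPrimeCore_normal' p (G ⧸ pPrimeCore q G)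
    exact Subgroup.Normal.comap inferInstance _
  have hyL : y ∈ L := hy2
  obtain ⟨P⟩ : Nonempty (Sylow p G) := inferInstance
  set s : Set G := {x : G | x ∈ L ∧ (orderOf x).Coprime p} with hs
  set M : Subgroup G := Subgroup.normalClosure s with hM
  have hML : M ≤ L := Subgroup.normalClosure_le_normal (fun x hx => hx.1)
  have hMgen : M ≤ Subgroup.closure {g : G | g ∈ M ∧ (orderOf g).Coprime p} := by
    rw [hM, Subgroup.normalClosure]
    apply Subgroup.closure_mono
    intro g hg
    rw [Group.mem_conjugatesOfSet_iff] at hg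
    obtain ⟨a, has, hconj⟩ := hg
    obtain ⟨c, rfl⟩ := isConj_iff.1 hconj
    refine ⟨?_, ?_⟩
    · exact (Subgroup.normalClosure_normal).conj_mem _ (Subgroup.subset_normalClosure has) c
    · have hsc : SemiconjBy c a (c * a * c⁻¹) := by
        unfold SemiconjBy
        group
      rw [← hsc.orderOf_eq]
      exact has.2
  have hLP : L ⊓ (P : Subgroup G) ≤ pPrimeCore q G := by
    intro x hx
    obtain ⟨hx1, hx2⟩ := Subgroup.mem_inf.1 hx
    have h1 : (orderOf (QuotientGroup.mk' (pPrimeCore q G) x)).Coprime p :=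
      Cfsg.Agent.Lib.helper40.orderOf_coprime_of_mem_pPrimeCore hx1
    obtain ⟨k, hk⟩ := P.2 ⟨x, hx2⟩
    have hxk : x ^ p ^ k = 1 := by simpa using congrArg Subtype.val hk
    have h2 : (QuotientGroup.mk' (pPrimeCore q G) x) ^ p ^ k = 1 := by
      rw [← map_pow, hxk, map_one]
    have h3 := Cfsg.Agent.Lib.helper40.eq_one_of_pow_eq_one_of_coprime h2 h1
    exact (QuotientGroup.eq_one_iff x).1 h3
  have hMP : M ⊓ (P : Subgroup G) ≤
      (frattini ↥(P : Subgroup G)).map (P : Subgroup G).subtype := by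
    intro x hx
    obtain ⟨hx1, hx2⟩ := Subgroup.mem_inf.1 hx
    have h1 : x ∈ (P : Subgroup G) ⊓ pPrimeCore q G :=
      Subgroup.mem_inf.2 ⟨hx2, hLP (Subgroup.mem_inf.2 ⟨hML hx1, hx2⟩)⟩
    have h2 := hp P h1
    rw [← Subgroup.map_subtype_commutator] at h2
    exact Subgroup.map_mono (Cfsg.Agent.Lib.helper3.commutator_le_frattini P.2) h2
  have hbot := Cfsg.Agent.Lib.helper67.tate_frattini P M hMgen hMP
  have hcop := Cfsg.Agent.Lib.helper67.card_coprime_of_inf_sylow_eq_bot P M hbot
  have hMK : M ≤ pPrimeCore p G :=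
    Cfsg.Agent.Lib.helper40.le_pPrimeCore M Subgroup.normalClosure_normal hcop
  have hyM : y ∈ M := by
    apply Subgroup.subset_normalClosure
    refine ⟨hyL, ?_⟩
    obtain ⟨k, hk⟩ := Q.2 ⟨y, hyQ⟩
    have hyk : y ^ q ^ k = 1 := by simpa using congrArg Subtype.val hk
    have hdvd : orderOf y ∣ q ^ k := orderOf_dvd_of_pow_eq_one hyk
    have hc : (q ^ k).Coprime p :=
      Nat.Coprime.pow_left k ((Nat.coprime_primes Fact.out Fact.out).2 (Ne.symm hpq))
    exact Nat.Coprime.coprime_dvd_left hdvd hc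
  have h3 : y ∈ ⁅(Q : Subgroup G), (Q : Subgroup G)⁆ :=
    hq Q (Subgroup.mem_inf.2 ⟨hyQ, hMK hyM⟩)
  rw [← Subgroup.map_commutator]
  exact Subgroup.mem_map_of_mem _ h3

/-- A finite group that is `p`-solvable and `q`-solvable for primes `p ≠ q`, whose Sylow `p`- and
`q`-subgroups meet `O_{q'}(G)` and `O_{p'}(G)` inside their derived subgroups, has order prime to
`p` or to `q`. -/
theorem not_dvd_of_sylowMeetsCore_aux : ∀ (n : ℕ) (G : Type u) [Group G] [Finite G],
    Nat.card G = n → ∀ (p q : ℕ) [Fact p.Prime] [Fact q.Prime], p ≠ q → IsPSolvable p G →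
    IsPSolvable q G → SylowMeetsCore p q G → SylowMeetsCore q p G →
    ¬ (p ∣ Nat.card G ∧ q ∣ Nat.card G) := by
  intro n
  induction n using Nat.strong_induction_on with
  | _ n ih =>
  intro G _ _ hn p q _ _ hpq hps hqs hp hq
  have step : ∀ (p q : ℕ) [Fact p.Prime] [Fact q.Prime], p ≠ q → IsPSolvable p G →
      IsPSolvable q G → SylowMeetsCore p q G → SylowMeetsCore q p G → pPrimeCore q G ≠ ⊥ →
      ¬ (p ∣ Nat.card G ∧ q ∣ Nat.card G) := by
    intro p q _ _ hpq hps hqs hp hq hK ⟨hpd, hqd⟩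
    have hKn := Cfsg.Agent.Lib.helper40.pPrimeCore_normal' q G
    have hmul : Nat.card G = Nat.card (G ⧸ pPrimeCore q G) * Nat.card (pPrimeCore q G) :=
      Subgroup.card_eq_card_quotient_mul_card_subgroup _
    have hKcard : 1 < Nat.card (pPrimeCore q G) := by
      rw [Subgroup.one_lt_card_iff_ne_bot]
      exact hK
    have hcard : Nat.card (G ⧸ pPrimeCore q G) < n := by
      rw [← hn, hmul]
      have hpos : 0 < Nat.card (G ⧸ pPrimeCore q G) := Nat.card_pos
      nlinarith
    have hq' := sylowMeetsCore_quotient hpq hp hq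
    have hp' : SylowMeetsCore p q (G ⧸ pPrimeCore q G) := by
      intro P
      rw [Cfsg.Agent.Lib.helper38.pPrimeCore_quotient_pPrimeCore, inf_bot_eq]
      exact bot_le
    have hres := ih _ hcard (G ⧸ pPrimeCore q G) rfl p q hpq
      (Cfsg.Agent.Lib.helper38.isPSolvable_quotient _ hps)
      (Cfsg.Agent.Lib.helper38.isPSolvable_quotient _ hqs) hp' hq'
    have hqd' : q ∣ Nat.card (G ⧸ pPrimeCore q G) := by
      rw [hmul] at hqd
      have hc : (Nat.card (pPrimeCore q G)).Coprime q :=
        Cfsg.Agent.Lib.helper40.pPrimeCore_card_coprime q G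
      exact (Nat.Coprime.dvd_mul_right hc.symm).1 hqd
    have hpd' : ¬ p ∣ Nat.card (G ⧸ pPrimeCore q G) := fun h => hres ⟨h, hqd'⟩
    obtain ⟨P⟩ : Nonempty (Sylow p G) := inferInstance
    have hPK : (P : Subgroup G) ≤ pPrimeCore q G := by
      intro x hx
      obtain ⟨k, hk⟩ := P.2 ⟨x, hx⟩
      have hxk : x ^ p ^ k = 1 := by simpa using congrArg Subtype.val hk
      rw [← QuotientGroup.eq_one_iff]
      apply Cfsg.Agent.Lib.helper40.eq_one_of_pow_eq_one_of_coprime (p := p) (k := k)
      · rw [← QuotientGroup.mk_pow, hxk]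
        rfl
      · have hd := orderOf_dvd_natCard (x : G ⧸ pPrimeCore q G)
        exact Nat.Coprime.coprime_dvd_left hd
          ((Nat.Prime.coprime_iff_not_dvd Fact.out).2 hpd').symm
    have hbot := sylow_eq_bot_of_le_commutator P
      (fun x hx => hp P (Subgroup.mem_inf.2 ⟨hx, hPK hx⟩))
    exact P.ne_bot_of_dvd_card hpd hbot
  by_cases hKq : pPrimeCore q G = ⊥
  · by_cases hKp : pPrimeCore p G = ⊥
    · rintro ⟨hpd, -⟩
      have h1 : pCore p G ≤ pPrimeCore q G := by
        apply Cfsg.Agent.Lib.helper40.le_pPrimeCore _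
          (Cfsg.Agent.Lib.helper40.pCore_normal' p G)
        obtain ⟨k, hk⟩ := (IsPGroup.iff_card).1 (Cfsg.Agent.Lib.helper40.pCore_isPGroup p G)
        rw [hk]
        exact Nat.Coprime.pow_left k ((Nat.coprime_primes Fact.out Fact.out).2 hpq)
      rw [hKq, le_bot_iff] at h1
      have h2 := Cfsg.Agent.Lib.helper38.centralizer_pCore_le_of_isPSolvable hps hKp
      rw [h1] at h2
      have h3 : ∀ x : G, x = 1 := by
        intro x
        have hx : x ∈ Subgroup.centralizer ((⊥ : Subgroup G) : Set G) := by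
          rw [Subgroup.mem_centralizer_iff]
          intro g hg
          rw [Subgroup.coe_bot, Set.mem_singleton_iff] at hg
          rw [hg, mul_one, one_mul]
        exact Subgroup.mem_bot.1 (h2 hx)
      have h4 : Nat.card G = 1 := by
        rw [Nat.card_eq_one_iff_unique]
        exact ⟨⟨fun a b => by rw [h3 a, h3 b]⟩, ⟨1⟩⟩
      rw [h4] at hpd
      exact (Fact.out : p.Prime).one_lt.ne' (Nat.dvd_one.1 hpd)
    · rintro ⟨hpd, hqd⟩
      exact step q p hpq.symm hqs hps hq hp hKp ⟨hqd, hpd⟩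
  · exact step p q hpq hps hqs hp hq hKq

/-- A finite group that is `p`-solvable and `q`-solvable for primes `p ≠ q`, whose Sylow `p`- and
`q`-subgroups meet `O_{q'}(G)` and `O_{p'}(G)` inside their derived subgroups, has order prime to
`p` or to `q`. -/
theorem not_dvd_of_sylowMeetsCore {G : Type u} [Group G] [Finite G] {p q : ℕ} [Fact p.Prime]
    [Fact q.Prime] (hpq : p ≠ q) (hps : IsPSolvable p G) (hqs : IsPSolvable q G)
    (hp : SylowMeetsCore p q G) (hq : SylowMeetsCore q p G) :
    ¬ (p ∣ Nat.card G ∧ q ∣ Nat.card G) :=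
  not_dvd_of_sylowMeetsCore_aux _ G rfl p q hpq hps hqs hp hq

end Cfsg.Agent.Lib.helper58
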