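import Mathlib
import Cfsg.Agent.Lib.helper58.PQCores
import Cfsg.Agent.Lib.helper58.PrincipalOver
import Cfsg.Agent.Lib.helper81.PrincipalQuot
import Cfsg.Agent.Lib.helper81.CharOrtho
import Cfsg.Agent.Lib.helper82.CharQuot
import Cfsg.Agent.Lib.helper20.PrincipalIdem

/-!
Shared lemmas (helper58): if every irreducible character of `p'`-degree in the principal
`p`-block of a `q`-solvable group `G` lies in the principal `q`-block, then every Sylow
`p`-subgroup of `G` meets `O_{q'}(G)` inside its derived subgroup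
(`sylowMeetsCore_of_principal`).
-/

set_option autoImplicit false

namespace Cfsg.Agent.Lib.helper58

open Cfsg
open scoped ComplexConjugate

/-- Every irreducible character of a finite `p`-group lies in the principal `p`-block. -/
theorem mem_principalBlock_of_isPGroup {P : Type*} [Group P] [Finite P] {p : ℕ}
    [Fact p.Prime] {M : Ideal AlgInt} (hM : IsPModular p M) (hP : IsPGroup p P)
    (η : IrrCharacter P) : η ∈ principalBlock M P := by
  classical
  let _ : Fintype P := Fintype.ofFinite P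
  have hpp : p.Prime := Fact.out
  by_contra hnot
  have h0 := Cfsg.Agent.Lib.helper20.sum_pRegular_irr_eq_zero hM η hnot
  have h1 : ∑ x : P, (if ¬ p ∣ orderOf x then (η : P → ℂ) x else 0) = (η : P → ℂ) 1 := by
    rw [Finset.sum_eq_single (1 : P)]
    · rw [if_pos]
      rw [orderOf_one]
      exact hpp.not_dvd_one
    · intro x _ hx
      rw [if_neg]
      intro hnd
      apply hx
      obtain ⟨k, hk⟩ := hP x
      have hd : orderOf x ∣ p ^ k := orderOf_dvd_of_pow_eq_one hk
      obtain ⟨j, -, hj⟩ := (Nat.dvd_prime_pow hpp).1 hd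
      rcases Nat.eq_zero_or_pos j with h | h
      · rw [h, pow_zero] at hj
        exact orderOf_eq_one_iff.1 hj
      · exact absurd (hj ▸ dvd_pow_self p h.ne') hnd
    · intro h
      exact absurd (Finset.mem_univ _) h
  exact Cfsg.Agent.Lib.helper81.irr_one_ne_zero η (h1 ▸ h0)

/-- If every irreducible character of `p'`-degree in the principal `p`-block of the `q`-solvable
group `G` lies in the principal `q`-block, then every Sylow `p`-subgroup of `G` meets `O_{q'}(G)`
inside its derived subgroup. -/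
theorem sylowMeetsCore_of_principal {G : Type*} [Group G] [Finite G] {p q : ℕ} [Fact p.Prime]
    [Fact q.Prime] {Mp Mq : Ideal AlgInt} (hMp : IsPModular p Mp) (hMq : IsPModular q Mq)
    (hqs : IsPSolvable q G)
    (h : ∀ χ : IrrCharacter G, χ ∈ principalBlock Mp G → ¬ p ∣ charDegree (χ : G → ℂ) →
      χ ∈ principalBlock Mq G) :
    SylowMeetsCore p q G := by
  classical
  intro P x hx
  obtain ⟨hxP, hxK⟩ := Subgroup.mem_inf.1 hx
  by_contra hxc
  let _ : Fintype ↥(P : Subgroup G) := Fintype.ofFinite _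
  have hpp : p.Prime := Fact.out
  have hx' : (⟨x, hxP⟩ : ↥(P : Subgroup G)) ∉ commutator ↥(P : Subgroup G) := by
    intro hmem
    apply hxc
    rw [← Subgroup.map_subtype_commutator]
    exact ⟨_, hmem, rfl⟩
  have hab : (Abelianization.of (⟨x, hxP⟩ : ↥(P : Subgroup G))) ≠ 1 := by
    intro h1
    apply hx'
    exact (QuotientGroup.eq_one_iff _).1 h1
  obtain ⟨φ, hφ⟩ := Cfsg.Agent.Lib.helper82.exists_hom_apply_ne_one
    (G := Abelianization ↥(P : Subgroup G)) (fun a b => mul_comm a b) hab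
  set f : ↥(P : Subgroup G) →* ℂˣ := φ.comp Abelianization.of with hf
  set η : IrrCharacter ↥(P : Subgroup G) :=
    ⟨fun g => (f g : ℂ), Cfsg.Agent.Lib.helper82.isIrrCharacter_of_hom f⟩ with hη
  have hηB : η ∈ principalBlock Mp ↥(P : Subgroup G) :=
    mem_principalBlock_of_isPGroup hMp P.2 η
  have hdeg : ¬ p ∣ charDegree (η : ↥(P : Subgroup G) → ℂ) := by
    have h1 : charDegree (η : ↥(P : Subgroup G) → ℂ) = 1 := by
      unfold charDegree
      simp [hη]
    rw [h1]
    exact hpp.not_dvd_one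
  obtain ⟨χ, hχB, hχdeg, hχη⟩ :=
    exists_principal_pPrime_over hMp (P : Subgroup G) P.not_dvd_index η hηB hdeg
  have hχq := h χ hχB hχdeg
  have hker := (Cfsg.Agent.Lib.helper81.mem_principalBlock_iff_of_isPSolvable hMq hqs χ).1
    hχq x hxK
  obtain ⟨n, ρ, hirr, hρ⟩ := χ.2
  have hxker : x ∈ Cfsg.Agent.Lib.helper82.repKer ρ := by
    rw [Cfsg.Agent.Lib.helper82.mem_repKer_iff_char, hρ]
    exact hker
  have hshift : ∀ g : G, (χ : G → ℂ) (x * g) = (χ : G → ℂ) g := by
    intro g
    rw [← hρ]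
    show ρ.character (x * g) = ρ.character g
    unfold Representation.character
    rw [map_mul, (Cfsg.Agent.Lib.helper82.mem_repKer ρ x).1 hxker, one_mul]
  apply hχη
  unfold classInner
  have hsum : ∑ y : ↥(P : Subgroup G), (χ : G → ℂ) y * conj ((η : ↥(P : Subgroup G) → ℂ) y) =
      conj ((f ⟨x, hxP⟩ : ℂ)) *
        ∑ y : ↥(P : Subgroup G), (χ : G → ℂ) y * conj ((η : ↥(P : Subgroup G) → ℂ) y) := by
    rw [Finset.mul_sum]
    rw [← Equiv.sum_comp (Equiv.mulLeft (⟨x, hxP⟩ : ↥(P : Subgroup G)))]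
    refine Finset.sum_congr rfl (fun y _ => ?_)
    simp only [Equiv.coe_mulLeft]
    show (χ : G → ℂ) (x * y) * conj ((f (⟨x, hxP⟩ * y) : ℂ)) = _
    rw [hshift, map_mul, Units.val_mul, map_mul]
    show _ = conj ((f ⟨x, hxP⟩ : ℂ)) * ((χ : G → ℂ) y * conj ((f y : ℂ)))
    ring
  have hne : conj ((f ⟨x, hxP⟩ : ℂ)) ≠ 1 := by
    intro h1
    apply hφ
    have h2 : (f ⟨x, hxP⟩ : ℂ) = 1 := by
      have h3 := congrArg conj h1
      simpa using h3
    exact Units.ext h2
  have hS : ∑ y : ↥(P : Subgroup G),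
      (χ : G → ℂ) y * conj ((η : ↥(P : Subgroup G) → ℂ) y) = 0 := by
    have h4 : (1 - conj ((f ⟨x, hxP⟩ : ℂ))) *
        ∑ y : ↥(P : Subgroup G), (χ : G → ℂ) y * conj ((η : ↥(P : Subgroup G) → ℂ) y) = 0 := by
      linear_combination hsum
    rcases mul_eq_zero.1 h4 with h5 | h5
    · exact absurd (sub_eq_zero.1 h5).symm hne
    · exact h5
  rw [hS, mul_zero]

end Cfsg.Agent.Lib.helper58
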