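import Mathlib
import Cfsg.Agent.Lib.helper68.HallPet
import Cfsg.Agent.Lib.helper65.PearlPow
import Cfsg.Agent.Lib.helper35.PearlG1

/-!
helper58: S5238 block G, piece K1 (`pg_card`), canonical name: a wrapper of helper35's landed
`h35_pg_card` (module `Cfsg.Agent.Lib.helper35.PearlG1`).
-/

set_option autoImplicit false

namespace Cfsg.Agent.Lib.helper65.PearlG

open Cfsg.Agent.Lib.helper68 Cfsg.Agent.Lib.helper65.PearlPow

variable {G : Type*} [Group G] [Finite G]

/-- K1 (L). Maximal class: `card (gam G i) = p ^ (n - i)` for `2 ≤ i ≤ n`. -/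
theorem pg_card (p : ℕ) [Fact p.Prime] (n : ℕ) (hG : Nat.card G = p ^ n) (x : G)
    (hC : Nat.card (Subgroup.centralizer ({x} : Set G)) = p ^ 2) (i : ℕ) (hi : 2 ≤ i)
    (hin : i ≤ n) : Nat.card (gam G i) = p ^ (n - i) := by
  exact Cfsg.Agent.Lib.helper35.PearlG.h35_pg_card p n hG x hC i hi hin

end Cfsg.Agent.Lib.helper65.PearlG
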