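import Mathlib
import Cfsg.Agent.Lib.helper65.PearlBasic

/-!
S5238 lemma split (helper65), piece S (`s_claim`), self-contained over `PearlBasic`: it carries
prefixed copies of the pieces D2 (`helper58_rel_ph`) and I2 (`helper58_rel_dl_ph`).
-/

set_option autoImplicit false

namespace Cfsg.Agent.Lib.helper65.PearlPow

open Cfsg.Agent.Lib.helper68

variable {H : Type*} [Group H]

/-- D2 (prefixed copy). -/
theorem helper58_rel_ph {u v : ℕ} (x : H) {s s' : ℕ → H} (hs : PolySeq v s) (h : Rel u s s') :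
    Rel (u + 1) (ph x s) (ph x s') := by
  unfold Rel at h ⊢
  have h1 : PolySeq (u + 1) (fun n => com (ph x s n) ((s n)⁻¹ * s' n)) :=
    PolySeq.mono (by omega) (PolySeq.comm (polyseq_ph x hs) h)
  have h2 : PolySeq (u + 1) (ph x (fun n => (s n)⁻¹ * s' n)) := polyseq_ph x h
  have h3 := PolySeq.mul h1 h2
  have e : (fun n => (ph x s n)⁻¹ * ph x s' n) =
      fun n => com (ph x s n) ((s n)⁻¹ * s' n) * ph x (fun n => (s n)⁻¹ * s' n) n := by
    funext n
    unfold ph com
    group
  rw [e]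
  exact h3

/-- I2 (prefixed copy). -/
theorem helper58_rel_dl_ph {v : ℕ} (x : H) {s : ℕ → H} (hs : PolySeq v s) :
    Rel (2 * v + 2) (ph x (dl s)) (dl (ph x s)) := by
  unfold Rel
  have hd : PolySeq (v + 1) (dl s) := PolySeq.diff hs
  have h1 : PolySeq (2 * v + 2) (fun n => com (ph x s n) (dl s n)) :=
    PolySeq.mono (by omega) (PolySeq.comm (polyseq_ph x hs) hd)
  have h2 : PolySeq (v + 1 + 1) (ph x (dl s)) := polyseq_ph x hd
  have h3 := polyseq_conj h1 h2
  have e : (fun n => (ph x (dl s) n)⁻¹ * dl (ph x s) n) =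
      fun n => (ph x (dl s) n)⁻¹ * com (ph x s n) (dl s n) * ph x (dl s) n := by
    funext n
    unfold dl ph com
    group
  rw [e]
  exact h3

theorem s_claim (x g : H) {w : ℕ} (hw : 1 ≤ w) (hg : g ∈ gam H w) (j : ℕ) :
    Rel (w + j + 2) ((ph x)^[j] (dl (tt x g))) (dl ((ph x)^[j] (tt x g))) := by
  induction j with
  | zero => exact rel_refl _ _
  | succ j ih =>
    rw [Function.iterate_succ_apply', Function.iterate_succ_apply']
    have ht : PolySeq w (tt x g) := tt_polyseq x g hg
    have hA : PolySeq (w + 1 + j) ((ph x)^[j] (dl (tt x g))) :=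
      polyseq_ph_iter x (PolySeq.diff ht) j
    have h1 : Rel (w + j + 2 + 1) (ph x ((ph x)^[j] (dl (tt x g))))
        (ph x (dl ((ph x)^[j] (tt x g)))) := helper58_rel_ph x hA ih
    have h2 : Rel (2 * (w + j) + 2) (ph x (dl ((ph x)^[j] (tt x g))))
        (dl (ph x ((ph x)^[j] (tt x g)))) := helper58_rel_dl_ph x (polyseq_ph_iter x ht j)
    exact rel_trans (rel_mono (by omega) h1) (rel_mono (by omega) h2)

end Cfsg.Agent.Lib.helper65.PearlPow
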