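import Mathlib
import Cfsg.Agent.Lib.helper58.Q8BlockA
import Cfsg.Agent.Lib.helper58.BSQ8c
import Cfsg.Agent.S0942

/-!
# Principal 2-block of a group with quaternion Sylow 2-subgroup of order 8, part B (helper58)

`q8_card_principalBlock`: if `G` has a quaternion Sylow 2-subgroup of order 8, `O(G) = 1` and
`G` is not a 2-group, then the principal 2-block of `G` has exactly 7 irreducible characters:
4 which are trivial on the central involution `t` (they take the values `±1` at the element `x` of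
order 4) and 3 which are faithful on `t`.
-/

set_option autoImplicit false

namespace Cfsg.Agent.Lib.helper58

open Cfsg Cfsg.Agent.Lib.helper20 Cfsg.Agent.Lib.helper81 Cfsg.Agent.Lib.helper78
open scoped ComplexConjugate ComplexOrder

universe u

/-- A combination of irreducible characters with common sign on the central involution `t`,
vanishing on the `2`-regular elements and at `x`, with all members constant on the section of
`x`, is trivial. -/
theorem sections_ker_aux {G : Type u} [Group G] [Fintype G] [DecidableEq G] (t x : G)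
    (hXrep : ∀ g : G, (∃ k : ℕ, orderOf g = 2 ^ k) → ∃ x' ∈ ({1, t, x} : Finset G), IsConj g x')
    (T : Finset (IrrCharacter G))
    (hsecx : ∀ χ ∈ T, ∀ y : G, y * x = x * y → ¬ 2 ∣ orderOf y →
      (χ : G → ℂ) (x * y) = (χ : G → ℂ) x)
    (σ : ℂ) (hσ : ∀ χ ∈ T, ∀ u : G, (χ : G → ℂ) (t * u) = σ * (χ : G → ℂ) u)
    (c : T → ℂ)
    (h1 : ∀ g : G, ¬ 2 ∣ orderOf g → ∑ i : T, c i * ((i : IrrCharacter G) : G → ℂ) g = 0)
    (hx : ∑ i : T, c i * ((i : IrrCharacter G) : G → ℂ) x = 0) : c = 0 := by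
  classical
  obtain ⟨h, hh⟩ : ∃ h : G → ℂ, h = ∑ i : T, c i • ((i : IrrCharacter G) : G → ℂ) := ⟨_, rfl⟩
  have hhapp : ∀ g, h g = ∑ i : T, c i * ((i : IrrCharacter G) : G → ℂ) g := by
    intro g
    rw [hh, Finset.sum_apply]
    rfl
  have hhcf : IsClassFunction G h := by
    intro g k
    rw [hhapp, hhapp]
    exact Finset.sum_congr rfl (fun i _ => by rw [irr_classFun (i : IrrCharacter G) g k])
  have hzero : h = 0 := by
    apply classFun_eq_zero_of_sections Nat.prime_two ({1, t, x} : Finset G) hXrep h hhcf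
    intro x' hx' y hyx hy
    rw [Finset.mem_insert, Finset.mem_insert, Finset.mem_singleton] at hx'
    rcases hx' with hx1 | hx1 | hx1
    · rw [hx1, one_mul, hhapp]
      exact h1 y hy
    · rw [hx1, hhapp]
      have : ∑ i : T, c i * ((i : IrrCharacter G) : G → ℂ) (t * y)
          = σ * ∑ i : T, c i * ((i : IrrCharacter G) : G → ℂ) y := by
        rw [Finset.mul_sum]
        exact Finset.sum_congr rfl (fun i _ => by rw [hσ i i.2]; ring)
      rw [this, h1 y hy, mul_zero]
    · rw [hx1] at hyx ⊢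
      rw [hhapp, ← hx]
      exact Finset.sum_congr rfl (fun i _ => by rw [hsecx i i.2 y hyx hy])
  have hli : LinearIndependent ℂ (fun i : T => ((i : IrrCharacter G) : G → ℂ)) :=
    Cfsg.Agent.Lib.helper80.irr_linearIndependent.comp Subtype.val Subtype.val_injective
  funext i
  exact (Fintype.linearIndependent_iff.mp hli) c (by rw [← hh]; exact hzero) i

/-- **Brauer/Olsson**: the principal 2-block of a group with quaternion Sylow 2-subgroup of order
8, trivial core and which is not a 2-group, has exactly 7 irreducible characters. -/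
theorem q8_card_principalBlock {G : Type u} [Group G] [Finite G] {M : Ideal AlgInt}
    (hM : IsPModular 2 M) (S : Sylow 2 G) (e : ↥(S : Subgroup G) ≃* QuaternionGroup 2)
    (hO : ∀ N : Subgroup G, N.Normal → Odd (Nat.card N) → N = ⊥)
    (hG : (S : Subgroup G) ≠ ⊤) : Nat.card (principalBlock M G) = 7 := by
  classical
  let _ : Fintype G := Fintype.ofFinite G
  have hF2 : Fact (Nat.Prime 2) := ⟨Nat.prime_two⟩
  have hMp : M.IsPrime := hM.2.1.isPrime
  have hnc := q8_no_complement hO hG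
  have htc := q8t_central e hO
  have ht : q8t e * q8t e = 1 := by rw [← pow_two]; exact q8t_sq e
  have hto : orderOf (q8t e) = 2 := orderOf_q8t e
  have ht1 : q8t e ≠ 1 := q8t_ne_one e
  have hconj : ∀ χ : IrrCharacter G, ∀ y ∈ (S : Subgroup G), y ^ 2 = q8t e →
      (χ : G → ℂ) y = (χ : G → ℂ) (q8x e) :=
    fun χ y hy h2 => (irr_conjInv χ _ _ (q8_isConj_of_sq e hnc hy h2)).symm
  have hdata : ∀ χ : IrrCharacter G, ∃ (d m : ℕ) (a : ℤ), (χ : G → ℂ) 1 = d ∧
      (χ : G → ℂ) (q8t e) = (d : ℂ) - 4 * m ∧ (χ : G → ℂ) (q8x e) = a ∧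
      (4 : ℤ) ∣ (d : ℤ) - 2 * m - a :=
    fun χ => q8_char_data e χ (irr_isCharacter χ) (hconj χ)
  choose d m a hd htv hx h4 using hdata
  have hmul : ∀ (χ : IrrCharacter G) (u : G), (χ : G → ℂ) (q8t e * u)
      = (χ : G → ℂ) (q8t e) / (χ : G → ℂ) 1 * (χ : G → ℂ) u :=
    fun χ u => irr_central_mul χ (q8t e) htc u
  have h10 : ∀ χ : IrrCharacter G, (χ : G → ℂ) 1 ≠ 0 := irr_one_ne_zero
  have hεcases : ∀ χ : IrrCharacter G, (χ : G → ℂ) (q8t e) = (χ : G → ℂ) 1
      ∨ (χ : G → ℂ) (q8t e) = - (χ : G → ℂ) 1 := by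
    intro χ
    have h1 := hmul χ (q8t e)
    rw [ht] at h1
    have h0 := h10 χ
    have h2 : ((χ : G → ℂ) (q8t e) - (χ : G → ℂ) 1) * ((χ : G → ℂ) (q8t e) + (χ : G → ℂ) 1)
        = 0 := by
      field_simp at h1
      linear_combination -h1
    rcases mul_eq_zero.mp h2 with h | h
    · left; linear_combination h
    · right; linear_combination h
  have hxinv : ∀ χ : IrrCharacter G, (χ : G → ℂ) (q8x e)⁻¹ = (χ : G → ℂ) (q8x e) := by
    intro χ
    obtain ⟨s, hs, hsx⟩ := q8_exists_inv e (q8x_mem e) (q8x_sq e)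
    rw [← hsx]
    exact irr_classFun χ (q8x e) s
  have hminus : ∀ χ : IrrCharacter G, (χ : G → ℂ) (q8t e) ≠ (χ : G → ℂ) 1 → a χ = 0 := by
    intro χ hne
    have hneg : (χ : G → ℂ) (q8t e) = - (χ : G → ℂ) 1 := (hεcases χ).resolve_left hne
    have h2 : (q8x e)⁻¹ = q8t e * q8x e := by
      rw [q8x_inv, ← q8x_sq, ← pow_succ]
    have h1 := hxinv χ
    rw [h2, hmul, hneg, neg_div, div_self (h10 χ), hx] at h1
    have h3 : ((a χ : ℤ) : ℂ) = 0 := by linear_combination (-1 / 2 : ℂ) * h1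
    exact_mod_cast h3
  -- the finsets
  obtain ⟨F, hF⟩ : ∃ F : Finset (IrrCharacter G),
      F = Finset.univ.filter (fun χ => χ ∈ principalBlock M G) := ⟨_, rfl⟩
  have hmemF : ∀ χ : IrrCharacter G, χ ∈ F ↔ χ ∈ principalBlock M G := by
    intro χ
    rw [hF]
    simp
  obtain ⟨Fp, hFp⟩ : ∃ Fp : Finset (IrrCharacter G),
      Fp = F.filter (fun χ : IrrCharacter G => (χ : G → ℂ) (q8t e) = (χ : G → ℂ) 1) := ⟨_, rfl⟩
  obtain ⟨Fm, hFm⟩ : ∃ Fm : Finset (IrrCharacter G),
      Fm = F.filter (fun χ : IrrCharacter G => ¬ (χ : G → ℂ) (q8t e) = (χ : G → ℂ) 1) := ⟨_, rfl⟩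
  have hmemFp : ∀ χ : IrrCharacter G, χ ∈ Fp ↔
      χ ∈ principalBlock M G ∧ (χ : G → ℂ) (q8t e) = (χ : G → ℂ) 1 := by
    intro χ
    rw [hFp, Finset.mem_filter, hmemF]
  have hmemFm : ∀ χ : IrrCharacter G, χ ∈ Fm ↔
      χ ∈ principalBlock M G ∧ (χ : G → ℂ) (q8t e) ≠ (χ : G → ℂ) 1 := by
    intro χ
    rw [hFm, Finset.mem_filter, hmemF]
  have hsplitC : ∀ f : IrrCharacter G → ℂ,
      ∑ χ ∈ F, f χ = ∑ χ ∈ Fp, f χ + ∑ χ ∈ Fm, f χ := by
    intro f
    rw [hFp, hFm, Finset.sum_filter_add_sum_filter_not]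
  have hsplitZ : ∀ f : IrrCharacter G → ℤ,
      ∑ χ ∈ F, f χ = ∑ χ ∈ Fp, f χ + ∑ χ ∈ Fm, f χ := by
    intro f
    rw [hFp, hFm, Finset.sum_filter_add_sum_filter_not]
  have hcardsplit : F.card = Fp.card + Fm.card := by
    rw [hFp, hFm, Finset.card_filter_add_card_filter_not]
  -- `a ≠ 0` on `Fp`
  have hpne : ∀ χ ∈ Fp, a χ ≠ 0 := by
    intro χ hχ h0
    have h := q8_principal_x_ne_zero hM e htc χ ((hmemFp χ).mp hχ).1 ((hmemFp χ).mp hχ).2
    rw [hx, h0] at h
    simp at h
  have hsumF : ∑ χ ∈ F, a χ ^ 2 = 4 := by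
    have hS := q8_E4 e hM
    have h1 : ∑ χ : IrrCharacter G,
        (if χ ∈ principalBlock M G then (χ : G → ℂ) (q8x e) * conj ((χ : G → ℂ) (q8x e)) else 0)
        = ((∑ χ ∈ F, a χ ^ 2 : ℤ) : ℂ) := by
      rw [hF, Finset.sum_filter]
      push_cast
      refine Finset.sum_congr rfl (fun χ _ => ?_)
      split_ifs
      · rw [hx χ, map_intCast]
        ring
      · rfl
    rw [h1] at hS
    exact_mod_cast hS
  have hsumFp : ∑ χ ∈ Fp, a χ ^ 2 = 4 := by
    rw [hsplitZ] at hsumF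
    have h0 : ∑ χ ∈ Fm, a χ ^ 2 = 0 :=
      Finset.sum_eq_zero (fun χ hχ => by rw [hminus χ ((hmemFm χ).mp hχ).2]; ring)
    rw [h0, add_zero] at hsumF
    exact hsumF
  have htrivFp : trivChar G ∈ Fp := by
    rw [hmemFp]
    refine ⟨trivChar_mem_principalBlock hMp, ?_⟩
    rw [trivChar_apply, trivChar_apply]
  have hatriv : a (trivChar G) = 1 := by
    have h := hx (trivChar G)
    rw [trivChar_apply] at h
    exact_mod_cast h.symm
  obtain ⟨hFpcard, hasq⟩ := card_eq_four_of_sum_sq Fp a hpne (trivChar G) htrivFp hatriv hsumFp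
  -- values on the section of `x`
  have hsecx : ∀ χ : IrrCharacter G, χ ∈ principalBlock M G → ∀ y : G,
      y * q8x e = q8x e * y → ¬ 2 ∣ orderOf y →
      (χ : G → ℂ) (q8x e * y) = (χ : G → ℂ) (q8x e) := by
    obtain ⟨K, hKn, hKmem, hKodd, hKi⟩ := q8_centralizer_complement e
    intro χ hχ y hyx hy
    have hyC : y ∈ Subgroup.centralizer ({q8x e} : Set G) :=
      Subgroup.mem_centralizer_singleton_iff.mpr hyx
    have hyK : (⟨y, hyC⟩ : Subgroup.centralizer ({q8x e} : Set G)) ∈ K :=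
      (hKmem _).mpr (by
        rw [Subgroup.orderOf_mk]
        exact Nat.not_even_iff_odd.mp (fun h => hy (even_iff_two_dvd.mp h)))
    have hle : K ≤ pPrimeCore 2 (Subgroup.centralizer ({q8x e} : Set G)) :=
      le_sSup ⟨hKn, Nat.coprime_two_right.mpr hKodd⟩
    exact Cfsg.Agent.S0942.result 2 M hM (q8x e) ⟨2, orderOf_q8x e⟩ y
      ⟨⟨y, hyC⟩, hle hyK, rfl⟩ χ hχ
  have hXrep : ∀ g : G, (∃ k : ℕ, orderOf g = 2 ^ k) →
      ∃ x' ∈ ({1, q8t e, q8x e} : Finset G), IsConj g x' := by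
    intro g hg
    rcases q8_two_elt_rep e hnc g hg with h | h | h
    · exact ⟨1, by simp, h⟩
    · exact ⟨q8t e, by simp, h⟩
    · exact ⟨q8x e, by simp, h⟩
  -- block orthogonality
  have hBset : principalBlock M G = (F : Set (IrrCharacter G)) := by
    ext χ
    exact (hmemF χ).symm
  have horth : ∀ g h x' y' : G, IsPPart 2 g x' → IsPPart 2 h y' → ¬ IsConj x' y' →
      ∑ χ ∈ F, (χ : G → ℂ) g * (χ : G → ℂ) h⁻¹ = 0 := by
    intro g h x' y' hx' hy' hne
    have h1 := sum_block_mul_inv_eq_zero hM g h x' y' hx' hy' hne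
      (principalBlock M G) isPBlock_principalBlock
    rw [hBset, finsum_mem_coe_finset] at h1
    exact h1
  have horth1x : ∀ g : G, ¬ 2 ∣ orderOf g →
      ∑ χ ∈ Fp, ((a χ : ℤ) : ℂ) * (χ : G → ℂ) g = 0 := by
    intro g hg
    have hx1 : IsPPart 2 g 1 := ⟨g, one_mul g, Commute.one_left g, ⟨0, by simp⟩, hg⟩
    have hy1 : IsPPart 2 (q8x e) (q8x e) :=
      ⟨1, mul_one _, Commute.one_right _, ⟨2, orderOf_q8x e⟩, by simp⟩
    have hne : ¬ IsConj (1 : G) (q8x e) := by
      rw [isConj_one_right]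
      intro h
      have := orderOf_q8x e
      rw [h, orderOf_one] at this
      norm_num at this
    have h1 := horth g (q8x e) 1 (q8x e) hx1 hy1 hne
    rw [hsplitC] at h1
    have hm0 : ∑ χ ∈ Fm, (χ : G → ℂ) g * (χ : G → ℂ) (q8x e)⁻¹ = 0 :=
      Finset.sum_eq_zero (fun χ hχ => by
        rw [hxinv, hx, hminus χ ((hmemFm χ).mp hχ).2]; simp)
    rw [hm0, add_zero] at h1
    rw [← h1]
    exact Finset.sum_congr rfl (fun χ _ => by rw [hxinv, hx]; ring)
  have horth1t : ∀ g g' : G, ¬ 2 ∣ orderOf g → ¬ 2 ∣ orderOf g' →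
      ∑ χ ∈ Fp, (χ : G → ℂ) g * conj ((χ : G → ℂ) g')
        = ∑ χ ∈ Fm, (χ : G → ℂ) g * conj ((χ : G → ℂ) g') := by
    intro g g' hg hg'
    have hx1 : IsPPart 2 g 1 := ⟨g, one_mul g, Commute.one_left g, ⟨0, by simp⟩, hg⟩
    have hy1 : IsPPart 2 (q8t e * g') (q8t e) :=
      ⟨g', rfl, (htc g').symm, ⟨1, by rw [hto, pow_one]⟩, hg'⟩
    have hne : ¬ IsConj (1 : G) (q8t e) := by
      rw [isConj_one_right]
      exact ht1
    have h1 := horth g (q8t e * g') 1 (q8t e) hx1 hy1 hne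
    rw [hsplitC] at h1
    have hp : ∑ χ ∈ Fp, (χ : G → ℂ) g * (χ : G → ℂ) (q8t e * g')⁻¹
        = ∑ χ ∈ Fp, (χ : G → ℂ) g * conj ((χ : G → ℂ) g') :=
      Finset.sum_congr rfl (fun χ hχ => by
        rw [irr_inv, hmul, ((hmemFp χ).mp hχ).2, div_self (h10 χ), one_mul])
    have hm' : ∑ χ ∈ Fm, (χ : G → ℂ) g * (χ : G → ℂ) (q8t e * g')⁻¹
        = - ∑ χ ∈ Fm, (χ : G → ℂ) g * conj ((χ : G → ℂ) g') := by
      rw [← Finset.sum_neg_distrib]
      exact Finset.sum_congr rfl (fun χ hχ => by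
        rw [irr_inv, hmul, (hεcases χ).resolve_left ((hmemFm χ).mp hχ).2, neg_div,
          div_self (h10 χ), neg_one_mul, map_neg]
        ring)
    rw [hp, hm'] at h1
    linear_combination h1
  -- the matrices of `2`-regular parts
  obtain ⟨Ap, hAp⟩ : ∃ Ap : Matrix G Fp ℂ, Ap = Matrix.of
      (fun (g : G) (i : Fp) => pRegularPart 2 ((i : IrrCharacter G) : G → ℂ) g) := ⟨_, rfl⟩
  obtain ⟨Am, hAm⟩ : ∃ Am : Matrix G Fm ℂ, Am = Matrix.of
      (fun (g : G) (i : Fm) => pRegularPart 2 ((i : IrrCharacter G) : G → ℂ) g) := ⟨_, rfl⟩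
  have hApreg : ∀ (g : G) (i : Fp), ¬ 2 ∣ orderOf g →
      Ap g i = ((i : IrrCharacter G) : G → ℂ) g := by
    intro g i hg
    rw [hAp, Matrix.of_apply, pRegularPart_apply_of_reg 2 _ hg]
  have hApsing : ∀ (g : G) (i : Fp), 2 ∣ orderOf g → Ap g i = 0 := by
    intro g i hg
    rw [hAp, Matrix.of_apply, pRegularPart_apply_of_sing 2 _ hg]
  have hAmreg : ∀ (g : G) (i : Fm), ¬ 2 ∣ orderOf g →
      Am g i = ((i : IrrCharacter G) : G → ℂ) g := by
    intro g i hg
    rw [hAm, Matrix.of_apply, pRegularPart_apply_of_reg 2 _ hg]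
  have hAmsing : ∀ (g : G) (i : Fm), 2 ∣ orderOf g → Am g i = 0 := by
    intro g i hg
    rw [hAm, Matrix.of_apply, pRegularPart_apply_of_sing 2 _ hg]
  have hgram : Ap * Ap.conjTranspose = Am * Am.conjTranspose := by
    ext g g'
    rw [Matrix.mul_apply, Matrix.mul_apply]
    simp only [Matrix.conjTranspose_apply]
    by_cases hg : 2 ∣ orderOf g
    · rw [Finset.sum_eq_zero (fun i _ => by rw [hApsing g i hg, zero_mul]),
        Finset.sum_eq_zero (fun i _ => by rw [hAmsing g i hg, zero_mul])]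
    · by_cases hg' : 2 ∣ orderOf g'
      · rw [Finset.sum_eq_zero (fun i _ => by rw [hApsing g' i hg', star_zero, mul_zero]),
          Finset.sum_eq_zero (fun i _ => by rw [hAmsing g' i hg', star_zero, mul_zero])]
      · have h := horth1t g g' hg hg'
        rw [← Finset.sum_coe_sort Fp, ← Finset.sum_coe_sort Fm] at h
        have e1 : ∑ i : Fp, Ap g i * star (Ap g' i)
            = ∑ i : Fp, ((i : IrrCharacter G) : G → ℂ) g
              * conj (((i : IrrCharacter G) : G → ℂ) g') :=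
          Finset.sum_congr rfl (fun i _ => by rw [hApreg g i hg, hApreg g' i hg']; rfl)
        have e2 : ∑ i : Fm, Am g i * star (Am g' i)
            = ∑ i : Fm, ((i : IrrCharacter G) : G → ℂ) g
              * conj (((i : IrrCharacter G) : G → ℂ) g') :=
          Finset.sum_congr rfl (fun i _ => by rw [hAmreg g i hg, hAmreg g' i hg']; rfl)
        rw [e1, e2]
        exact h
  have hrank : Ap.rank = Am.rank := by
    rw [← Matrix.rank_self_mul_conjTranspose Ap, hgram, Matrix.rank_self_mul_conjTranspose]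
  have hσp : ∀ χ ∈ Fp, ∀ u : G, (χ : G → ℂ) (q8t e * u) = 1 * (χ : G → ℂ) u := by
    intro χ hχ u
    rw [hmul, ((hmemFp χ).mp hχ).2, div_self (h10 χ)]
  have hσm : ∀ χ ∈ Fm, ∀ u : G, (χ : G → ℂ) (q8t e * u) = (-1) * (χ : G → ℂ) u := by
    intro χ hχ u
    rw [hmul, (hεcases χ).resolve_left ((hmemFm χ).mp hχ).2, neg_div, div_self (h10 χ)]
  -- `Am` has trivial kernel
  have hkerm : ∀ c : Fm → ℂ, Am.mulVec c = 0 → c = 0 := by
    intro c hc
    apply sections_ker_aux (q8t e) (q8x e) hXrep Fm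
      (fun χ hχ => hsecx χ ((hmemFm χ).mp hχ).1) (-1) hσm
    · intro g hg
      have h2 : ∑ i : Fm, Am g i * c i = 0 := congrFun hc g
      rw [← h2]
      exact Finset.sum_congr rfl (fun i _ => by rw [hAmreg g i hg]; ring)
    · apply Finset.sum_eq_zero
      intro i _
      rw [hx, hminus (i : IrrCharacter G) ((hmemFm _).mp i.2).2]
      simp
  -- the kernel of `Ap` is spanned by the values at `x`
  obtain ⟨av, hav⟩ : ∃ av : Fp → ℂ, av = fun i : Fp => ((a (i : IrrCharacter G) : ℤ) : ℂ) :=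
    ⟨_, rfl⟩
  have havapp : ∀ i : Fp, av i = ((a (i : IrrCharacter G) : ℤ) : ℂ) := fun i => by rw [hav]
  have hav_ker : Ap.mulVec av = 0 := by
    funext g
    show ∑ i : Fp, Ap g i * av i = 0
    by_cases hg : 2 ∣ orderOf g
    · exact Finset.sum_eq_zero (fun i _ => by rw [hApsing g i hg, zero_mul])
    · have h := horth1x g hg
      rw [← Finset.sum_coe_sort Fp] at h
      rw [← h]
      exact Finset.sum_congr rfl (fun i _ => by rw [hApreg g i hg, havapp]; ring)
  have hav2 : ∑ i : Fp, av i * av i = 4 := by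
    have h : ∑ i : Fp, av i * av i = ((∑ χ ∈ Fp, a χ ^ 2 : ℤ) : ℂ) := by
      rw [← Finset.sum_coe_sort Fp]
      push_cast
      exact Finset.sum_congr rfl (fun i _ => by rw [havapp]; ring)
    rw [h, hsumFp]
    norm_num
  have hkerp : ∀ c : Fp → ℂ, Ap.mulVec c = 0 → ∃ κ : ℂ, κ • av = c := by
    intro c hc
    obtain ⟨κ, hκ⟩ : ∃ κ : ℂ, κ = ∑ i : Fp, c i * av i := ⟨_, rfl⟩
    refine ⟨κ / 4, ?_⟩
    have hc' : (fun i : Fp => 4 * c i - κ * av i) = 0 := by
      apply sections_ker_aux (q8t e) (q8x e) hXrep Fp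
        (fun χ hχ => hsecx χ ((hmemFp χ).mp hχ).1) 1 hσp
      · intro g hg
        have e1 : ∑ i : Fp, c i * ((i : IrrCharacter G) : G → ℂ) g = 0 := by
          have h2 : ∑ i : Fp, Ap g i * c i = 0 := congrFun hc g
          rw [← h2]
          exact Finset.sum_congr rfl (fun i _ => by rw [hApreg g i hg]; ring)
        have e2 : ∑ i : Fp, av i * ((i : IrrCharacter G) : G → ℂ) g = 0 := by
          have h2 : ∑ i : Fp, Ap g i * av i = 0 := congrFun hav_ker g
          rw [← h2]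
          exact Finset.sum_congr rfl (fun i _ => by rw [hApreg g i hg]; ring)
        have e3 : ∑ i : Fp, (4 * c i - κ * av i) * ((i : IrrCharacter G) : G → ℂ) g
            = 4 * ∑ i : Fp, c i * ((i : IrrCharacter G) : G → ℂ) g
              - κ * ∑ i : Fp, av i * ((i : IrrCharacter G) : G → ℂ) g := by
          rw [Finset.mul_sum, Finset.mul_sum, ← Finset.sum_sub_distrib]
          exact Finset.sum_congr rfl (fun i _ => by ring)
        rw [e3, e1, e2]
        ring
      · have e3 : ∑ i : Fp, (4 * c i - κ * av i) * ((i : IrrCharacter G) : G → ℂ) (q8x e)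
            = 4 * ∑ i : Fp, c i * av i - κ * ∑ i : Fp, av i * av i := by
          rw [Finset.mul_sum, Finset.mul_sum, ← Finset.sum_sub_distrib]
          exact Finset.sum_congr rfl (fun i _ => by rw [hx, havapp]; ring)
        rw [e3, ← hκ, hav2]
        ring
    funext i
    have h5 := congrFun hc' i
    simp only [Pi.zero_apply] at h5
    show κ / 4 * av i = c i
    linear_combination (-1 / 4 : ℂ) * h5
  have hkerL : LinearMap.ker Ap.mulVecLin = Submodule.span ℂ {av} := by
    ext c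
    rw [LinearMap.mem_ker, Submodule.mem_span_singleton, Matrix.mulVecLin_apply]
    constructor
    · exact hkerp c
    · rintro ⟨κ, rfl⟩
      rw [Matrix.mulVec_smul, hav_ker, smul_zero]
  have hav0 : av ≠ 0 := by
    intro h
    have h1 := congrFun h ⟨_, htrivFp⟩
    rw [havapp] at h1
    simp only [hatriv] at h1
    norm_num at h1
  have hrn := LinearMap.finrank_range_add_finrank_ker Ap.mulVecLin
  rw [hkerL, finrank_span_singleton hav0, Module.finrank_fintype_fun_eq_card, Fintype.card_coe,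
    hFpcard] at hrn
  have hAprank : Ap.rank = 3 := by
    unfold Matrix.rank
    omega
  have hAmrank : Am.rank = Fm.card := by
    unfold Matrix.rank
    rw [LinearMap.finrank_range_of_inj, Module.finrank_fintype_fun_eq_card, Fintype.card_coe]
    rw [← LinearMap.ker_eq_bot, LinearMap.ker_eq_bot']
    intro c hc
    rw [Matrix.mulVecLin_apply] at hc
    exact hkerm c hc
  have hFm3 : Fm.card = 3 := by rw [← hAmrank, ← hrank, hAprank]
  have hFcard : F.card = 7 := by rw [hcardsplit, hFpcard, hFm3]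
  rw [← hFcard]
  exact Nat.subtype_card F hmemF

end Cfsg.Agent.Lib.helper58
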