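import Mathlib
import Cfsg.Prelude.Def_GeometricClasses

/-!
S5977 / S5978 block [C] (helper2 split), piece KAPPA (`qfc_kappa`): a two-dimensional field
subalgebra `K` of a matrix algebra (`2 ≠ 0`) is `F + F κ` with `κ ^ 2 = δ` a non-square.
-/

set_option autoImplicit false

namespace Cfsg.Agent.Lib.helper2

open Cfsg.Geo Matrix

theorem qfc_kappa {F : Type*} [Field F] {ι : Type} [Fintype ι] [DecidableEq ι]
    (h2 : (2 : F) ≠ 0) (K : Subalgebra F (Matrix ι ι F)) (hK : IsFieldSubalgebra 2 K) :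
    ∃ κ ∈ K, ∃ δ : F, (∀ r : F, r ^ 2 ≠ δ + 0 * r) ∧ κ * κ = δ • (1 : Matrix ι ι F) ∧
      ∀ k ∈ K, ∃ a b : F, k = a • (1 : Matrix ι ι F) + b • κ := by
  have hfin : Module.finrank F ↥K = 2 := hK.finrank_eq
  -- an element outside `F · 1`
  have hex : ∃ k : ↥K, ∀ c : F, c • (1 : ↥K) ≠ k := by
    by_contra hcon
    have h : ∀ w : ↥K, ∃ c : F, c • (1 : ↥K) = w := by
      intro w
      by_contra hw
      exact hcon ⟨w, fun c hc => hw ⟨c, hc⟩⟩
    have := finrank_le_one (1 : ↥K) h
    omega
  obtain ⟨k, hk⟩ := hex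
  have hli : LinearIndependent F ![(1 : ↥K), k] := by
    rw [LinearIndependent.pair_iff]
    intro s t hst
    have ht : t = 0 := by
      by_contra ht
      apply hk (-s / t)
      have h1 : t • k = -(s • (1 : ↥K)) := by
        rw [eq_neg_iff_add_eq_zero, add_comm]
        exact hst
      have h2' : k = t⁻¹ • (t • k) := by rw [smul_smul, inv_mul_cancel₀ ht, one_smul]
      rw [h2', h1, smul_neg, smul_smul, ← neg_smul]
      congr 1
      field_simp
    refine ⟨?_, ht⟩
    rw [ht, zero_smul, add_zero] at hst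
    by_contra hs
    apply hk 0
    have h1 : (1 : ↥K) = 0 := by
      have := congrArg (fun x => s⁻¹ • x) hst
      simpa [smul_smul, inv_mul_cancel₀ hs] using this
    rw [zero_smul]
    calc (0 : ↥K) = k * 0 := (mul_zero k).symm
      _ = k * 1 := by rw [h1]
      _ = k := mul_one k
  have hspan := hli.span_eq_top_of_card_eq_finrank (by rw [Fintype.card_fin, hfin])
  have hrep : ∀ x : ↥K, ∃ a b : F, x = a • (1 : ↥K) + b • k := by
    intro x
    have hx : x ∈ Submodule.span F (Set.range ![(1 : ↥K), k]) := by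
      rw [hspan]
      exact Submodule.mem_top
    obtain ⟨c, hc⟩ := (Submodule.mem_span_range_iff_exists_fun F).1 hx
    refine ⟨c 0, c 1, ?_⟩
    rw [← hc, Fin.sum_univ_two]
    rfl
  -- pass to matrices
  set kM : Matrix ι ι F := (k : Matrix ι ι F) with hkM
  have hkK : kM ∈ K := k.2
  have hkM' : ∀ c : F, kM ≠ c • (1 : Matrix ι ι F) := by
    intro c hc
    apply hk c
    apply Subtype.ext
    rw [Subalgebra.coe_smul, Subalgebra.coe_one]
    exact hc.symm
  have hrepM : ∀ x ∈ K, ∃ a b : F, x = a • (1 : Matrix ι ι F) + b • kM := by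
    intro x hx
    obtain ⟨a, b, hab⟩ := hrep ⟨x, hx⟩
    refine ⟨a, b, ?_⟩
    have := congrArg (Subtype.val : ↥K → Matrix ι ι F) hab
    simpa using this
  obtain ⟨t, s, hts⟩ := hrepM (kM * kM) (K.mul_mem hkK hkK)
  set c : F := s / 2 with hc
  have hcc : c + c = s := by
    rw [hc]
    field_simp
    ring
  set κ : Matrix ι ι F := kM - c • (1 : Matrix ι ι F) with hκ
  have hκK : κ ∈ K := K.sub_mem hkK (K.smul_mem K.one_mem c)
  have hkκ : kM = κ + c • (1 : Matrix ι ι F) := by rw [hκ, sub_add_cancel]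
  have hκ2 : κ * κ = (t + c * c) • (1 : Matrix ι ι F) := by
    have e1 : κ * κ = kM * kM - c • kM - c • kM + (c * c) • (1 : Matrix ι ι F) := by
      rw [hκ]
      simp only [sub_mul, mul_sub, smul_mul_assoc, mul_smul_comm, mul_one, one_mul, smul_sub,
        smul_smul]
      abel
    have e2 : s • kM = c • kM + c • kM := by rw [← add_smul, hcc]
    rw [e1, hts, e2, add_smul]
    abel
  refine ⟨κ, hκK, t + c * c, ?_, hκ2, ?_⟩
  · intro r hr
    have hr' : r * r = t + c * c := by
      rw [zero_mul, add_zero, pow_two] at hr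
      exact hr
    have hprod : (κ - r • (1 : Matrix ι ι F)) * (κ + r • (1 : Matrix ι ι F)) = 0 := by
      have e1 : (κ - r • (1 : Matrix ι ι F)) * (κ + r • (1 : Matrix ι ι F)) =
          κ * κ - (r * r) • (1 : Matrix ι ι F) := by
        simp only [sub_mul, mul_add, smul_mul_assoc, mul_smul_comm, mul_one, one_mul, smul_smul,
          smul_sub]
        abel
      rw [e1, hκ2, hr', sub_self]
    have hxK : κ - r • (1 : Matrix ι ι F) ∈ K := K.sub_mem hκK (K.smul_mem K.one_mem r)
    by_cases hx0 : κ - r • (1 : Matrix ι ι F) = 0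
    · apply hkM' (r + c)
      rw [hkκ, sub_eq_zero.1 hx0, add_smul]
    · obtain ⟨y, hyK, hxy⟩ := hK.inv _ hxK hx0
      have hyx : y * (κ - r • (1 : Matrix ι ι F)) = 1 := by
        rw [← hK.comm _ hxK y hyK]
        exact hxy
      have h0 : κ + r • (1 : Matrix ι ι F) = 0 := by
        calc κ + r • (1 : Matrix ι ι F) = (y * (κ - r • (1 : Matrix ι ι F))) *
              (κ + r • (1 : Matrix ι ι F)) := by rw [hyx, one_mul]
          _ = 0 := by rw [mul_assoc, hprod, mul_zero]
      apply hkM' (c - r)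
      rw [hkκ, eq_neg_of_add_eq_zero_left h0, sub_smul]
      abel
  · intro x hx
    obtain ⟨a, b, hab⟩ := hrepM x hx
    refine ⟨a + b * c, b, ?_⟩
    rw [hab, hkκ, smul_add, smul_smul, add_smul]
    abel

end Cfsg.Agent.Lib.helper2
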