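import Mathlib
import Cfsg.Agent.Lib.helper37.S3390Defs

/-! S3390 split (helper37), piece FA (`stab_le`). -/

set_option autoImplicit false
open Cfsg

namespace Cfsg.Agent.Lib.helper58.S3390FA

open Cfsg.Agent.Lib.helper37.S3390

variable {G : Type*} [Group G] [Finite G] {Ω : Type*} [MulAction G Ω]

/-- PIECE FA: 2-elements with a fixed point are conjugate into `T`; `G_α ≤ N`; `n • α ∉ N α`. -/
theorem stab_le (S : Sylow 2 G) (α : Ω) (n : G) (c : Cfg G Ω (S : Subgroup G) α n)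
    (N : Subgroup G) (hN : N.Normal) (hNi : N.index = 2)
    (hNS : N ⊓ (S : Subgroup G) = (S : Subgroup G) ⊓ MulAction.stabilizer G α) :
    (∀ g : G, g ≠ 1 → (∃ k : ℕ, g ^ 2 ^ k = 1) → (∃ ω : Ω, g • ω = ω) →
        ∃ h : G, h * g * h⁻¹ ∈ (S : Subgroup G) ⊓ MulAction.stabilizer G α) ∧
      MulAction.stabilizer G α ≤ N ∧ (∀ m ∈ N, m • α ≠ n • α) := by
  have hconj : ∀ g : G, g ≠ 1 → (∃ k : ℕ, g ^ 2 ^ k = 1) → (∃ ω : Ω, g • ω = ω) →
        ∃ h : G, h * g * h⁻¹ ∈ (S : Subgroup G) ⊓ MulAction.stabilizer G α := by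
    intro g hg1 ⟨k, hk⟩ ⟨ω, hω⟩
    have hp : IsPGroup 2 (Subgroup.zpowers g) := by
      intro ⟨x, hx⟩
      obtain ⟨i, rfl⟩ := Subgroup.mem_zpowers_iff.mp hx
      refine ⟨k, ?_⟩
      apply Subtype.ext
      simp only [Subgroup.coe_pow, Subgroup.coe_one]
      rw [← zpow_natCast, ← zpow_mul, mul_comm, zpow_mul, zpow_natCast, hk, one_zpow]
    obtain ⟨Q, hQ⟩ := hp.exists_le_sylow
    obtain ⟨h₀, hh₀⟩ := MulAction.exists_smul_eq G Q S
    have hgS : h₀ * g * h₀⁻¹ ∈ (S : Subgroup G) := by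
      rw [← hh₀, Sylow.coe_subgroup_smul]
      refine (Subgroup.mem_smul_pointwise_iff_exists _ _ _).mpr ⟨g, hQ (Subgroup.mem_zpowers g), ?_⟩
      simp [MulAut.smul_def]
    have hfix : (h₀ * g * h₀⁻¹) • (h₀ • ω) = h₀ • ω := by
      simp [mul_smul, hω]
    have hne : h₀ * g * h₀⁻¹ ≠ 1 := by
      intro h
      apply hg1
      have h2 : g = h₀⁻¹ * (h₀ * g * h₀⁻¹) * h₀ := by group
      rw [h2, h]; group
    have hcases : h₀ • ω = α ∨ h₀ • ω = n • α := by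
      by_contra hcon
      rw [not_or] at hcon
      have hbot := c.hreg (h₀ • ω) hcon.1 hcon.2
      have hmem : h₀ * g * h₀⁻¹ ∈ (S : Subgroup G) ⊓ MulAction.stabilizer G (h₀ • ω) :=
        ⟨hgS, hfix⟩
      rw [hbot] at hmem
      exact hne (Subgroup.mem_bot.mp hmem)
    rcases hcases with h | h
    · refine ⟨h₀, Subgroup.mem_inf.mpr ⟨hgS, ?_⟩⟩
      rw [MulAction.mem_stabilizer_iff, ← h]
      exact hfix
    · have hrw : n⁻¹ * h₀ * g * (n⁻¹ * h₀)⁻¹ = n⁻¹ * (h₀ * g * h₀⁻¹) * n := by group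
      refine ⟨n⁻¹ * h₀, Subgroup.mem_inf.mpr ⟨?_, ?_⟩⟩
      · rw [hrw]
        exact mul_mem (mul_mem (inv_mem c.hnS) hgS) c.hnS
      · rw [MulAction.mem_stabilizer_iff, hrw, mul_smul, mul_smul, ← h, hfix, h, inv_smul_smul]
  have hstab : MulAction.stabilizer G α ≤ N := by
    intro g hg
    obtain ⟨a, b, hb, hab⟩ := Nat.exists_eq_two_pow_mul_odd (orderOf_pos g).ne'
    have hgb : g ^ b ∈ N := by
      by_cases h1 : g ^ b = 1
      · rw [h1]; exact one_mem _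
      · have hk : ∃ k : ℕ, (g ^ b) ^ 2 ^ k = 1 :=
          ⟨a, by rw [← pow_mul, mul_comm, ← hab, pow_orderOf_eq_one]⟩
        have hω : ∃ ω : Ω, (g ^ b) • ω = ω :=
          ⟨α, MulAction.mem_stabilizer_iff.mp (pow_mem hg b)⟩
        obtain ⟨h, hh⟩ := hconj (g ^ b) h1 hk hω
        have hhN : h * g ^ b * h⁻¹ ∈ N := by
          have h2 : h * g ^ b * h⁻¹ ∈ N ⊓ (S : Subgroup G) := by rw [hNS]; exact hh
          exact h2.1
        have h3 := hN.conj_mem _ hhN h⁻¹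
        have h4 : h⁻¹ * (h * g ^ b * h⁻¹) * h⁻¹⁻¹ = g ^ b := by group
        rw [h4] at h3
        exact h3
    have hg2 : g ^ 2 ∈ N := Subgroup.sq_mem_of_index_two hNi g
    obtain ⟨c', hc'⟩ := hb
    have h5 : g ^ b * ((g ^ 2) ^ c')⁻¹ = g := by
      rw [hc', ← pow_mul, pow_succ', mul_assoc, mul_inv_cancel, mul_one]
    rw [← h5]
    exact mul_mem hgb (inv_mem (pow_mem hg2 c'))
  refine ⟨hconj, hstab, ?_⟩
  intro m hm hmn
  apply c.hnα
  have h1 : n⁻¹ * m ∈ MulAction.stabilizer G α := by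
    rw [MulAction.mem_stabilizer_iff, mul_smul, hmn, inv_smul_smul]
  have h2 : n⁻¹ * m ∈ N := hstab h1
  have h3 : n ∈ N := by
    have h6 := mul_mem hm (inv_mem h2)
    have h7 : m * (n⁻¹ * m)⁻¹ = n := by group
    rw [h7] at h6
    exact h6
  have h4 : n ∈ N ⊓ (S : Subgroup G) := ⟨h3, c.hnS⟩
  rw [hNS] at h4
  exact h4.2

end Cfsg.Agent.Lib.helper58.S3390FA
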