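import Mathlib
import Cfsg.Agent.Lib.helper92.S3664Defs

/-!
S3664 piece NO3 (architect helper92): `G = Sz(8) : 3` has no elements of order 21 or 39.
-/

set_option autoImplicit false

namespace Cfsg.Agent.Lib.helper58.S3664

open Cfsg.Agent.Lib.helper92.S3664 Cfsg.Agent.Lib.helper17 Cfsg.Agent.Lib.helper8

theorem helper58_pow_three_C3 : ∀ x : Multiplicative (ZMod 3), x ^ 3 = 1 := by decide

theorem helper58_no_three_aux (s : ℕ) (hs : s = 7 ∨ s = 13)
    (hS : ∀ n : S, orderOf n = 1 ∨ orderOf n = 2 ∨ orderOf n = 4 ∨ orderOf n = 5 ∨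
      orderOf n = 7 ∨ orderOf n = 13)
    (hs' : ∀ u : S, orderOf u = s → (trS u ≠ 0 ∧ trS u ≠ 1))
    (hcomm : ∀ (g : G) (u : S), g.right ≠ 1 →
      g * SemidirectProduct.inl u = SemidirectProduct.inl u * g → (trS u = 0 ∨ trS u = 1))
    (g : G) : orderOf g ≠ 3 * s := by
  intro hg
  have hr : (g ^ 3).right = 1 := by
    have h1 : (g ^ 3).right = (SemidirectProduct.rightHom (φ := psi) g) ^ 3 := by
      rw [← map_pow]; rfl
    rw [h1]
    exact helper58_pow_three_C3 _
  have hgu : g ^ 3 = SemidirectProduct.inl (g ^ 3).left := by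
    refine SemidirectProduct.ext ?_ ?_
    · simp
    · simp [hr]
  have ho3 : orderOf (g ^ 3) = s := by
    rw [orderOf_pow' g (by norm_num : (3 : ℕ) ≠ 0), hg]
    rcases hs with rfl | rfl <;> norm_num
  have hou : orderOf (g ^ 3).left = s := by
    rw [← ho3]
    conv_rhs => rw [hgu]
    exact (orderOf_injective (SemidirectProduct.inl (φ := psi))
      SemidirectProduct.inl_injective _).symm
  by_cases hq : g.right = 1
  · have hgl : g = SemidirectProduct.inl g.left := by
      refine SemidirectProduct.ext ?_ ?_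
      · simp
      · simp [hq]
    have h3 : orderOf g.left = 3 * s := by
      rw [← hg]
      conv_rhs => rw [hgl]
      exact (orderOf_injective (SemidirectProduct.inl (φ := psi))
        SemidirectProduct.inl_injective _).symm
    rcases hS g.left with h | h | h | h | h | h <;> rcases hs with rfl | rfl <;> omega
  · have hc : g * SemidirectProduct.inl (g ^ 3).left = SemidirectProduct.inl (g ^ 3).left * g := by
      rw [← hgu, ← pow_succ', ← pow_succ]
    have h1 := hcomm g (g ^ 3).left hq hc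
    have h2 := hs' (g ^ 3).left hou
    rcases h1 with h1 | h1
    · exact h2.1 h1
    · exact h2.2 h1

/-- PIECE NO3: no elements of order 21, 39 in `G`. -/
theorem no_three_orders
    (hS : ∀ n : S, orderOf n = 1 ∨ orderOf n = 2 ∨ orderOf n = 4 ∨ orderOf n = 5 ∨
      orderOf n = 7 ∨ orderOf n = 13)
    (h7 : ∀ u : S, orderOf u = 7 → (trS u ≠ 0 ∧ trS u ≠ 1))
    (h13 : ∀ u : S, orderOf u = 13 → (trS u ≠ 0 ∧ trS u ≠ 1))
    (hcomm : ∀ (g : G) (u : S), g.right ≠ 1 →
      g * SemidirectProduct.inl u = SemidirectProduct.inl u * g → (trS u = 0 ∨ trS u = 1))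
    (g : G) : orderOf g ≠ 21 ∧ orderOf g ≠ 39 := by
  exact ⟨helper58_no_three_aux 7 (Or.inl rfl) hS h7 hcomm g,
    helper58_no_three_aux 13 (Or.inr rfl) hS h13 hcomm g⟩

end Cfsg.Agent.Lib.helper58.S3664
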