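import Mathlib
import Cfsg.Agent.Lib.helper89.S60Defs
import Cfsg.Agent.Lib.helper7.S6eFrCore

/-!
helper58: S6000 piece AGEN (`s60_frame_gen`): the 64 matrices `w^e t0^a0 t1^a1 t2^a2 t3^a3` (`e < 4`) are
pairwise distinct elements of `R`, so they exhaust `R`.  (Adapted from helper7's `s6_frame_gen`.)
-/

set_option autoImplicit false

namespace Cfsg.Agent.Lib.helper89.S60

open Matrix Cfsg Cfsg.Geo
open Cfsg.Agent.Lib.helper24

/-- the word as an element of `GL` -/
def h58s60P {F : Type*} [Field F] (t : Fin 4 → GL (Fin 4) F) (a : Fin 4 → Bool) : GL (Fin 4) F :=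
  (if a 0 then t 0 else 1) * (if a 1 then t 1 else 1) * (if a 2 then t 2 else 1) *
    (if a 3 then t 3 else 1)

theorem h58s60P_val {F : Type*} [Field F] (t : Fin 4 → GL (Fin 4) F) (a : Fin 4 → Bool) :
    ((h58s60P t a : GL (Fin 4) F) : Matrix (Fin 4) (Fin 4) F)
      = h7s6M (fun i => (t i : Matrix (Fin 4) (Fin 4) F)) a := by
  unfold h58s60P h7s6M
  generalize a 0 = b0
  generalize a 1 = b1
  generalize a 2 = b2
  generalize a 3 = b3
  cases b0 <;> cases b1 <;> cases b2 <;> cases b3 <;> simp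

theorem h58s60P_mem {F : Type*} [Field F] (R : Subgroup (GL (Fin 4) F)) (t : Fin 4 → GL (Fin 4) F)
    (ht : ∀ i, t i ∈ R) (a : Fin 4 → Bool) : h58s60P t a ∈ R := by
  have hf : ∀ (i : Fin 4) (b : Bool), (if b then t i else 1) ∈ R := by
    intro i b
    cases b
    · simpa using R.one_mem
    · simpa using ht i
  exact mul_mem (mul_mem (mul_mem (hf 0 (a 0)) (hf 1 (a 1))) (hf 2 (a 2))) (hf 3 (a 3))

/-- the word with its scalar, as an element of `GL` -/
def h58s60Q {F : Type*} [Field F] (z : GL (Fin 4) F) (t : Fin 4 → GL (Fin 4) F)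
    (p : (Fin 4 → Bool) × Fin 4) : GL (Fin 4) F :=
  z ^ (p.2 : ℕ) * h58s60P t p.1

theorem h58s60Q_val {F : Type*} [Field F] (w : F) (z : GL (Fin 4) F)
    (hz : (z : Matrix (Fin 4) (Fin 4) F) = w • (1 : Matrix (Fin 4) (Fin 4) F))
    (t : Fin 4 → GL (Fin 4) F) (p : (Fin 4 → Bool) × Fin 4) :
    ((h58s60Q z t p : GL (Fin 4) F) : Matrix (Fin 4) (Fin 4) F)
      = (w ^ (p.2 : ℕ)) • h7s6M (fun i => (t i : Matrix (Fin 4) (Fin 4) F)) p.1 := by
  unfold h58s60Q
  rw [Units.val_mul, h58s60P_val, Units.val_pow_eq_pow_val, hz, smul_pow, one_pow, smul_mul_assoc,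
    one_mul]

theorem h58s60Q_mem {F : Type*} [Field F] (R : Subgroup (GL (Fin 4) F)) (z : GL (Fin 4) F)
    (hzR : z ∈ R) (t : Fin 4 → GL (Fin 4) F) (ht : ∀ i, t i ∈ R) (p : (Fin 4 → Bool) × Fin 4) :
    h58s60Q z t p ∈ R :=
  mul_mem (pow_mem hzR _) (h58s60P_mem R t ht p.1)

theorem h58s60_neg_eq_self {F : Type*} [Field F] (h2 : (2 : F) ≠ 0) (Y : Matrix (Fin 4) (Fin 4) F)
    (h : -Y = Y) : Y = 0 := by
  ext i k
  have h1 := congrFun (congrFun h i) k
  simp only [Matrix.neg_apply] at h1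
  have h3 : (2 : F) * Y i k = 0 := by linear_combination (-1 : F) * h1
  simpa using (mul_eq_zero.1 h3).resolve_left h2

theorem h58s60_pow_one {F : Type*} [Field F] (h2 : (2 : F) ≠ 0) (w : F) (hw : w * w = -1) (d : ℕ)
    (hd : d < 4) (h : w ^ d = 1) : d = 0 := by
  have h11 : (1 : F) ≠ -1 := by
    intro h
    apply h2
    linear_combination h
  interval_cases d
  · rfl
  · exfalso
    rw [pow_one] at h
    rw [h] at hw
    exact h11 (by linear_combination hw)
  · exfalso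
    apply h11
    rw [pow_two, hw] at h
    exact h.symm
  · exfalso
    have h3 : w = -1 := by linear_combination (-1 : F) * h + w * hw
    rw [h3] at hw
    exact h11 (by linear_combination hw)

theorem h58s60_pow_inj {F : Type*} [Field F] (h2 : (2 : F) ≠ 0) (w : F) (hw : w * w = -1)
    (e e' : ℕ) (he : e < 4) (he' : e' < 4) (h : w ^ e = w ^ e') : e = e' := by
  have hw0 : w ≠ 0 := by
    rintro rfl
    simp at hw
  wlog hle : e ≤ e' generalizing e e'
  · exact (this e' e he' he h.symm (by omega)).symm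
  have h1 : w ^ e * w ^ (e' - e) = w ^ e * 1 := by
    rw [← pow_add, mul_one, h]
    congr 1
    omega
  have h3 := mul_left_cancel₀ (pow_ne_zero e hw0) h1
  have h4 := h58s60_pow_one h2 w hw (e' - e) (by omega) h3
  omega

theorem h58s60_inj {F : Type*} [Field F] (h2 : (2 : F) ≠ 0) (w : F) (hw : w * w = -1)
    (T : Fin 4 → Matrix (Fin 4) (Fin 4) F) (hT2 : ∀ i, T i * T i = 1)
    (hta : ∀ i j, i ≠ j → T i * T j = -(T j * T i)) (a a' : Fin 4 → Bool) (e e' : Fin 4)
    (h : (w ^ (e : ℕ)) • h7s6M T a = (w ^ (e' : ℕ)) • h7s6M T a') :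
    a = a' ∧ e = e' := by
  have hw0 : w ≠ 0 := by
    rintro rfl
    simp at hw
  have hM0 : ∀ b : Fin 4 → Bool, h7s6M T b ≠ 0 := fun b => (h7s6_isUnit_M T hT2 b).ne_zero
  have hX0 : ∀ (b : Fin 4 → Bool) (d : ℕ), (w ^ d) • h7s6M T b ≠ 0 := by
    intro b d hz
    rcases smul_eq_zero.1 hz with h | h
    · exact pow_ne_zero d hw0 h
    · exact hM0 b h
  have hcomm : ∀ (b : Fin 4 → Bool) (d : ℕ) (j : Fin 4),
      ((w ^ d) • h7s6M T b) * T j
        = (if h7s6par j b then (-1 : Matrix (Fin 4) (Fin 4) F) else 1)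
          * (T j * ((w ^ d) • h7s6M T b)) := by
    intro b d j
    rw [smul_mul_assoc, h7s6_M_signcomm T hta b j, mul_smul_comm, mul_smul_comm]
  have hpar : ∀ j, h7s6par j a = h7s6par j a' := by
    intro j
    by_contra hne
    have e1 := hcomm a e j
    have e2 := hcomm a' e' j
    rw [← h] at e2
    rw [e1] at e2
    set Y := T j * ((w ^ (e : ℕ)) • h7s6M T a) with hY
    have hY0 : Y = 0 := by
      cases hpa : h7s6par j a <;> cases hpa' : h7s6par j a' <;> rw [hpa, hpa'] at e2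
      · exact absurd (hpa.trans hpa'.symm) hne
      · simp at e2
        exact h58s60_neg_eq_self h2 Y e2.symm
      · simp at e2
        exact h58s60_neg_eq_self h2 Y e2
      · exact absurd (hpa.trans hpa'.symm) hne
    have hX : (w ^ (e : ℕ)) • h7s6M T a = 0 := by
      have e3 : T j * Y = (w ^ (e : ℕ)) • h7s6M T a := by
        rw [hY, ← mul_assoc, hT2 j, one_mul]
      rw [← e3, hY0, mul_zero]
    exact hX0 a e hX
  have haa : a = a' := h7s6_par_inj a a' hpar
  subst haa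
  refine ⟨rfl, ?_⟩
  obtain ⟨u, hu⟩ := h7s6_isUnit_M T hT2 a
  have h5 : (w ^ (e : ℕ)) • (1 : Matrix (Fin 4) (Fin 4) F)
      = (w ^ (e' : ℕ)) • (1 : Matrix (Fin 4) (Fin 4) F) := by
    have h6 := congrArg (fun X => X * (↑u⁻¹ : Matrix (Fin 4) (Fin 4) F)) h
    simp only [smul_mul_assoc, ← hu, Units.mul_inv] at h6
    exact h6
  have h7 := congrFun (congrFun h5 0) 0
  simp only [Matrix.smul_apply, Matrix.one_apply_eq, smul_eq_mul, mul_one] at h7
  exact Fin.ext (h58s60_pow_inj h2 w hw _ _ e.isLt e'.isLt h7)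

/-- AGEN (L). -/
theorem s60_frame_gen {F : Type*} [Field F] [Fintype F] (h2 : (2 : F) ≠ 0) (R : Subgroup (GL (Fin 4) F)) (w : F) (hw : w * w = -1) (hwR : ∃ z ∈ R, (z : Matrix (Fin 4) (Fin 4) F) = w • (1 : Matrix (Fin 4) (Fin 4) F))
    (hcard : Nat.card R = 64) (t : Fin 4 → GL (Fin 4) F) (ht : ∀ j, t j ∈ R)
    (ht2 : ∀ j, (t j : Matrix (Fin 4) (Fin 4) F) * (t j : Matrix (Fin 4) (Fin 4) F) = 1)
    (hta : ∀ j k, j ≠ k → (t j : Matrix (Fin 4) (Fin 4) F) * (t k : Matrix (Fin 4) (Fin 4) F) = -((t k : Matrix (Fin 4) (Fin 4) F) * (t j : Matrix (Fin 4) (Fin 4) F))) :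
    Frame R w t := by
  classical
  obtain ⟨z, hzR, hz⟩ := hwR
  refine ⟨ht, ht2, hta, ?_⟩
  let Φ : (Fin 4 → Bool) × Fin 4 → ↥R := fun p => ⟨h58s60Q z t p, h58s60Q_mem R z hzR t ht p⟩
  have hinj : Function.Injective Φ := by
    intro p p' h
    have h0 : h58s60Q z t p = h58s60Q z t p' := congrArg Subtype.val h
    have h1 := congrArg (fun s : GL (Fin 4) F => (s : Matrix (Fin 4) (Fin 4) F)) h0
    simp only [h58s60Q_val w z hz] at h1
    obtain ⟨ha, he⟩ := h58s60_inj h2 w hw (fun i => (t i : Matrix (Fin 4) (Fin 4) F)) ht2 hta _ _ _ _ h1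
    exact Prod.ext ha he
  haveI : Finite ↥R := inferInstance
  have hcard' : Nat.card ((Fin 4 → Bool) × Fin 4) = Nat.card ↥R := by
    rw [hcard, Nat.card_eq_fintype_card]
    simp
  have hbij : Function.Bijective Φ := (Nat.bijective_iff_injective_and_card Φ).2 ⟨hinj, hcard'⟩
  intro s hs
  obtain ⟨⟨a, e⟩, hp⟩ := hbij.2 ⟨s, hs⟩
  refine ⟨a, (e : ℕ), ?_⟩
  have h3 := h58s60Q_val w z hz t (a, e)
  have h4 : h58s60Q z t (a, e) = s := congrArg Subtype.val hp
  rw [h4] at h3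
  exact h3

end Cfsg.Agent.Lib.helper89.S60
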