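import Mathlib
import Cfsg.Agent.Lib.helper58.SU3Sylow

/-!
# The norm form of `F_{q^2}` over `F_q` in characteristic 2 is elliptic

`quadric_subgroup`: if `|F| = q^2` (char 2), `C` is an additive subgroup of `F` with at least `q`
elements and the norms `a^(q+1)`, `a ∈ C`, all lie in an additive subgroup `Z0`, then `Z0`
contains the whole fixed field `{b | b^q = b}`.  (A totally singular subspace of an elliptic
quadric in dimension `2n` has dimension `< n`.)
-/

set_option autoImplicit false

namespace Cfsg.Agent.Lib.helper58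

open Cfsg.Agent.Lib.helper7

section Sign

/-- The sign `(-1)^t`, `t ∈ ZMod 2`. -/
def sgn2 (t : ZMod 2) : ℤ := if t = 0 then 1 else -1

theorem sgn2_zero : sgn2 0 = 1 := by simp [sgn2]

theorem sgn2_add (s t : ZMod 2) : sgn2 (s + t) = sgn2 s * sgn2 t := by
  revert s t
  decide

theorem sum_sgn2_hom {A : Type*} [AddCommGroup A] [Fintype A] (ψ : A →+ ZMod 2) :
    ∑ a : A, sgn2 (ψ a) = if ψ = 0 then (Fintype.card A : ℤ) else 0 := by
  split_ifs with h
  · rw [h]
    simp [sgn2_zero]
  · obtain ⟨a0, ha0⟩ : ∃ a0, ψ a0 ≠ 0 := by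
      by_contra hcon
      push Not at hcon
      exact h (AddMonoidHom.ext hcon)
    have h1 : sgn2 (ψ a0) = -1 := by simp [sgn2, ha0]
    have h2 : ∑ a : A, sgn2 (ψ a) = ∑ a : A, sgn2 (ψ (a + a0)) :=
      (Equiv.sum_comp (Equiv.addRight a0) (fun a => sgn2 (ψ a))).symm
    simp_rw [map_add, sgn2_add, h1] at h2
    rw [← Finset.sum_mul] at h2
    linarith

end Sign

section Quadric

variable {F : Type*} [Field F] [Fintype F] {q : ℕ}

/-- The polarisation `c ↦ a^q c + a c^q` of the norm. -/
def polarHom (hF : Fintype.card F = q ^ 2) (a : F) : F →+ F where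
  toFun c := a ^ q * c + a * c ^ q
  map_zero' := by
    have := two_le_of_card_sq hF
    simp [zero_pow (by omega : q ≠ 0)]
  map_add' x y := by rw [frob_add_all hF]; ring

theorem polarHom_apply (hF : Fintype.card F = q ^ 2) (a c : F) :
    polarHom hF a c = a ^ q * c + a * c ^ q := rfl

theorem polarHom_comm (hF : Fintype.card F = q ^ 2) (a c : F) :
    polarHom hF a c = polarHom hF c a := by
  rw [polarHom_apply, polarHom_apply]; ring

theorem norm_add (hF : Fintype.card F = q ^ 2) (a c : F) :
    (a + c) * (a + c) ^ q = a * a ^ q + (c * c ^ q + polarHom hF a c) := by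
  rw [frob_add_all hF, polarHom_apply]; ring

theorem quadric_subgroup (hF : Fintype.card F = q ^ 2) (h2 : (2 : F) = 0)
    (C Z0 : AddSubgroup F) (hC : q ≤ Nat.card C) (hN : ∀ a ∈ C, a * a ^ q ∈ Z0)
    (b : F) (hb : b ^ q = b) : b ∈ Z0 := by
  classical
  by_contra hbZ
  have hq := two_le_of_card_sq hF
  let : Module (ZMod 2) F := AddCommGroup.zmodModule (n := 2)
    (fun g => by rw [two_nsmul, ← two_mul, h2, zero_mul])
  obtain ⟨χ', hχb, hχZ⟩ := Submodule.exists_le_ker_of_notMem
    (p := AddSubgroup.toZModSubmodule 2 Z0) (v := b) (by simpa using hbZ)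
  let χ : F →+ ZMod 2 := χ'.toAddMonoidHom
  have hχ0 : ∀ z ∈ Z0, χ z = 0 := fun z hz => hχZ (by simpa using hz)
  have hχb' : χ b ≠ 0 := hχb
  let e : F → ℤ := fun a => sgn2 (χ a)
  have he_add : ∀ x y, e (x + y) = e x * e y := fun x y => by
    show sgn2 (χ (x + y)) = _
    rw [map_add, sgn2_add]
  have he0 : e 0 = 1 := by
    show sgn2 (χ 0) = 1
    rw [map_zero, sgn2_zero]
  let f : F → ℤ := fun a => e (a * a ^ q)
  let Kf : Finset F := Finset.univ.filter (fun k : F => k ^ q = k)
  have hKsum : ∑ k ∈ Kf, e k = 0 := by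
    have h1 : ∑ k ∈ Kf, e k = ∑ k ∈ Kf, e (k + b) := by
      symm
      apply Finset.sum_equiv (Equiv.addRight b)
      · intro k
        simp only [Kf, Finset.mem_filter, Finset.mem_univ, true_and, Equiv.coe_addRight]
        constructor
        · intro hk; rw [frob_add_all hF, hk, hb]
        · intro hk
          rw [frob_add_all hF, hb] at hk
          exact add_right_cancel hk
      · intro k _; rfl
    have h3 : e b = -1 := by
      show sgn2 (χ b) = -1
      simp [sgn2, hχb']
    simp_rw [he_add, h3] at h1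
    rw [← Finset.sum_mul] at h1
    linarith
  have hS : ∑ a : F, f a = -(q : ℤ) := by
    have h1 : ∑ a : F, f a = ∑ k ∈ (Finset.univ : Finset F).image (fun a => a * a ^ q),
        (Finset.univ.filter (fun a : F => a * a ^ q = k)).card • e k :=
      Finset.sum_comp e (fun a => a * a ^ q)
    have h2' : ∑ k ∈ (Finset.univ : Finset F).image (fun a => a * a ^ q),
        (Finset.univ.filter (fun a : F => a * a ^ q = k)).card • e k
        = ∑ k ∈ Kf, (Finset.univ.filter (fun a : F => a * a ^ q = k)).card • e k := by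
      apply Finset.sum_subset
      · intro k hk
        obtain ⟨a, -, rfl⟩ := Finset.mem_image.mp hk
        simp [Kf, frob_norm hF]
      · intro k _ hk
        have : (Finset.univ.filter (fun a : F => a * a ^ q = k)) = ∅ := by
          apply Finset.eq_empty_of_forall_notMem
          intro a ha
          apply hk
          rw [Finset.mem_filter] at ha
          exact Finset.mem_image.mpr ⟨a, Finset.mem_univ _, ha.2⟩
        rw [this, Finset.card_empty, zero_smul]
    have h0 : (0 : F) ∈ Kf := by simp [Kf, zero_pow (by omega : q ≠ 0)]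
    rw [h1, h2', ← Finset.add_sum_erase _ _ h0]
    have hf0 : (Finset.univ.filter (fun a : F => a * a ^ q = 0)).card = 1 := by
      rw [Finset.card_eq_one]
      refine ⟨0, ?_⟩
      ext a
      simp [norm_eq_zero_iff hF]
    have hrest : ∑ k ∈ Kf.erase 0, (Finset.univ.filter (fun a : F => a * a ^ q = k)).card • e k
        = ∑ k ∈ Kf.erase 0, ((q : ℤ) + 1) * e k := by
      apply Finset.sum_congr rfl
      intro k hk
      rw [Finset.mem_erase] at hk
      have hkK : k ^ q = k := by simpa [Kf] using hk.2
      rw [card_norm_fiber hF k hk.1 hkK]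
      simp
    rw [hrest, ← Finset.mul_sum, hf0]
    have h5 : ∑ k ∈ Kf.erase 0, e k = -1 := by
      have := Finset.add_sum_erase Kf e h0
      rw [hKsum] at this
      linarith
    rw [h5, he0]
    simp
  let ψ : F → (C →+ ZMod 2) := fun a => (χ.comp (polarHom hF a)).comp C.subtype
  have hf_add : ∀ (a : F) (c : C), f (a + c) = f a * sgn2 (ψ a c) := by
    intro a c
    have hc : e ((c : F) * (c : F) ^ q) = 1 := by
      show sgn2 (χ _) = 1
      rw [hχ0 _ (hN c c.2)]; rfl
    show e ((a + c) * (a + c) ^ q) = e (a * a ^ q) * sgn2 (χ (polarHom hF a c))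
    rw [norm_add hF, he_add, he_add, hc, one_mul]
  have hCS : (Fintype.card C : ℤ) * ∑ a, f a
      = ∑ a, f a * (if ψ a = 0 then (Fintype.card C : ℤ) else 0) := by
    calc (Fintype.card C : ℤ) * ∑ a, f a = ∑ c : C, ∑ a : F, f a := by
          rw [Finset.sum_const, Finset.card_univ]; simp
      _ = ∑ c : C, ∑ a : F, f (a + c) := by
          apply Finset.sum_congr rfl
          intro c _
          exact (Equiv.sum_comp (Equiv.addRight (c : F)) f).symm
      _ = ∑ a : F, ∑ c : C, f (a + c) := Finset.sum_comm
      _ = ∑ a : F, f a * (if ψ a = 0 then (Fintype.card C : ℤ) else 0) := by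
          apply Finset.sum_congr rfl
          intro a _
          simp_rw [hf_add]
          rw [← Finset.mul_sum, sum_sgn2_hom]
  let P : Finset F := Finset.univ.filter (fun a => ψ a = 0)
  have hdual : (Fintype.card C : ℤ) * (P.card : ℤ) = (q : ℤ) ^ 2 := by
    have h1 : ∑ a : F, ∑ c : C, sgn2 (ψ a c) = (Fintype.card C : ℤ) * P.card := by
      simp_rw [sum_sgn2_hom]
      rw [← Finset.sum_filter, Finset.sum_const]
      simp [P]; ring
    have h2' : ∑ a : F, ∑ c : C, sgn2 (ψ a c)
        = ∑ c : C, ∑ a : F, sgn2 (χ.comp (polarHom hF c) a) := by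
      rw [Finset.sum_comm]
      apply Finset.sum_congr rfl
      intro c _
      apply Finset.sum_congr rfl
      intro a _
      show sgn2 (χ (polarHom hF a c)) = sgn2 (χ (polarHom hF c a))
      rw [polarHom_comm]
    have h3 : ∀ c : C, ∑ a : F, sgn2 (χ.comp (polarHom hF c) a)
        = if c = 0 then (q : ℤ) ^ 2 else 0 := by
      intro c
      rw [sum_sgn2_hom]
      by_cases hc : c = 0
      · rw [if_pos hc, if_pos]
        · rw [hF]; push_cast; ring
        · rw [hc]; ext a
          show χ (polarHom hF ((0 : C) : F) a) = 0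
          rw [polarHom_apply, AddSubgroup.coe_zero, zero_pow (by omega : q ≠ 0)]
          simp
      · rw [if_neg hc, if_neg]
        intro hzero
        have hc' : (c : F) ≠ 0 := fun h => hc (Subtype.ext h)
        obtain ⟨u, hu⟩ := exists_trace_eq hF h2 b hb
        have h4 := DFunLike.congr_fun hzero ((u / c) ^ q)
        have hval : polarHom hF c ((u / c) ^ q) = b := by
          rw [polarHom_apply, frob_frob hF, ← mul_pow, mul_div_cancel₀ _ hc', ← hu]; ring
        have h5 : χ (polarHom hF c ((u / c) ^ q)) = 0 := h4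
        rw [hval] at h5
        exact hχb' h5
    rw [← h1, h2']
    simp_rw [h3]
    simp
  have hCP : ∀ c : C, (c : F) ∈ P := by
    intro c
    simp only [P, Finset.mem_filter, Finset.mem_univ, true_and]
    ext c'
    show χ (polarHom hF c c') = 0
    have h1 := hχ0 _ (hN _ (C.add_mem c.2 c'.2))
    rw [norm_add hF, map_add, map_add, hχ0 _ (hN _ c.2), hχ0 _ (hN _ c'.2), zero_add,
      zero_add] at h1
    exact h1
  let C' : Finset F := Finset.univ.filter (fun a => a ∈ C)
  have hC'P : C' ⊆ P := by
    intro a ha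
    simp only [C', Finset.mem_filter, Finset.mem_univ, true_and] at ha
    exact hCP ⟨a, ha⟩
  have hcardC' : C'.card = Fintype.card C := (Fintype.card_subtype _).symm
  have hle : Fintype.card C ≤ P.card := hcardC' ▸ Finset.card_le_card hC'P
  have hnat : Fintype.card C * P.card = q ^ 2 := by exact_mod_cast hdual
  have hqC : q ≤ Fintype.card C := by rwa [Nat.card_eq_fintype_card] at hC
  have hCq : Fintype.card C = q := by
    by_contra hne
    have h1 : q + 1 ≤ Fintype.card C := by omega
    have h3 : (q + 1) * (q + 1) ≤ Fintype.card C * P.card := Nat.mul_le_mul h1 (by omega)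
    nlinarith
  have hPq : P.card = q := by
    rw [hCq] at hnat
    exact Nat.eq_of_mul_eq_mul_left (by omega : 0 < q) (by rw [hnat]; ring)
  have hC'eq : C' = P := Finset.eq_of_subset_of_card_le hC'P (by omega)
  have hfinal : ∑ a, f a * (if ψ a = 0 then (Fintype.card C : ℤ) else 0) = (q : ℤ) * q := by
    simp_rw [mul_ite, mul_zero]
    rw [← Finset.sum_filter]
    show ∑ a ∈ P, f a * (Fintype.card C : ℤ) = _
    rw [← hC'eq]
    have : ∀ a ∈ C', f a * (Fintype.card C : ℤ) = (q : ℤ) := by
      intro a ha
      simp only [C', Finset.mem_filter, Finset.mem_univ, true_and] at ha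
      show sgn2 (χ (a * a ^ q)) * _ = _
      rw [hχ0 _ (hN a ha), sgn2_zero, one_mul, hCq]
    rw [Finset.sum_congr rfl this, Finset.sum_const, hcardC', hCq]
    simp
  rw [hfinal, hS, hCq] at hCS
  have hq' : (2 : ℤ) ≤ q := by exact_mod_cast hq
  nlinarith

end Quadric

end Cfsg.Agent.Lib.helper58
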