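import Mathlib
import Cfsg.Agent.Lib.helper58.SU3Sylow
import Cfsg.Agent.Lib.helper58.SU3Quadric

/-!
# Automorphisms of the Sylow 2-subgroup of `SU 3 F q` (`q` even)

For a group `G` with coordinates `c : UCoord G F q`:

* `UCoord.autL hF h2 c φ : F →+ F` — the additive map induced by `φ : MulAut G` on `G / Z(G) ≅ F`
  (`autL_fst : autL φ (fst g) = fst (φ g)`);
* `UCoord.aut_fixes_center`: an automorphism whose square acts trivially on `G / Z(G)`
  (e.g. an involutory automorphism, or one with inner square) fixes `Z(G)` pointwise.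
-/

set_option autoImplicit false

namespace Cfsg.Agent.Lib.helper58

open Cfsg
open Cfsg.Agent.Lib.helper7

section Aut

variable {F : Type*} [Field F] [Fintype F] {q : ℕ} {G : Type*} [Group G]

theorem UCoord.fst_inv (c : UCoord G F q) (g : G) : c.fst g⁻¹ = -c.fst g := by
  have h := c.fst_mul g g⁻¹
  rw [mul_inv_cancel, c.fst_one] at h
  linear_combination -h

theorem UCoord.fst_conj (c : UCoord G F q) (x g : G) : c.fst (x * g * x⁻¹) = c.fst g := by
  rw [c.fst_mul, c.fst_mul, c.fst_inv]; ring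

theorem mulAut_map_mem_center (φ : MulAut G) {z : G} (hz : z ∈ Subgroup.center G) :
    φ z ∈ Subgroup.center G := by
  rw [Subgroup.mem_center_iff] at hz ⊢
  intro h
  have h1 := congrArg φ (hz (φ.symm h))
  rw [map_mul, map_mul, MulEquiv.apply_symm_apply] at h1
  exact h1

/-- `fst (φ g)` only depends on `fst g`. -/
theorem UCoord.fst_map_eq (hF : Fintype.card F = q ^ 2) (h2 : (2 : F) = 0) (c : UCoord G F q)
    (φ : MulAut G) {g g' : G} (h : c.fst g = c.fst g') : c.fst (φ g) = c.fst (φ g') := by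
  have h1 : g⁻¹ * g' ∈ Subgroup.center G := by
    rw [c.mem_center_iff hF h2, c.fst_mul, c.fst_inv, h]; ring
  have h3 := (c.mem_center_iff hF h2 _).mp (mulAut_map_mem_center φ h1)
  rw [map_mul, c.fst_mul, map_inv, c.fst_inv] at h3
  linear_combination -h3

/-- The additive map induced on `F ≅ G / Z(G)` by an automorphism of `G`. -/
noncomputable def UCoord.autL (hF : Fintype.card F = q ^ 2) (h2 : (2 : F) = 0) (c : UCoord G F q)
    (φ : MulAut G) : F →+ F where
  toFun a := c.fst (φ (Classical.choose (c.exists_fst_eq hF h2 a)))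
  map_zero' := by
    have h := Classical.choose_spec (c.exists_fst_eq hF h2 0)
    rw [c.fst_map_eq hF h2 φ (h.trans c.fst_one.symm), map_one, c.fst_one]
  map_add' a b := by
    have h := Classical.choose_spec (c.exists_fst_eq hF h2 (a + b))
    have ha := Classical.choose_spec (c.exists_fst_eq hF h2 a)
    have hb := Classical.choose_spec (c.exists_fst_eq hF h2 b)
    have e : c.fst (Classical.choose (c.exists_fst_eq hF h2 (a + b)))
        = c.fst (Classical.choose (c.exists_fst_eq hF h2 a)
          * Classical.choose (c.exists_fst_eq hF h2 b)) := by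
      rw [h, c.fst_mul, ha, hb]
    rw [c.fst_map_eq hF h2 φ e, map_mul, c.fst_mul]

theorem UCoord.autL_fst (hF : Fintype.card F = q ^ 2) (h2 : (2 : F) = 0) (c : UCoord G F q)
    (φ : MulAut G) (g : G) : c.autL hF h2 φ (c.fst g) = c.fst (φ g) :=
  c.fst_map_eq hF h2 φ (Classical.choose_spec (c.exists_fst_eq hF h2 (c.fst g)))

/-- If `fst (φ g) = fst g`, then `φ` fixes `g ^ 2`. -/
theorem UCoord.map_sq_of_fst_eq (hF : Fintype.card F = q ^ 2) (h2 : (2 : F) = 0)
    (c : UCoord G F q) (φ : MulAut G) (g : G) (h : c.fst (φ g) = c.fst g) :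
    φ (g ^ 2) = g ^ 2 := by
  have hq := two_le_of_card_sq hF
  rw [map_pow]
  apply c.ext
  · rw [c.fst_sq h2, c.fst_sq h2]
  · rw [c.snd_sq h2, c.snd_sq h2, h]

/-- The norm of `fst` is preserved by an automorphism fixing the centre pointwise. -/
theorem UCoord.norm_fst_map (hF : Fintype.card F = q ^ 2) (h2 : (2 : F) = 0)
    (c : UCoord G F q) (φ : MulAut G) (hφ : ∀ z ∈ Subgroup.center G, φ z = z) (g : G) :
    c.fst (φ g) * c.fst (φ g) ^ q = c.fst g * c.fst g ^ q := by
  have h1 := hφ _ (c.sq_mem_center hF h2 g)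
  rw [map_pow] at h1
  have h3 := congrArg c.snd h1
  rwa [c.snd_sq h2, c.snd_sq h2] at h3

/-- An automorphism whose square is trivial modulo the centre fixes the centre pointwise. -/
theorem UCoord.aut_fixes_center (hF : Fintype.card F = q ^ 2) (h2 : (2 : F) = 0)
    (c : UCoord G F q) (φ : MulAut G) (hφ : ∀ g, c.fst (φ (φ g)) = c.fst g)
    (z : G) (hz : z ∈ Subgroup.center G) : φ z = z := by
  classical
  have hq := two_le_of_card_sq hF
  have hLL : ∀ a, c.autL hF h2 φ (c.autL hF h2 φ a) = a := by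
    intro a
    obtain ⟨g, rfl⟩ := c.exists_fst_eq hF h2 a
    rw [c.autL_fst, c.autL_fst, hφ]
  let M : F →+ F := c.autL hF h2 φ + AddMonoidHom.id F
  have hM : ∀ a, M a = c.autL hF h2 φ a + a := fun a => rfl
  have hMM : ∀ a, M (M a) = 0 := by
    intro a
    rw [hM, hM, map_add, hLL]
    linear_combination (a + c.autL hF h2 φ a) * h2
  have hrange : M.range ≤ M.ker := by
    rintro _ ⟨a, rfl⟩
    exact hMM a
  have hcardC : q ≤ Nat.card M.ker := by
    have hmul : Nat.card M.ker * Nat.card M.range = q ^ 2 := by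
      rw [← AddSubgroup.index_ker, AddSubgroup.card_mul_index, Nat.card_eq_fintype_card, hF]
    have hle : Nat.card M.range ≤ Nat.card M.ker := AddSubgroup.card_le_of_le hrange
    by_contra hcon
    push Not at hcon
    have : Nat.card M.ker * Nat.card M.range < q * q :=
      Nat.mul_lt_mul'' hcon (lt_of_le_of_lt hle hcon)
    rw [hmul] at this
    nlinarith
  let Z0 : AddSubgroup F :=
    { carrier := {b | ∃ w : G, c.fst w = 0 ∧ c.snd w = b ∧ φ w = w}
      zero_mem' := ⟨1, c.fst_one, c.snd_one, map_one φ⟩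
      add_mem' := by
        rintro b b' ⟨w, hw0, hwb, hw⟩ ⟨w', hw0', hwb', hw'⟩
        refine ⟨w * w', ?_, ?_, ?_⟩
        · rw [c.fst_mul, hw0, hw0', add_zero]
        · rw [c.snd_mul, hw0, hw0', hwb, hwb', mul_zero, add_zero]
        · rw [map_mul, hw, hw']
      neg_mem' := by
        rintro b ⟨w, hw0, hwb, hw⟩
        refine ⟨w, hw0, ?_, hw⟩
        rw [hwb]
        linear_combination b * h2 }
  have hN : ∀ a ∈ M.ker, a * a ^ q ∈ Z0 := by
    intro a ha
    have ha' : c.autL hF h2 φ a = a := by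
      have h1 : c.autL hF h2 φ a + a = 0 := ha
      linear_combination h1 - a * h2
    obtain ⟨g, rfl⟩ := c.exists_fst_eq hF h2 a
    rw [c.autL_fst] at ha'
    exact ⟨g ^ 2, c.fst_sq h2 g, c.snd_sq h2 g, c.map_sq_of_fst_eq hF h2 φ g ha'⟩
  have hz0 := (c.mem_center_iff hF h2 z).mp hz
  have hb : c.snd z ^ q = c.snd z := by
    have := c.rel z
    rw [hz0, zero_mul] at this
    linear_combination this - c.snd z * h2
  obtain ⟨w, hw0, hwb, hw⟩ := quadric_subgroup hF h2 M.ker Z0 hcardC hN (c.snd z) hb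
  have hwz : w = z := c.ext _ _ (hw0.trans hz0.symm) hwb
  rw [← hwz]; exact hw

end Aut

end Cfsg.Agent.Lib.helper58
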