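import Mathlib
import Cfsg.Agent.Lib.helper58.SU3Aut

/-!
# Additive maps of `F = GF(q^2)` compatible with the norm form (characteristic 2)

`semilinear_of_norm_compat`: an injective additive map `L : F →+ F` which preserves the vanishing
of the form `B(a,a') = a^q a' + a'^q a` and such that `N(L a)` only depends on `N(a) = a^(q+1)`
is of the form `a ↦ L 1 * σ a` for a field automorphism `σ` of `F`.
-/

set_option autoImplicit false

namespace Cfsg.Agent.Lib.helper58

open Cfsg
open Cfsg.Agent.Lib.helper7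

section FieldCrux

variable {F : Type*} [Field F] [Fintype F] {q : ℕ}

omit [Fintype F] in
theorem neg_eq_self_of_two (h2 : (2 : F) = 0) (x : F) : -x = x := by
  linear_combination (-x) * h2

theorem bform_eq_zero_iff (hF : Fintype.card F = q ^ 2) (h2 : (2 : F) = 0) {a a' : F}
    (ha : a ≠ 0) : a ^ q * a' + a' ^ q * a = 0 ↔ (a' / a) ^ q = a' / a := by
  have hN : a * a ^ q ≠ 0 := fun h => ha ((norm_eq_zero_iff hF a).mp h)
  obtain ⟨r, hr⟩ : ∃ r : F, r = a' / a := ⟨_, rfl⟩
  have ha' : a' = r * a := by rw [hr]; field_simp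
  rw [← hr]
  have key : a ^ q * a' + a' ^ q * a = a * a ^ q * (r + r ^ q) := by
    rw [ha', mul_pow]; ring
  rw [key]
  constructor
  · intro h
    rcases mul_eq_zero.mp h with h | h
    · exact absurd h hN
    · linear_combination h - r * h2
  · intro h
    rw [h]
    linear_combination (a * a ^ q * r) * h2

theorem semilinear_of_norm_compat (hF : Fintype.card F = q ^ 2) (h2 : (2 : F) = 0) (L : F →+ F)
    (hinj : Function.Injective L)
    (hP : ∀ a a' : F, a ^ q * a' + a' ^ q * a = 0 ↔ L a ^ q * L a' + L a' ^ q * L a = 0)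
    (hQ : ∀ a a' : F, a * a ^ q = a' * a' ^ q → L a * L a ^ q = L a' * L a' ^ q) :
    ∃ σ : F ≃+* F, ∀ a, L a = L 1 * σ a := by
  classical
  have hq := two_le_of_card_sq hF
  have hq0 : q ≠ 0 := by omega
  have hL0 : ∀ a, a ≠ 0 → L a ≠ 0 := fun a ha h => ha (hinj (h.trans (map_zero L).symm))
  have hL1 : L 1 ≠ 0 := hL0 1 one_ne_zero
  -- lines are preserved
  have A1 : ∀ a c : F, a ≠ 0 → c ^ q = c → (L (c * a) / L a) ^ q = L (c * a) / L a := by
    intro a c ha hc
    apply (bform_eq_zero_iff hF h2 (hL0 a ha)).mp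
    apply (hP a (c * a)).mp
    rw [mul_pow, hc]
    linear_combination (c * a ^ q * a) * h2
  -- the scalar action does not depend on the line
  have A2 : ∀ a a' c : F, a ≠ 0 → a' ≠ 0 → (a' / a) ^ q ≠ a' / a → c ^ q = c →
      L (c * a) / L a = L (c * a') / L a' := by
    intro a a' c ha ha' hind hc
    have hsum : a + a' ≠ 0 := by
      intro h
      apply hind
      have : a' = a := by linear_combination h - a * h2
      rw [this, div_self ha, one_pow]
    have hx := A1 a c ha hc
    have hy := A1 a' c ha' hc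
    have hz := A1 (a + a') c hsum hc
    obtain ⟨x, hxd⟩ : ∃ x : F, x = L (c * a) / L a := ⟨_, rfl⟩
    obtain ⟨y, hyd⟩ : ∃ y : F, y = L (c * a') / L a' := ⟨_, rfl⟩
    obtain ⟨z, hzd⟩ : ∃ z : F, z = L (c * (a + a')) / L (a + a') := ⟨_, rfl⟩
    rw [← hxd] at hx ⊢
    rw [← hyd] at hy ⊢
    rw [← hzd] at hz
    have e1 : L (c * a) = x * L a := by rw [hxd, div_mul_cancel₀ _ (hL0 a ha)]
    have e2 : L (c * a') = y * L a' := by rw [hyd, div_mul_cancel₀ _ (hL0 a' ha')]
    have e3 : L (c * (a + a')) = z * (L a + L a') := by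
      rw [hzd, ← map_add, div_mul_cancel₀ _ (hL0 _ hsum)]
    have e4 : (z - x) * L a + (z - y) * L a' = 0 := by
      have : L (c * (a + a')) = L (c * a) + L (c * a') := by rw [mul_add, map_add]
      rw [e1, e2, e3] at this
      linear_combination this
    have hzy : z = y := by
      by_contra hne
      have hne' : z - y ≠ 0 := sub_ne_zero.mpr hne
      apply hind
      apply (bform_eq_zero_iff hF h2 ha).mp
      apply (hP a a').mpr
      apply (bform_eq_zero_iff hF h2 (hL0 a ha)).mpr
      have hr : L a' / L a = (z - x) / (z - y) := by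
        rw [div_eq_div_iff (hL0 a ha) hne']
        linear_combination e4 - ((z - x) * L a) * h2
      rw [hr, div_pow, frob_sub_all hF, frob_sub_all hF, hz, hx, hy]
    rw [hzy] at e4
    have hzx : (y - x) * L a = 0 := by linear_combination e4
    rcases mul_eq_zero.mp hzx with h | h
    · exact (sub_eq_zero.mp h).symm
    · exact absurd h (hL0 a ha)
  -- the normalised map
  obtain ⟨g, hg⟩ : ∃ g : F → F, ∀ a, g a = L a / L 1 := ⟨fun a => L a / L 1, fun _ => rfl⟩
  have A3 : ∀ c a : F, c ^ q = c → L (c * a) = g c * L a := by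
    intro c a hc
    have key : ∀ a : F, a ^ q ≠ a → L (c * a) = g c * L a := by
      intro a ha
      have ha0 : a ≠ 0 := by
        rintro rfl
        exact ha (zero_pow hq0)
      have h := A2 1 a c one_ne_zero ha0 (by rwa [div_one]) hc
      rw [mul_one] at h
      rw [hg, h, div_mul_cancel₀ _ (hL0 a ha0)]
    by_cases ha : a ^ q = a
    · obtain ⟨t, ht⟩ := exists_frob_ne hF h2
      have hat : (a + t) ^ q ≠ a + t := by
        rw [frob_add_all hF, ha]
        intro h
        exact ht (add_left_cancel h)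
      have h1 := key (a + t) hat
      have h3 := key t ht
      have e : L (c * a) = L (c * (a + t)) - L (c * t) := by
        rw [mul_add, map_add]; ring
      rw [e, h1, h3, map_add]; ring
    · exact key a ha
  have g1 : g 1 = 1 := by rw [hg, div_self hL1]
  have gadd : ∀ a b, g (a + b) = g a + g b := fun a b => by
    rw [hg, hg, hg, map_add, add_div]
  have gsub : ∀ a b, g (a - b) = g a - g b := fun a b => by
    rw [hg, hg, hg, map_sub, sub_div]
  have G1 : ∀ c a : F, c ^ q = c → g (c * a) = g c * g a := by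
    intro c a hc
    rw [hg (c * a), A3 c a hc, hg a]; ring
  have G2 : ∀ c : F, c ^ q = c → g c ^ q = g c := by
    intro c hc
    have h := A1 1 c one_ne_zero hc
    rw [mul_one] at h
    rw [hg]; exact h
  have hnorm : ∀ a : F, g a * g a ^ q = (L a * L a ^ q) / (L 1 * L 1 ^ q) := by
    intro a
    rw [hg, div_pow, div_mul_div_comm]
  have G3 : ∀ a : F, g a * g a ^ q = g (a * a ^ q) := by
    intro a
    obtain ⟨k, hk1, hqk⟩ := q_eq_two_pow hF h2
    obtain ⟨v, hv⟩ : ∃ v : F, v = a * a ^ q := ⟨_, rfl⟩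
    have hvq : v ^ q = v := by rw [hv]; exact frob_norm hF a
    obtain ⟨w, hw⟩ : ∃ w : F, w = v ^ (2 ^ (k - 1)) := ⟨_, rfl⟩
    have hww : w * w = a * a ^ q := by
      rw [← hv, hw, ← pow_add, ← two_mul, ← pow_succ', Nat.sub_add_cancel hk1, ← hqk, hvq]
    have hwq : w ^ q = w := by rw [hw, ← pow_mul, mul_comm, pow_mul, hvq]
    have h1 : w * w ^ q = a * a ^ q := by rw [hwq, hww]
    have h3 := hQ w a h1
    rw [hnorm a, ← h3, ← hnorm w, G2 w hwq, ← G1 w w hwq, hww]
  have G4 : ∀ a : F, g a + g a ^ q = g (a + a ^ q) := by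
    intro a
    have h1 := G3 (1 + a)
    have h3 : (1 + a) * (1 + a) ^ q = 1 + (a + a ^ q) + a * a ^ q := by
      rw [frob_add_all hF, one_pow]; ring
    have h4 : (1 + g a) * (1 + g a) ^ q = 1 + (g a + g a ^ q) + g a * g a ^ q := by
      rw [frob_add_all hF, one_pow]; ring
    rw [gadd 1 a, g1, h3, h4, gadd (1 + (a + a ^ q)) (a * a ^ q), gadd 1 (a + a ^ q), g1,
      G3 a] at h1
    linear_combination h1
  have G5 : ∀ a : F, g (a * a) = g a * g a := by
    intro a
    have hT : (a + a ^ q) ^ q = a + a ^ q := by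
      rw [frob_add_all hF, frob_frob hF]; ring
    have e : a * a = (a + a ^ q) * a - a * a ^ q := by ring
    rw [e, gsub, G1 _ _ hT, ← G4, ← G3]; ring
  obtain ⟨t, ht⟩ := exists_frob_ne hF h2
  have hTt : t + t ^ q ≠ 0 := by
    intro h
    apply ht
    linear_combination h - t * h2
  have decomp : ∀ x : F, ∃ c c' : F, c ^ q = c ∧ c' ^ q = c' ∧ x = c + c' * t := by
    intro x
    have hTx : (x + x ^ q) ^ q = x + x ^ q := by
      rw [frob_add_all hF, frob_frob hF]; ring
    have hTt' : (t + t ^ q) ^ q = t + t ^ q := by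
      rw [frob_add_all hF, frob_frob hF]; ring
    obtain ⟨c', hc'⟩ : ∃ c' : F, c' = (x + x ^ q) / (t + t ^ q) := ⟨_, rfl⟩
    have hc'q : c' ^ q = c' := by rw [hc', div_pow, hTx, hTt']
    have hc'm : c' * (t + t ^ q) = x + x ^ q := by rw [hc', div_mul_cancel₀ _ hTt]
    refine ⟨x - c' * t, c', ?_, hc'q, by ring⟩
    rw [frob_sub_all hF, mul_pow, hc'q]
    linear_combination (-1 : F) * hc'm + (c' * t - x) * h2
  have Gt : ∀ y : F, g (t * y) = g t * g y := by
    intro y
    obtain ⟨d, d', hd, hd', rfl⟩ := decomp y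
    have e : t * (d + d' * t) = d * t + d' * (t * t) := by ring
    rw [e, gadd, gadd, G1 d t hd, G1 d' (t * t) hd', G5 t, G1 d' t hd']; ring
  have Gmul : ∀ x y : F, g (x * y) = g x * g y := by
    intro x y
    obtain ⟨c, c', hc, hc', rfl⟩ := decomp x
    have e : (c + c' * t) * y = c * y + c' * (t * y) := by ring
    rw [e, gadd, gadd, G1 c y hc, G1 c' (t * y) hc', Gt y, G1 c' t hc']; ring
  have ginj : Function.Injective g := by
    intro a b hab
    rw [hg, hg] at hab
    exact hinj ((div_left_inj' hL1).mp hab)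
  have g0 : g 0 = 0 := by rw [hg, map_zero, zero_div]
  let σ₀ : F →+* F :=
    { toFun := g
      map_one' := g1
      map_mul' := Gmul
      map_zero' := g0
      map_add' := gadd }
  have hbij : Function.Bijective σ₀ := ⟨ginj, Finite.injective_iff_surjective.mp ginj⟩
  refine ⟨RingEquiv.ofBijective σ₀ hbij, fun a => ?_⟩
  show L a = L 1 * g a
  rw [hg, mul_div_cancel₀ _ hL1]

end FieldCrux

end Cfsg.Agent.Lib.helper58
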