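import Mathlib
import Cfsg.Agent.Lib.helper58.SU3AutA

/-!
# Automorphisms of the Sylow 2-subgroup of `SU 3 F q`: the induced semilinear maps

For a group `G` with coordinates `c : UCoord G F q` (`|F| = q^2`, characteristic 2):

* `UCoord.autHom : MulAut G →* AddAut F` — the action on `G / Z(G) ≅ F`;
* `UCoord.autL_semilinear`: every `autL φ` is `a ↦ u * σ a` (`σ` a field automorphism);
* `UCoord.exists_aut_semilinear`: every such map occurs;
* `card_ringAut_of_card_two_pow`, `card_addMonoidHom_two`: counting lemmas.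
-/

set_option autoImplicit false

namespace Cfsg.Agent.Lib.helper58

open Cfsg
open Cfsg.Agent.Lib.helper7
open scoped commutatorElement

section Counting

/-- The number of homomorphisms between two elementary abelian 2-groups. -/
theorem card_addMonoidHom_two {A B : Type*} [AddCommGroup A] [AddCommGroup B] [Finite A]
    [Finite B] (hA : ∀ x : A, 2 • x = 0) (hB : ∀ x : B, 2 • x = 0) (m k : ℕ)
    (hAc : Nat.card A = 2 ^ m) (hBc : Nat.card B = 2 ^ k) :
    Nat.card (A →+ B) = 2 ^ (m * k) := by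
  let _ : Module (ZMod 2) A := AddCommGroup.zmodModule hA
  let _ : Module (ZMod 2) B := AddCommGroup.zmodModule hB
  have hfA : Module.finrank (ZMod 2) A = m := by
    have h := Module.natCard_eq_pow_finrank (K := ZMod 2) (V := A)
    rw [hAc, Nat.card_zmod] at h
    exact (Nat.pow_right_injective (le_refl 2) h).symm
  have hfB : Module.finrank (ZMod 2) B = k := by
    have h := Module.natCard_eq_pow_finrank (K := ZMod 2) (V := B)
    rw [hBc, Nat.card_zmod] at h
    exact (Nat.pow_right_injective (le_refl 2) h).symm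
  rw [Nat.card_congr (AddMonoidHom.toZModLinearMapEquiv 2 (M := A) (M₁ := B)).toEquiv,
    Module.natCard_eq_pow_finrank (K := ZMod 2) (V := A →ₗ[ZMod 2] B), Nat.card_zmod,
    Module.finrank_linearMap, hfA, hfB]

/-- A field with `2 ^ m` elements has exactly `m` automorphisms. -/
theorem card_ringAut_of_card_two_pow {F : Type*} [Field F] [Fintype F] (m : ℕ)
    (hF : Fintype.card F = 2 ^ m) (h2 : (2 : F) = 0) : Nat.card (F ≃+* F) = m := by
  have : CharP F 2 := CharTwo.of_one_ne_zero_of_two_eq_zero one_ne_zero h2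
  let _ : Algebra (ZMod 2) F := ZMod.algebra F 2
  have hfin : Module.finrank (ZMod 2) F = m := by
    have h := Module.natCard_eq_pow_finrank (K := ZMod 2) (V := F)
    rw [Nat.card_eq_fintype_card, hF, Nat.card_zmod] at h
    exact (Nat.pow_right_injective (le_refl 2) h).symm
  let e : (F ≃ₐ[ZMod 2] F) ≃ (F ≃+* F) :=
    { toFun := fun f => f.toRingEquiv
      invFun := fun f => AlgEquiv.ofRingEquiv (f := f) (fun x => by
        have h := Subsingleton.elim ((f : F →+* F).comp (algebraMap (ZMod 2) F))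
          (algebraMap (ZMod 2) F)
        exact congrArg (fun h : ZMod 2 →+* F => h x) h)
      left_inv := fun f => by ext; rfl
      right_inv := fun f => by ext; rfl }
  rw [← Nat.card_congr e, ← Nat.card_congr (Equiv.ofBijective _
    (FiniteField.bijective_frobeniusAlgEquivOfAlgebraic_pow (ZMod 2) F)), Nat.card_fin, hfin]

end Counting

section Group

variable {F : Type*} [Field F] [Fintype F] {q : ℕ} {G : Type*} [Group G]

/-- The element with given coordinates. -/
noncomputable def UCoord.elt (c : UCoord G F q) (a b : F) (h : b + b ^ q = a * a ^ q) : G :=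
  Classical.choose (c.exists_eq a b h)

omit [Fintype F] in
theorem UCoord.fst_elt (c : UCoord G F q) (a b : F) (h : b + b ^ q = a * a ^ q) :
    c.fst (c.elt a b h) = a :=
  (Classical.choose_spec (c.exists_eq a b h)).1

omit [Fintype F] in
theorem UCoord.snd_elt (c : UCoord G F q) (a b : F) (h : b + b ^ q = a * a ^ q) :
    c.snd (c.elt a b h) = b :=
  (Classical.choose_spec (c.exists_eq a b h)).2

theorem UCoord.finite (hF : Fintype.card F = q ^ 2) (h2 : (2 : F) = 0) (c : UCoord G F q) :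
    Finite G := by
  have hq := two_le_of_card_sq hF
  apply Nat.finite_of_card_ne_zero
  rw [c.card_eq hF h2]
  positivity

theorem UCoord.autL_mul (hF : Fintype.card F = q ^ 2) (h2 : (2 : F) = 0) (c : UCoord G F q)
    (φ ψ : MulAut G) (a : F) :
    c.autL hF h2 (φ * ψ) a = c.autL hF h2 φ (c.autL hF h2 ψ a) := by
  obtain ⟨g, rfl⟩ := c.exists_fst_eq hF h2 a
  rw [c.autL_fst, c.autL_fst, c.autL_fst, MulAut.mul_apply]

theorem UCoord.autL_one (hF : Fintype.card F = q ^ 2) (h2 : (2 : F) = 0) (c : UCoord G F q)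
    (a : F) : c.autL hF h2 1 a = a := by
  obtain ⟨g, rfl⟩ := c.exists_fst_eq hF h2 a
  rw [c.autL_fst, MulAut.one_apply]

theorem UCoord.autL_inv_apply (hF : Fintype.card F = q ^ 2) (h2 : (2 : F) = 0)
    (c : UCoord G F q) (φ : MulAut G) (a : F) :
    c.autL hF h2 φ⁻¹ (c.autL hF h2 φ a) = a := by
  rw [← c.autL_mul, inv_mul_cancel, c.autL_one]

theorem UCoord.autL_apply_inv (hF : Fintype.card F = q ^ 2) (h2 : (2 : F) = 0)
    (c : UCoord G F q) (φ : MulAut G) (a : F) :
    c.autL hF h2 φ (c.autL hF h2 φ⁻¹ a) = a := by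
  rw [← c.autL_mul, mul_inv_cancel, c.autL_one]

theorem UCoord.autL_injective (hF : Fintype.card F = q ^ 2) (h2 : (2 : F) = 0)
    (c : UCoord G F q) (φ : MulAut G) : Function.Injective (c.autL hF h2 φ) := by
  intro a b hab
  have h := congrArg (c.autL hF h2 φ⁻¹) hab
  rwa [c.autL_inv_apply, c.autL_inv_apply] at h

theorem UCoord.commutator_eq_one_iff (hF : Fintype.card F = q ^ 2) (h2 : (2 : F) = 0)
    (c : UCoord G F q) (g h : G) :
    ⁅g, h⁆ = 1 ↔ c.fst g ^ q * c.fst h + c.fst h ^ q * c.fst g = 0 := by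
  rw [c.eq_one_iff, c.fst_commutator, c.snd_commutator hF h2]
  simp

theorem UCoord.autL_bform (hF : Fintype.card F = q ^ 2) (h2 : (2 : F) = 0)
    (c : UCoord G F q) (φ : MulAut G) (a a' : F) :
    a ^ q * a' + a' ^ q * a = 0 ↔
      c.autL hF h2 φ a ^ q * c.autL hF h2 φ a' + c.autL hF h2 φ a' ^ q * c.autL hF h2 φ a = 0 := by
  obtain ⟨g, rfl⟩ := c.exists_fst_eq hF h2 a
  obtain ⟨h, rfl⟩ := c.exists_fst_eq hF h2 a'
  rw [c.autL_fst, c.autL_fst, ← c.commutator_eq_one_iff hF h2, ← c.commutator_eq_one_iff hF h2,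
    ← map_commutatorElement]
  exact (EmbeddingLike.map_eq_one_iff (f := φ)).symm

theorem UCoord.autL_norm (hF : Fintype.card F = q ^ 2) (h2 : (2 : F) = 0)
    (c : UCoord G F q) (φ : MulAut G) (a a' : F) (h : a * a ^ q = a' * a' ^ q) :
    c.autL hF h2 φ a * c.autL hF h2 φ a ^ q = c.autL hF h2 φ a' * c.autL hF h2 φ a' ^ q := by
  obtain ⟨g, rfl⟩ := c.exists_fst_eq hF h2 a
  obtain ⟨k, rfl⟩ := c.exists_fst_eq hF h2 a'
  have e : g ^ 2 = k ^ 2 :=
    c.ext _ _ (by rw [c.fst_sq h2, c.fst_sq h2]) (by rw [c.snd_sq h2, c.snd_sq h2, h])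
  rw [c.autL_fst, c.autL_fst, ← c.snd_sq h2, ← c.snd_sq h2, ← map_pow, ← map_pow, e]

/-- Every automorphism acts on `G / Z(G) ≅ F` as `a ↦ u * σ a`. -/
theorem UCoord.autL_semilinear (hF : Fintype.card F = q ^ 2) (h2 : (2 : F) = 0)
    (c : UCoord G F q) (φ : MulAut G) :
    ∃ σ : F ≃+* F, ∀ a, c.autL hF h2 φ a = c.autL hF h2 φ 1 * σ a :=
  semilinear_of_norm_compat hF h2 _ (c.autL_injective hF h2 φ) (c.autL_bform hF h2 φ)
    (c.autL_norm hF h2 φ)

theorem UCoord.autL_one_ne_zero (hF : Fintype.card F = q ^ 2) (h2 : (2 : F) = 0)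
    (c : UCoord G F q) (φ : MulAut G) : c.autL hF h2 φ 1 ≠ 0 := by
  intro h
  exact one_ne_zero (c.autL_injective hF h2 φ (h.trans (map_zero _).symm))

/-- Every semilinear map `a ↦ u * σ a` is induced by an automorphism. -/
theorem UCoord.exists_aut_semilinear (hF : Fintype.card F = q ^ 2) (h2 : (2 : F) = 0)
    (c : UCoord G F q) (u : F) (hu : u ≠ 0) (σ : F ≃+* F) :
    ∃ φ : MulAut G, ∀ g, c.fst (φ g) = u * σ (c.fst g) ∧
      c.snd (φ g) = u * u ^ q * σ (c.snd g) := by
  have hq := two_le_of_card_sq hF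
  have hrel : ∀ g : G, u * u ^ q * σ (c.snd g) + (u * u ^ q * σ (c.snd g)) ^ q
      = (u * σ (c.fst g)) * (u * σ (c.fst g)) ^ q := by
    intro g
    have h1 := congrArg σ (c.rel g)
    rw [map_add, map_mul, map_pow, map_pow] at h1
    rw [mul_pow, frob_norm hF u, mul_pow]
    linear_combination (u * u ^ q) * h1
  obtain ⟨f, hf⟩ : ∃ f : G → G, ∀ g, c.fst (f g) = u * σ (c.fst g) ∧
      c.snd (f g) = u * u ^ q * σ (c.snd g) :=
    ⟨fun g => c.elt _ _ (hrel g), fun g => ⟨c.fst_elt _ _ _, c.snd_elt _ _ _⟩⟩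
  have hf1 : ∀ g, c.fst (f g) = u * σ (c.fst g) := fun g => (hf g).1
  have hf2 : ∀ g, c.snd (f g) = u * u ^ q * σ (c.snd g) := fun g => (hf g).2
  have hmul : ∀ g h, f (g * h) = f g * f h := by
    intro g h
    apply c.ext
    · rw [hf1, c.fst_mul, c.fst_mul, hf1, hf1, map_add]; ring
    · rw [hf2, c.snd_mul, c.snd_mul, hf1, hf1, hf2, hf2, map_add, map_add, map_mul, map_pow,
        mul_pow]
      ring
  have hinj : Function.Injective f := by
    intro g h hgh
    have e1 := congrArg c.fst hgh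
    have e2 := congrArg c.snd hgh
    rw [hf1, hf1] at e1
    rw [hf2, hf2] at e2
    have hN : u * u ^ q ≠ 0 := fun h => hu ((norm_eq_zero_iff hF u).mp h)
    exact c.ext _ _ (σ.injective (mul_left_cancel₀ hu e1)) (σ.injective (mul_left_cancel₀ hN e2))
  have := c.finite hF h2
  have hbij : Function.Bijective f := ⟨hinj, Finite.injective_iff_surjective.mp hinj⟩
  exact ⟨MulEquiv.ofBijective (MonoidHom.mk' f hmul) hbij, fun g => ⟨hf1 g, hf2 g⟩⟩

/-- The action of `MulAut G` on `F ≅ G / Z(G)`. -/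
noncomputable def UCoord.autHom (hF : Fintype.card F = q ^ 2) (h2 : (2 : F) = 0)
    (c : UCoord G F q) : MulAut G →* Equiv.Perm F where
  toFun φ :=
    { toFun := c.autL hF h2 φ
      invFun := c.autL hF h2 φ⁻¹
      left_inv := c.autL_inv_apply hF h2 φ
      right_inv := c.autL_apply_inv hF h2 φ }
  map_one' := by
    apply Equiv.ext
    intro a
    exact c.autL_one hF h2 a
  map_mul' φ ψ := by
    apply Equiv.ext
    intro a
    exact c.autL_mul hF h2 φ ψ a

theorem UCoord.autHom_apply (hF : Fintype.card F = q ^ 2) (h2 : (2 : F) = 0)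
    (c : UCoord G F q) (φ : MulAut G) (a : F) : c.autHom hF h2 φ a = c.autL hF h2 φ a := rfl

theorem UCoord.autHom_fst (hF : Fintype.card F = q ^ 2) (h2 : (2 : F) = 0)
    (c : UCoord G F q) (φ : MulAut G) (g : G) : c.autHom hF h2 φ (c.fst g) = c.fst (φ g) :=
  c.autL_fst hF h2 φ g

end Group

end Cfsg.Agent.Lib.helper58
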