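import Mathlib
import Cfsg.Prelude.Def_Solvable
import Cfsg.Prelude.Def_Transfer
import Cfsg.Agent.Lib.helper58.SU3AutB

/-!
# The automorphism group of the Sylow 2-subgroup of `SU 3 F q` (`q = 2 ^ n`)

For a group `G` with coordinates `c : UCoord G F q`:

* `UCoord.centralAut c`: the automorphisms acting trivially on `G / Z(G)`; it is elementary abelian
  of order `2 ^ (2 n^2)` (`card_centralAut_eq`, `centralAut_sq`, `centralAut_comm`) and equal to
  `O_2(Aut G)` (`pCore_mulAut`);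
* `UCoord.card_mulAut`: `|Aut G| = 2 ^ (2 n^2) * (2 n (q^2 - 1))`.
-/

set_option autoImplicit false

namespace Cfsg.Agent.Lib.helper58

open Cfsg
open Cfsg.Agent.Lib.helper7
open scoped commutatorElement

section Central

variable {F : Type*} [Field F] [Fintype F] {q : ℕ} {G : Type*} [Group G]

/-- The automorphisms acting trivially on `G / Z(G)`. -/
def UCoord.centralAut (c : UCoord G F q) : Subgroup (MulAut G) where
  carrier := {φ | ∀ g, c.fst (φ g) = c.fst g}
  one_mem' := fun _ => rfl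
  mul_mem' := by
    intro φ ψ hφ hψ g
    have h1 : c.fst (φ (ψ g)) = c.fst (ψ g) := hφ (ψ g)
    have h3 : c.fst (ψ g) = c.fst g := hψ g
    rw [MulAut.mul_apply, h1, h3]
  inv_mem' := by
    intro φ hφ g
    have h1 : c.fst (φ (φ⁻¹ g)) = c.fst (φ⁻¹ g) := hφ (φ⁻¹ g)
    rw [MulAut.apply_inv_self] at h1
    exact h1.symm

omit [Fintype F] in
theorem UCoord.mem_centralAut (c : UCoord G F q) (φ : MulAut G) :
    φ ∈ c.centralAut ↔ ∀ g, c.fst (φ g) = c.fst g := Iff.rfl

theorem UCoord.ker_autHom (hF : Fintype.card F = q ^ 2) (h2 : (2 : F) = 0) (c : UCoord G F q) :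
    (c.autHom hF h2).ker = c.centralAut := by
  ext φ
  rw [MonoidHom.mem_ker, c.mem_centralAut]
  constructor
  · intro h g
    have h' : c.autHom hF h2 φ (c.fst g) = (1 : Equiv.Perm F) (c.fst g) := by rw [h]
    rw [c.autHom_fst] at h'
    exact h'
  · intro h
    apply Equiv.ext
    intro a
    obtain ⟨g, rfl⟩ := c.exists_fst_eq hF h2 a
    rw [c.autHom_fst, h]
    rfl

theorem UCoord.centralAut_apply_center (hF : Fintype.card F = q ^ 2) (h2 : (2 : F) = 0)
    (c : UCoord G F q) {φ : MulAut G} (hφ : φ ∈ c.centralAut) {z : G}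
    (hz : z ∈ Subgroup.center G) : φ z = z := by
  obtain ⟨g, h, rfl⟩ := c.exists_commutator_eq hF h2 z hz
  have h1 : c.fst (φ g) = c.fst g := hφ g
  have h3 : c.fst (φ h) = c.fst h := hφ h
  rw [map_commutatorElement]
  apply c.ext
  · rw [c.fst_commutator, c.fst_commutator]
  · rw [c.snd_commutator hF h2, c.snd_commutator hF h2, h1, h3]

/-- A central automorphism is `(a, b) ↦ (a, b + f a)` for an additive `f : F → GF(q)`. -/
theorem UCoord.centralAut_exists_hom (hF : Fintype.card F = q ^ 2) (h2 : (2 : F) = 0)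
    (c : UCoord G F q) {φ : MulAut G} (hφ : φ ∈ c.centralAut) :
    ∃ f : F →+ (traceHom hF).ker, ∀ g, c.snd (φ g) = c.snd g + (f (c.fst g) : F) := by
  have hq := two_le_of_card_sq hF
  have hφ' : ∀ g, c.fst (φ g) = c.fst g := hφ
  have k1 : ∀ g, c.snd (φ g) - c.snd g ∈ (traceHom hF).ker := by
    intro g
    rw [AddMonoidHom.mem_ker, traceHom_apply, frob_sub_all hF]
    have h1 := c.rel (φ g)
    have h3 := c.rel g
    rw [hφ' g] at h1
    linear_combination h1 - h3
  have k2 : ∀ g h, c.snd (φ (g * h)) - c.snd (g * h)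
      = (c.snd (φ g) - c.snd g) + (c.snd (φ h) - c.snd h) := by
    intro g h
    rw [map_mul, c.snd_mul, c.snd_mul, hφ' g, hφ' h]; ring
  have k3 : ∀ g g', c.fst g = c.fst g' →
      c.snd (φ g) - c.snd g = c.snd (φ g') - c.snd g' := by
    intro g g' hgg
    have hz : g⁻¹ * g' ∈ Subgroup.center G := by
      rw [c.mem_center_iff hF h2, c.fst_mul, c.fst_inv, hgg]; ring
    have hfix := c.centralAut_apply_center hF h2 hφ hz
    have h1 := k2 g (g⁻¹ * g')
    rw [hfix, sub_self, add_zero, mul_inv_cancel_left] at h1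
    exact h1.symm
  choose γ hγ using c.exists_fst_eq hF h2
  refine ⟨{ toFun := fun a => ⟨c.snd (φ (γ a)) - c.snd (γ a), k1 _⟩
            map_zero' := ?_
            map_add' := ?_ }, ?_⟩
  · apply Subtype.ext
    have h1 := k3 (γ 0) 1 (by rw [hγ, c.fst_one])
    show c.snd (φ (γ 0)) - c.snd (γ 0) = 0
    rw [h1, map_one, sub_self]
  · intro a b
    apply Subtype.ext
    show c.snd (φ (γ (a + b))) - c.snd (γ (a + b))
      = (c.snd (φ (γ a)) - c.snd (γ a)) + (c.snd (φ (γ b)) - c.snd (γ b))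
    rw [k3 (γ (a + b)) (γ a * γ b) (by rw [hγ, c.fst_mul, hγ, hγ]), k2]
  · intro g
    show c.snd (φ g) = c.snd g + (c.snd (φ (γ (c.fst g))) - c.snd (γ (c.fst g)))
    rw [k3 (γ (c.fst g)) g (hγ _)]; ring

/-- Every additive `f : F → GF(q)` gives a central automorphism. -/
theorem UCoord.exists_centralAut (hF : Fintype.card F = q ^ 2) (h2 : (2 : F) = 0)
    (c : UCoord G F q) (f : F →+ (traceHom hF).ker) :
    ∃ φ : MulAut G, φ ∈ c.centralAut ∧ ∀ g, c.snd (φ g) = c.snd g + (f (c.fst g) : F) := by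
  have hrel : ∀ g : G, (c.snd g + (f (c.fst g) : F)) + (c.snd g + (f (c.fst g) : F)) ^ q
      = c.fst g * c.fst g ^ q := by
    intro g
    have hk : (f (c.fst g) : F) + (f (c.fst g) : F) ^ q = 0 := by
      have h := (f (c.fst g)).2
      rwa [AddMonoidHom.mem_ker, traceHom_apply] at h
    rw [frob_add_all hF]
    linear_combination c.rel g + hk
  obtain ⟨ψ, hψ⟩ : ∃ ψ : G → G, ∀ g, c.fst (ψ g) = c.fst g ∧
      c.snd (ψ g) = c.snd g + (f (c.fst g) : F) :=
    ⟨fun g => c.elt _ _ (hrel g), fun g => ⟨c.fst_elt _ _ _, c.snd_elt _ _ _⟩⟩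
  have hmul : ∀ g h, ψ (g * h) = ψ g * ψ h := by
    intro g h
    apply c.ext
    · rw [(hψ _).1, c.fst_mul, c.fst_mul, (hψ g).1, (hψ h).1]
    · rw [(hψ _).2, c.snd_mul, c.snd_mul, (hψ g).1, (hψ h).1, (hψ g).2, (hψ h).2, c.fst_mul,
        map_add, AddSubgroup.coe_add]
      ring
  have hinj : Function.Injective ψ := by
    intro g h hgh
    have e1 := congrArg c.fst hgh
    have e2 := congrArg c.snd hgh
    rw [(hψ g).1, (hψ h).1] at e1
    rw [(hψ g).2, (hψ h).2, e1] at e2
    exact c.ext _ _ e1 (add_right_cancel e2)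
  have := c.finite hF h2
  exact ⟨MulEquiv.ofBijective (MonoidHom.mk' ψ hmul)
    ⟨hinj, Finite.injective_iff_surjective.mp hinj⟩, fun g => (hψ g).1, fun g => (hψ g).2⟩

theorem UCoord.card_centralAut (hF : Fintype.card F = q ^ 2) (h2 : (2 : F) = 0)
    (c : UCoord G F q) : Nat.card c.centralAut = Nat.card (F →+ (traceHom hF).ker) := by
  choose Θ hΘ1 hΘ2 using c.exists_centralAut hF h2
  have hbij : Function.Bijective
      (fun f : F →+ (traceHom hF).ker => (⟨Θ f, hΘ1 f⟩ : c.centralAut)) := by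
    constructor
    · intro f f' hff
      have e : Θ f = Θ f' := congrArg Subtype.val hff
      apply AddMonoidHom.ext
      intro a
      apply Subtype.ext
      obtain ⟨g, rfl⟩ := c.exists_fst_eq hF h2 a
      have h1 := hΘ2 f g
      have h3 := hΘ2 f' g
      rw [e] at h1
      exact add_left_cancel (h1.symm.trans h3)
    · rintro ⟨φ, hφ⟩
      obtain ⟨f, hf⟩ := c.centralAut_exists_hom hF h2 hφ
      refine ⟨f, Subtype.ext ?_⟩
      apply MulEquiv.ext
      intro g
      have h1 : c.fst (Θ f g) = c.fst g := hΘ1 f g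
      have h3 : c.fst (φ g) = c.fst g := hφ g
      apply c.ext
      · rw [h1, h3]
      · rw [hΘ2 f g, hf g]
  exact (Nat.card_congr (Equiv.ofBijective _ hbij)).symm

theorem UCoord.centralAut_sq (hF : Fintype.card F = q ^ 2) (h2 : (2 : F) = 0)
    (c : UCoord G F q) {φ : MulAut G} (hφ : φ ∈ c.centralAut) : φ ^ 2 = 1 := by
  obtain ⟨f, hf⟩ := c.centralAut_exists_hom hF h2 hφ
  have hφ' : ∀ g, c.fst (φ g) = c.fst g := hφ
  apply MulEquiv.ext
  intro g
  rw [pow_two, MulAut.mul_apply, MulAut.one_apply]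
  apply c.ext
  · rw [hφ', hφ']
  · rw [hf, hf, hφ' g]
    linear_combination ((f (c.fst g) : F)) * h2

theorem UCoord.centralAut_comm (hF : Fintype.card F = q ^ 2) (h2 : (2 : F) = 0)
    (c : UCoord G F q) {φ ψ : MulAut G} (hφ : φ ∈ c.centralAut) (hψ : ψ ∈ c.centralAut) :
    φ * ψ = ψ * φ := by
  obtain ⟨f, hf⟩ := c.centralAut_exists_hom hF h2 hφ
  obtain ⟨f', hf'⟩ := c.centralAut_exists_hom hF h2 hψ
  have hφ' : ∀ g, c.fst (φ g) = c.fst g := hφ
  have hψ' : ∀ g, c.fst (ψ g) = c.fst g := hψ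
  apply MulEquiv.ext
  intro g
  rw [MulAut.mul_apply, MulAut.mul_apply]
  apply c.ext
  · rw [hφ', hψ', hψ', hφ']
  · rw [hf, hf', hf', hf, hφ' g, hψ' g]; ring

theorem UCoord.card_centralAut_eq (hF : Fintype.card F = q ^ 2) (h2 : (2 : F) = 0)
    (c : UCoord G F q) (n : ℕ) (hq : q = 2 ^ n) : Nat.card c.centralAut = 2 ^ (2 * n ^ 2) := by
  rw [c.card_centralAut hF h2]
  have hA : ∀ x : F, 2 • x = 0 := fun x => by
    rw [two_nsmul]; linear_combination x * h2
  have hB : ∀ x : (traceHom hF).ker, 2 • x = 0 := fun x => by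
    apply Subtype.ext
    rw [two_nsmul]
    show (x : F) + x = 0
    linear_combination (x : F) * h2
  have hAc : Nat.card F = 2 ^ (2 * n) := by
    rw [Nat.card_eq_fintype_card, hF, hq]; ring
  have hBc : Nat.card (traceHom hF).ker = 2 ^ n := by rw [card_ker_traceHom hF h2, hq]
  rw [card_addMonoidHom_two hA hB (2 * n) n hAc hBc]
  congr 1; ring

theorem UCoord.card_range_autHom (hF : Fintype.card F = q ^ 2) (h2 : (2 : F) = 0)
    (c : UCoord G F q) :
    Nat.card (c.autHom hF h2).range = (q ^ 2 - 1) * Nat.card (F ≃+* F) := by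
  choose Φ hΦ using fun p : Fˣ × (F ≃+* F) =>
    c.exists_aut_semilinear hF h2 (p.1 : F) p.1.ne_zero p.2
  have hΦa : ∀ p a, c.autHom hF h2 (Φ p) a = (p.1 : F) * p.2 a := by
    intro p a
    obtain ⟨g, rfl⟩ := c.exists_fst_eq hF h2 a
    rw [c.autHom_fst, (hΦ p g).1]
  have hbij : Function.Bijective (fun p : Fˣ × (F ≃+* F) =>
      (⟨c.autHom hF h2 (Φ p), ⟨Φ p, rfl⟩⟩ : (c.autHom hF h2).range)) := by
    constructor
    · intro p p' hpp
      have e : c.autHom hF h2 (Φ p) = c.autHom hF h2 (Φ p') := congrArg Subtype.val hpp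
      have e1 : ∀ a, (p.1 : F) * p.2 a = (p'.1 : F) * p'.2 a := fun a => by
        rw [← hΦa, ← hΦa, e]
      have hu : (p.1 : F) = p'.1 := by
        have h := e1 1
        rwa [map_one, map_one, mul_one, mul_one] at h
      apply Prod.ext
      · exact Units.ext hu
      · apply RingEquiv.ext
        intro a
        have h := e1 a
        rw [hu] at h
        exact mul_left_cancel₀ p'.1.ne_zero h
    · rintro ⟨_, φ, rfl⟩
      obtain ⟨σ, hσ⟩ := c.autL_semilinear hF h2 φ
      refine ⟨(Units.mk0 _ (c.autL_one_ne_zero hF h2 φ), σ), Subtype.ext ?_⟩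
      apply Equiv.ext
      intro a
      rw [hΦa, c.autHom_apply]
      exact (hσ a).symm
  rw [← Nat.card_congr (Equiv.ofBijective _ hbij), Nat.card_prod, Nat.card_units,
    Nat.card_eq_fintype_card, hF]

theorem UCoord.card_mulAut (hF : Fintype.card F = q ^ 2) (h2 : (2 : F) = 0)
    (c : UCoord G F q) (n : ℕ) (hq : q = 2 ^ n) :
    Nat.card (MulAut G) = 2 ^ (2 * n ^ 2) * (2 * n * (q ^ 2 - 1)) := by
  have h1 := Subgroup.card_mul_index (c.autHom hF h2).ker
  rw [Subgroup.index_ker, c.ker_autHom hF h2, c.card_centralAut_eq hF h2 n hq,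
    c.card_range_autHom hF h2,
    card_ringAut_of_card_two_pow (2 * n) (by rw [hF, hq]; ring) h2] at h1
  rw [← h1]; ring

theorem UCoord.pCore_mulAut (hF : Fintype.card F = q ^ 2) (h2 : (2 : F) = 0)
    (c : UCoord G F q) (n : ℕ) (hq : q = 2 ^ n) :
    Cfsg.pCore 2 (MulAut G) = c.centralAut := by
  have hq2 := two_le_of_card_sq hF
  have hT : IsPGroup 2 (Cfsg.pCore 2 (MulAut G)) :=
    Sylow.sSup_of_normal _ (fun _ h => h.2) (fun _ h => h.1)
  have hTn : (Cfsg.pCore 2 (MulAut G)).Normal := Subgroup.sSup_normal _ (fun _ h => h.1)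
  apply le_antisymm
  · intro τ hτ
    rw [← c.ker_autHom hF h2, MonoidHom.mem_ker]
    have hodd : Odd (q ^ 2 - 1) := by
      apply Nat.Even.sub_odd (Nat.one_le_pow _ _ (by omega)) _ odd_one
      rw [hq, ← pow_mul]
      have hn : n ≠ 0 := by
        rintro rfl
        rw [pow_zero] at hq
        omega
      exact (Nat.even_pow.mpr ⟨even_two, by positivity⟩)
    have key : ∀ κ ∈ Cfsg.pCore 2 (MulAut G), ∀ w : F, w ≠ 0 →
        (∀ a, c.autHom hF h2 κ a = w * a) → w = 1 := by
      intro κ hκ w hw hκw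
      obtain ⟨k, hk⟩ := hT ⟨κ, hκ⟩
      have hk' : κ ^ (2 ^ k) = 1 := by
        have h := congrArg Subtype.val hk
        simpa using h
      have hpow : ∀ m : ℕ, ∀ a, c.autHom hF h2 (κ ^ m) a = w ^ m * a := by
        intro m
        induction m with
        | zero => intro a; simp
        | succ m ih =>
          intro a
          rw [pow_succ, map_mul, Equiv.Perm.mul_apply, hκw, ih]; ring
      have h1 : w ^ (2 ^ k) = 1 := by
        have h := hpow (2 ^ k) 1
        have e1 : c.autHom hF h2 1 = 1 := map_one _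
        rw [hk', e1, mul_one, Equiv.Perm.one_apply] at h
        exact h.symm
      have h3 : w ^ (q ^ 2 - 1) = 1 := by
        rw [← hF]; exact FiniteField.pow_card_sub_one_eq_one w hw
      have hcop : Nat.Coprime (2 ^ k) (q ^ 2 - 1) :=
        Nat.Coprime.pow_left k (Nat.coprime_two_left.mpr hodd)
      have hord : orderOf w ∣ 1 := by
        rw [← Nat.Coprime.gcd_eq_one hcop]
        exact Nat.dvd_gcd (orderOf_dvd_of_pow_eq_one h1) (orderOf_dvd_of_pow_eq_one h3)
      exact orderOf_eq_one_iff.mp (Nat.dvd_one.mp hord)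
    obtain ⟨σ, hσ⟩ := c.autL_semilinear hF h2 τ
    obtain ⟨v, hv⟩ : ∃ v : F, v = c.autL hF h2 τ 1 := ⟨_, rfl⟩
    rw [← hv] at hσ
    have hv0 : v ≠ 0 := by rw [hv]; exact c.autL_one_ne_zero hF h2 τ
    have hτa : ∀ a, c.autHom hF h2 τ a = v * σ a := fun a => hσ a
    have hσid : ∀ u : F, σ u = u := by
      intro u
      by_cases hu : u = 0
      · rw [hu, map_zero]
      obtain ⟨μ, hμ⟩ := c.exists_aut_semilinear hF h2 u hu (RingEquiv.refl F)
      have hμa : ∀ a, c.autHom hF h2 μ a = u * a := by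
        intro a
        obtain ⟨g, rfl⟩ := c.exists_fst_eq hF h2 a
        rw [c.autHom_fst, (hμ g).1]
        rfl
      obtain ⟨κ, hκdef⟩ : ∃ κ : MulAut G, κ = τ * μ * τ⁻¹ * μ⁻¹ := ⟨_, rfl⟩
      have hκ : κ ∈ Cfsg.pCore 2 (MulAut G) := by
        have h1 : μ * τ⁻¹ * μ⁻¹ ∈ Cfsg.pCore 2 (MulAut G) := hTn.conj_mem _ (inv_mem hτ) μ
        have h3 := mul_mem hτ h1
        rw [hκdef]
        have e : τ * μ * τ⁻¹ * μ⁻¹ = τ * (μ * τ⁻¹ * μ⁻¹) := by group
        rw [e]; exact h3
      have e : κ * (μ * τ) = τ * μ := by rw [hκdef]; group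
      have h1 : ∀ b, c.autHom hF h2 κ (u * (v * σ b)) = v * (σ u * σ b) := by
        intro b
        have h := congrArg (fun p : Equiv.Perm F => p b) (congrArg (c.autHom hF h2) e)
        simp only [map_mul, Equiv.Perm.mul_apply, hτa, hμa] at h
        exact h
      have hκa : ∀ a, c.autHom hF h2 κ a = (σ u / u) * a := by
        intro a
        have hb : u * (v * σ (σ.symm (a / (u * v)))) = a := by
          rw [RingEquiv.apply_symm_apply]; field_simp
        have h := h1 (σ.symm (a / (u * v)))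
        rw [hb, RingEquiv.apply_symm_apply] at h
        rw [h]; field_simp
      have hσu : σ u ≠ 0 := (map_ne_zero_iff σ σ.injective).mpr hu
      have h := key κ hκ (σ u / u) (div_ne_zero hσu hu) hκa
      exact (div_eq_one_iff_eq hu).mp h
    have hv1 : v = 1 := by
      apply key τ hτ v hv0
      intro a
      rw [hτa, hσid]
    apply Equiv.ext
    intro a
    rw [hτa, hσid, hv1, one_mul]
    rfl
  · have hn : (c.centralAut).Normal := by
      rw [← c.ker_autHom hF h2]; exact MonoidHom.normal_ker _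
    exact le_sSup ⟨hn, IsPGroup.of_card (c.card_centralAut_eq hF h2 n hq)⟩

/-- The structure of `Aut G`: `O_2(Aut G)` is elementary abelian of order `2 ^ (2 n^2)` and
`|Aut G| = 2 ^ (2 n^2) * (2 n (q^2 - 1))`. -/
theorem UCoord.aut_structure (hF : Fintype.card F = q ^ 2) (h2 : (2 : F) = 0)
    (c : UCoord G F q) (n : ℕ) (hq : q = 2 ^ n) :
    Cfsg.IsElementaryAbelian 2 (Cfsg.pCore 2 (MulAut G)) ∧
      Nat.card (Cfsg.pCore 2 (MulAut G)) = 2 ^ (2 * n ^ 2) ∧
      Nat.card (MulAut G) = 2 ^ (2 * n ^ 2) * (2 * n * (q ^ 2 - 1)) := by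
  rw [c.pCore_mulAut hF h2 n hq]
  refine ⟨⟨⟨⟨fun a b => Subtype.ext (c.centralAut_comm hF h2 a.2 b.2)⟩⟩,
    fun a ha => c.centralAut_sq hF h2 ha⟩, c.card_centralAut_eq hF h2 n hq,
    c.card_mulAut hF h2 n hq⟩

end Central

end Cfsg.Agent.Lib.helper58
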