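import Mathlib
import Cfsg.Prelude.Def_Classical
import Cfsg.Prelude.Def_GeometricClasses
import Cfsg.Agent.Lib.helper49.WittIso
import Cfsg.Agent.Lib.helper53.SfoBINREP

/-!
S5977 / S5978 block [A] (helper59 split), piece KAPPAJ (`sfk_kappa_neg`): for an isometry `x` with
`x * x = -1` and an orthogonal basis `e_i, x e_i`, the map `κ' e_i = α e_i + β x e_i`,
`κ' (x e_i) = β e_i - α x e_i` (`α² + β² = δ`) is a self-adjoint square root of `δ` anticommuting
with `x`.
-/

set_option autoImplicit false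

namespace Cfsg.Agent.Lib.helper59.Sfk

open Matrix Cfsg.Geo
open Cfsg.Agent.Lib.helper49 (detHom spinorSign)

theorem sfk_kappa_neg {F : Type*} [Field F] [Fintype F] {ι : Type} [Fintype ι] [DecidableEq ι]
    (h2 : (2 : F) ≠ 0) (Q : QuadraticForm F (ι → F))
    (hQ : (QuadraticMap.polarBilin Q).Nondegenerate) (δ : F)
    (x : GL ι F) (hx : x ∈ Cfsg.isometryGroup F (⇑Q))
    (hxx : (x : Matrix ι ι F) * (x : Matrix ι ι F) = -1)
    (m : ℕ) (e : Fin m → (ι → F))
    (hli : LinearIndependent F (Sum.elim e (fun i => (x : Matrix ι ι F) *ᵥ e i)))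
    (hcard : Fintype.card ι = 2 * m)
    (ho1 : ∀ i j, i ≠ j → QuadraticMap.polar (⇑Q) (e i) (e j) = 0)
    (ho2 : ∀ i j, QuadraticMap.polar (⇑Q) (e i) ((x : Matrix ι ι F) *ᵥ e j) = 0)
    (hne : ∀ i, Q (e i) ≠ 0) :
    ∃ (κ' : Matrix ι ι F) (α β : F), κ' * κ' = δ • (1 : Matrix ι ι F) ∧
      (∀ u v : ι → F, QuadraticMap.polar (⇑Q) (κ' *ᵥ u) v = QuadraticMap.polar (⇑Q) u (κ' *ᵥ v)) ∧
      (x : Matrix ι ι F) * κ' = -(κ' * (x : Matrix ι ι F)) ∧
      ∀ i, κ' *ᵥ e i = α • e i + β • ((x : Matrix ι ι F) *ᵥ e i) := by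
  classical
  set X : Matrix ι ι F := (x : Matrix ι ι F) with hX
  obtain ⟨α, β, hαβ⟩ := Cfsg.Agent.Lib.helper24.sfo_bin_rep h2 1 1 δ one_ne_zero one_ne_zero
  have hαβ' : α * α + β * β = δ := by linear_combination hαβ
  have hXX : ∀ v : ι → F, X *ᵥ (X *ᵥ v) = -v := by
    intro v
    rw [Matrix.mulVec_mulVec, hxx, Matrix.neg_mulVec, Matrix.one_mulVec]
  have hcard' : Fintype.card (Fin m ⊕ Fin m) = Module.finrank F (ι → F) := by
    rw [Module.finrank_fintype_fun_eq_card, hcard, Fintype.card_sum, Fintype.card_fin]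
    ring
  let b : Module.Basis (Fin m ⊕ Fin m) F (ι → F) :=
    basisOfLinearIndependentOfCardEqFinrank' _ hli hcard'
  have hb : ∀ j, b j = Sum.elim e (fun i => X *ᵥ e i) j := by
    intro j
    simp [b]
  let κL : (ι → F) →ₗ[F] (ι → F) :=
    b.constr F (Sum.elim (fun i => α • e i + β • X *ᵥ e i) (fun i => β • e i - α • X *ᵥ e i))
  have hκe : ∀ i, κL (e i) = α • e i + β • X *ᵥ e i := by
    intro i
    have h := b.constr_basis F
      (Sum.elim (fun i => α • e i + β • X *ᵥ e i) (fun i => β • e i - α • X *ᵥ e i)) (Sum.inl i)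
    rw [hb] at h
    exact h
  have hκxe : ∀ i, κL (X *ᵥ e i) = β • e i - α • X *ᵥ e i := by
    intro i
    have h := b.constr_basis F
      (Sum.elim (fun i => α • e i + β • X *ᵥ e i) (fun i => β • e i - α • X *ᵥ e i)) (Sum.inr i)
    rw [hb] at h
    exact h
  refine ⟨LinearMap.toMatrix' κL, α, β, ?_, ?_, ?_, ?_⟩
  · have h : κL ∘ₗ κL = δ • LinearMap.id := by
      apply b.ext
      intro j
      rw [hb]
      rcases j with i | i
      · simp only [Sum.elim_inl, LinearMap.comp_apply, hκe, map_add, map_smul, hκxe,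
          LinearMap.smul_apply, LinearMap.id_apply]
        rw [← hαβ']
        module
      · simp only [Sum.elim_inr, LinearMap.comp_apply, hκe, map_sub, map_smul, hκxe,
          LinearMap.smul_apply, LinearMap.id_apply]
        rw [← hαβ']
        module
    rw [← LinearMap.toMatrix'_comp, h]
    simp
  · have hiso : ∀ u v : ι → F, QuadraticMap.polar (⇑Q) (X *ᵥ u) (X *ᵥ v) =
        QuadraticMap.polar (⇑Q) u v :=
      fun u v => Cfsg.Agent.Lib.helper49.isometry_polar Q ⟨x, hx⟩ u v
    have ho2' : ∀ i j, QuadraticMap.polar (⇑Q) (X *ᵥ e i) (e j) = 0 := by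
      intro i j
      rw [QuadraticMap.polar_comm]
      exact ho2 j i
    have hB : (QuadraticMap.polarBilin Q).comp κL = (QuadraticMap.polarBilin Q).compl₂ κL := by
      apply LinearMap.ext_basis b b
      intro j j'
      simp only [LinearMap.comp_apply, LinearMap.compl₂_apply,
        QuadraticMap.polarBilin_apply_apply, hb]
      rcases j with i | i <;> rcases j' with i' | i' <;>
        simp only [Sum.elim_inl, Sum.elim_inr, hκe, hκxe, QuadraticMap.polar_add_left,
          QuadraticMap.polar_add_right, QuadraticMap.polar_smul_left,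
          QuadraticMap.polar_smul_right, QuadraticMap.polar_sub_left,
          QuadraticMap.polar_sub_right, ho2, ho2', hiso, smul_eq_mul] <;> ring
    intro u v
    have h := LinearMap.congr_fun (LinearMap.congr_fun hB u) v
    simpa [LinearMap.toMatrix'_mulVec] using h
  · have h : Matrix.toLin' X ∘ₗ κL = -(κL ∘ₗ Matrix.toLin' X) := by
      apply b.ext
      intro j
      rw [hb]
      rcases j with i | i
      · simp only [Sum.elim_inl, LinearMap.comp_apply, LinearMap.neg_apply, Matrix.toLin'_apply,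
          hκe, hκxe, Matrix.mulVec_add, Matrix.mulVec_smul, hXX]
        module
      · simp only [Sum.elim_inr, LinearMap.comp_apply, LinearMap.neg_apply, Matrix.toLin'_apply,
          hκe, hκxe, Matrix.mulVec_sub, Matrix.mulVec_smul, hXX, map_neg]
        module
    have h' := congrArg LinearMap.toMatrix' h
    rw [LinearMap.toMatrix'_comp, map_neg, LinearMap.toMatrix'_comp,
      LinearMap.toMatrix'_toLin'] at h'
    exact h'
  · intro i
    rw [LinearMap.toMatrix'_mulVec, hκe]

end Cfsg.Agent.Lib.helper59.Sfk
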