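import Mathlib
import Cfsg.Prelude.Def_Classical
import Cfsg.Prelude.Def_GeometricClasses
import Cfsg.Agent.Lib.helper49.WittIso

/-!
S5977 / S5978 block [A] (helper59 split), piece RHO1 (`sfk_rho_one`): the reflection in an
eigenvector of an isometry `x` commutes with `x` and has determinant `-1`.
-/

set_option autoImplicit false

namespace Cfsg.Agent.Lib.helper59.Sfk

open Matrix Cfsg.Geo
open Cfsg.Agent.Lib.helper49 (detHom spinorSign)

theorem sfk_rho_one {F : Type*} [Field F] [Fintype F] {ι : Type} [Fintype ι] [DecidableEq ι]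
    (h2 : (2 : F) ≠ 0) (Q : QuadraticForm F (ι → F))
    (hQ : (QuadraticMap.polarBilin Q).Nondegenerate)
    (x : GL ι F) (hx : x ∈ Cfsg.isometryGroup F (⇑Q)) (u : ι → F) (c : F)
    (hu : (x : Matrix ι ι F) *ᵥ u = c • u) (hQu : Q u ≠ 0) :
    ∃ r : ↥(Cfsg.isometryGroup F (⇑Q)),
      ((r : GL ι F) : Matrix ι ι F) * (x : Matrix ι ι F) =
        (x : Matrix ι ι F) * ((r : GL ι F) : Matrix ι ι F) ∧
      detHom (⇑Q) r = -1 := by
  refine ⟨Cfsg.Agent.Lib.helper49.reflG Q u hQu, ?_, Cfsg.Agent.Lib.helper49.detHom_reflG Q u hQu⟩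
  have hcc : c * c = 1 := by
    have h1 : Q ((x : Matrix ι ι F) *ᵥ u) = Q u :=
      Cfsg.Agent.Lib.helper49.isometry_apply (⇑Q) ⟨x, hx⟩ u
    rw [hu, QuadraticMap.map_smul, smul_eq_mul] at h1
    have h3 : (c * c - 1) * Q u = 0 := by linear_combination h1
    rcases mul_eq_zero.1 h3 with h | h
    · exact sub_eq_zero.1 h
    · exact absurd h hQu
  have hpol : ∀ v : ι → F, QuadraticMap.polar Q u ((x : Matrix ι ι F) *ᵥ v) =
      c * QuadraticMap.polar Q u v := by
    intro v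
    have h1 : QuadraticMap.polar Q ((x : Matrix ι ι F) *ᵥ u) ((x : Matrix ι ι F) *ᵥ v) =
        QuadraticMap.polar Q u v :=
      Cfsg.Agent.Lib.helper49.isometry_polar Q ⟨x, hx⟩ u v
    rw [hu, QuadraticMap.polar_smul_left, smul_eq_mul] at h1
    calc QuadraticMap.polar Q u ((x : Matrix ι ι F) *ᵥ v)
        = (c * c) * QuadraticMap.polar Q u ((x : Matrix ι ι F) *ᵥ v) := by rw [hcc, one_mul]
      _ = c * (c * QuadraticMap.polar Q u ((x : Matrix ι ι F) *ᵥ v)) := by ring
      _ = c * QuadraticMap.polar Q u v := by rw [h1]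
  apply Matrix.toLin'.injective
  apply LinearMap.ext
  intro v
  rw [Matrix.toLin'_apply, Matrix.toLin'_apply, ← Matrix.mulVec_mulVec, ← Matrix.mulVec_mulVec,
    Cfsg.Agent.Lib.helper49.reflG_val, Cfsg.Agent.Lib.helper49.refl_mulVec,
    Cfsg.Agent.Lib.helper49.refl_mulVec, hpol, Matrix.mulVec_sub, Matrix.mulVec_smul, hu,
    smul_smul]
  congr 2
  ring

end Cfsg.Agent.Lib.helper59.Sfk
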