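import Mathlib
import Cfsg.Agent.Lib.helper44.SzLaw

/-!
# Explicit elements and subgroups of the Suzuki groups `Cfsg.Lie.Sz F e`

* `sq_card_dvd_card_Sz`: the unipotent subgroup of order `q ^ 2`, hence `q ^ 2 ∣ |Sz|`;
* `exists_orderOf_eq_13`: over the field with 8 elements `Lie.Sz F 4` has an element of order 13;
* `exists_orderOf_eq_41`: over the field with 32 elements `Lie.Sz F 8` has an element of order 41.
-/

set_option autoImplicit false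

namespace Cfsg.Agent.Lib.helper58

open Cfsg.Agent.Lib.helper44
open Matrix

section Unipotent

variable {R : Type*} [CommRing R]

/-- Central upper unitriangular Suzuki element (with `x = θ w`). -/
def szZm (w x : R) : Matrix (Fin 4) (Fin 4) R :=
  !![1, 0, w, x; 0, 1, 0, w; 0, 0, 1, 0; 0, 0, 0, 1]

theorem szZm_mul (w x w' x' : R) : szZm w x * szZm w' x' = szZm (w + w') (x + x') := by
  ext i j
  fin_cases i <;> fin_cases j <;>
    simp [szZm, Matrix.mul_apply, Fin.sum_univ_four] <;> ring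

theorem szZm_zero : szZm (0 : R) 0 = 1 := by
  ext i j
  fin_cases i <;> fin_cases j <;> simp [szZm]

theorem szZm_mul_self (h2 : (2 : R) = 0) (w x : R) : szZm w x * szZm w x = 1 := by
  rw [szZm_mul]
  have hw : w + w = 0 := by rw [← two_mul, h2, zero_mul]
  have hx : x + x = 0 := by rw [← two_mul, h2, zero_mul]
  rw [hw, hx, szZm_zero]

theorem szZm_mul_szU (w x a b : R) : szZm w x * szU a b = szU a b * szZm w x := by
  ext i j
  fin_cases i <;> fin_cases j <;>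
    simp [szZm, szU, Matrix.mul_apply, Fin.sum_univ_four] <;> ring

theorem szU_mul_szU (h2 : (2 : R) = 0) (a b c d : R) :
    szU a b * szU c d = szU (a + c) (b + d) * szZm (b * c) (a ^ 2 * d) := by
  ext i j
  fin_cases i <;> fin_cases j <;>
    simp [szZm, szU, Matrix.mul_apply, Fin.sum_univ_four] <;> grind

theorem szU_zero : szU (0 : R) 0 = 1 := by
  ext i j
  fin_cases i <;> fin_cases j <;> simp [szU]

theorem altForm4_szZm (h2 : (2 : R) = 0) (w x : R) (u v : Fin 4 → R) :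
    Cfsg.Lie.altForm4 (szZm w x *ᵥ u) (szZm w x *ᵥ v) = Cfsg.Lie.altForm4 u v := by
  simp [Cfsg.Lie.altForm4, szZm, Matrix.mulVec, dotProduct, Fin.sum_univ_four]
  grind

theorem star4_szZm (h2 : (2 : R) = 0) (e : ℕ) (he : e ≠ 0) (w x : R) (hwx : w ^ e = x)
    (hx : x ^ e = w ^ 2) :
    Cfsg.Lie.star4 (szZm w x) = (szZm w x).map (fun x => x ^ e) := by
  ext p r
  fin_cases p <;> fin_cases r <;>
    simp [Cfsg.Lie.star4, Cfsg.Lie.pairOf, szZm, he, hwx, hx] <;> grind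

end Unipotent

section Sigma

variable {F : Type*} [Field F]

/-- Central unipotent element of `GL₄`. -/
def szZU (h2 : (2 : F) = 0) (w x : F) : GL (Fin 4) F :=
  ⟨szZm w x, szZm w x, szZm_mul_self h2 w x, szZm_mul_self h2 w x⟩

theorem szZU_mem (h2 : (2 : F) = 0) (e : ℕ) (he : e ≠ 0) (hθ : ∀ x : F, (x ^ e) ^ e = x ^ 2)
    (w : F) : szZU h2 w (w ^ e) ∈ Cfsg.Lie.Sz F e := by
  apply Subgroup.subset_closure
  refine ⟨?_, ?_⟩
  · intro u v
    exact altForm4_szZm h2 w (w ^ e) u v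
  · exact star4_szZm h2 e he w (w ^ e) rfl (hθ w)

/-- The general element of the unipotent subgroup. -/
def szT (h2 : (2 : F) = 0) (e : ℕ) (a w : F) : GL (Fin 4) F :=
  szUU h2 a (a ^ e) * szZU h2 w (w ^ e)

theorem szT_val (h2 : (2 : F) = 0) (e : ℕ) (a w : F) :
    ((szT h2 e a w : GL (Fin 4) F) : Matrix (Fin 4) (Fin 4) F) =
      szU a (a ^ e) * szZm w (w ^ e) := rfl

theorem szT_mem (h2 : (2 : F) = 0) (e : ℕ) (he : e ≠ 0) (hθ : ∀ x : F, (x ^ e) ^ e = x ^ 2)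
    (a w : F) : szT h2 e a w ∈ Cfsg.Lie.Sz F e :=
  Subgroup.mul_mem _ (szUU_mem h2 e he hθ a) (szZU_mem h2 e he hθ w)

theorem szT_mul (h2 : (2 : F) = 0) (e : ℕ) (hθ : ∀ x : F, (x ^ e) ^ e = x ^ 2)
    (hadd : ∀ x y : F, (x + y) ^ e = x ^ e + y ^ e) (a w c v : F) :
    szT h2 e a w * szT h2 e c v = szT h2 e (a + c) (a ^ e * c + w + v) := by
  apply Units.ext
  rw [Units.val_mul, szT_val, szT_val, szT_val]
  have h1 : szU a (a ^ e) * szZm w (w ^ e) * (szU c (c ^ e) * szZm v (v ^ e)) =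
      szU a (a ^ e) * szU c (c ^ e) * (szZm w (w ^ e) * szZm v (v ^ e)) := by
    rw [mul_assoc, ← mul_assoc (szZm w (w ^ e)), szZm_mul_szU, mul_assoc, mul_assoc]
  rw [h1, szU_mul_szU h2, szZm_mul, mul_assoc, szZm_mul]
  have e1 : (a + c) ^ e = a ^ e + c ^ e := hadd a c
  have e2 : (a ^ e * c + w + v) ^ e = a ^ 2 * c ^ e + (w ^ e + v ^ e) := by
    rw [hadd, hadd, mul_pow, hθ]; ring
  rw [e1, e2]
  congr 2
  ring

theorem szT_zero (h2 : (2 : F) = 0) (e : ℕ) (he : e ≠ 0) : szT h2 e 0 0 = 1 := by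
  apply Units.ext
  rw [szT_val, zero_pow he, szU_zero, szZm_zero, one_mul]
  rfl

/-- The unipotent subgroup of the Suzuki group. -/
def szSigma (h2 : (2 : F) = 0) (e : ℕ) (he : e ≠ 0) (hθ : ∀ x : F, (x ^ e) ^ e = x ^ 2)
    (hadd : ∀ x y : F, (x + y) ^ e = x ^ e + y ^ e) : Subgroup (GL (Fin 4) F) where
  carrier := {g | ∃ a w : F, g = szT h2 e a w}
  mul_mem' := by
    rintro _ _ ⟨a, w, rfl⟩ ⟨c, v, rfl⟩
    exact ⟨_, _, szT_mul h2 e hθ hadd a w c v⟩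
  one_mem' := ⟨0, 0, (szT_zero h2 e he).symm⟩
  inv_mem' := by
    rintro _ ⟨a, w, rfl⟩
    refine ⟨a, a ^ e * a + w, ?_⟩
    apply inv_eq_of_mul_eq_one_right
    rw [szT_mul h2 e hθ hadd]
    have h1 : a + a = 0 := by rw [← two_mul, h2, zero_mul]
    have h3 : a ^ e * a + w + (a ^ e * a + w) = 0 := by rw [← two_mul, h2, zero_mul]
    rw [h1, h3, szT_zero h2 e he]

theorem szT_injective (h2 : (2 : F) = 0) (e : ℕ) :
    Function.Injective (fun p : F × F => szT h2 e p.1 p.2) := by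
  rintro ⟨a, w⟩ ⟨c, v⟩ h
  have h' : szU a (a ^ e) * szZm w (w ^ e) = szU c (c ^ e) * szZm v (v ^ e) := by
    have := congrArg (fun g : GL (Fin 4) F => (g : Matrix (Fin 4) (Fin 4) F)) h
    simpa [szT_val] using this
  have h01 := congrFun (congrFun h' 0) 1
  have h02 := congrFun (congrFun h' 0) 2
  simp [szU, szZm, Matrix.mul_apply, Fin.sum_univ_four] at h01 h02
  subst h01
  have : w = v := by
    have := h02
    simpa using this
  rw [this]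

/-- The Suzuki group over a field with `q` elements has order divisible by `q ^ 2`. -/
theorem sq_card_dvd_card_Sz [Fintype F] (h2 : (2 : F) = 0) (e : ℕ) (he : e ≠ 0)
    (hθ : ∀ x : F, (x ^ e) ^ e = x ^ 2) (hadd : ∀ x y : F, (x + y) ^ e = x ^ e + y ^ e) :
    Fintype.card F ^ 2 ∣ Nat.card (Cfsg.Lie.Sz F e) := by
  have hle : szSigma h2 e he hθ hadd ≤ Cfsg.Lie.Sz F e := by
    rintro _ ⟨a, w, rfl⟩
    exact szT_mem h2 e he hθ a w
  have hcard : Nat.card (szSigma h2 e he hθ hadd) = Fintype.card F ^ 2 := by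
    have hbij : Function.Bijective
        (fun p : F × F => (⟨szT h2 e p.1 p.2, p.1, p.2, rfl⟩ : szSigma h2 e he hθ hadd)) := by
      constructor
      · intro p p' h
        exact szT_injective h2 e (congrArg Subtype.val h)
      · rintro ⟨_, a, w, rfl⟩
        exact ⟨(a, w), rfl⟩
    rw [← Nat.card_congr (Equiv.ofBijective _ hbij), Nat.card_prod, Nat.card_eq_fintype_card]
    ring
  rw [← hcard]
  exact Subgroup.card_dvd_of_le hle

end Sigma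

section Explicit

variable {F : Type*} [Field F]

/-- Power number 1 of the product `szU 1 1 * szL c (c ^ 4)`, reduced modulo the relation on `c`. -/
def sz8M1 (c : F) : Matrix (Fin 4) (Fin 4) F :=
  !![c ^ 2 + c, c ^ 2 + c, c + 1, 1; 1, c ^ 2 + c, 1, 0; c ^ 2 + 1, c ^ 2 + c + 1, c + 1, 1; c ^ 2 + c, 0, c, 1]

/-- Power number 2 of the product `szU 1 1 * szL c (c ^ 4)`, reduced modulo the relation on `c`. -/
def sz8M2 (c : F) : Matrix (Fin 4) (Fin 4) F :=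
  !![1, c ^ 2, c ^ 2 + c, c ^ 2; c ^ 2 + 1, c, c ^ 2 + c, 0; c ^ 2 + c + 1, c ^ 2 + 1, c, c ^ 2 + c + 1; c, 0, c + 1, c ^ 2 + 1]

/-- Power number 4 of the product `szU 1 1 * szL c (c ^ 4)`, reduced modulo the relation on `c`. -/
def sz8M4 (c : F) : Matrix (Fin 4) (Fin 4) F :=
  !![c, c ^ 2 + 1, c ^ 2, c; c ^ 2 + c + 1, c + 1, c ^ 2, c ^ 2 + c; 1, c ^ 2 + c, 1, c ^ 2; 1, c ^ 2 + c + 1, c ^ 2 + 1, c ^ 2 + c + 1]

/-- Power number 8 of the product `szU 1 1 * szL c (c ^ 4)`, reduced modulo the relation on `c`. -/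
def sz8M8 (c : F) : Matrix (Fin 4) (Fin 4) F :=
  !![c + 1, c ^ 2, c ^ 2 + 1, c ^ 2; c ^ 2 + 1, c + 1, c ^ 2 + c + 1, c ^ 2 + c; c, c, c ^ 2, c + 1; c, c ^ 2 + c + 1, c ^ 2 + c, c ^ 2 + c]

/-- Power number 12 of the product `szU 1 1 * szL c (c ^ 4)`, reduced modulo the relation on `c`. -/
def sz8M12 (c : F) : Matrix (Fin 4) (Fin 4) F :=
  !![1, 1, 0, 1; c, c + 1, 1, c + 1; 0, c ^ 2 + c + 1, c ^ 2 + c, c ^ 2 + c; c ^ 2 + c, c ^ 2 + 1, 1, c ^ 2 + c]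

theorem sz8M1_eq (h2 : (2 : F) = 0) (c : F) (hc : c ^ 3 + c ^ 2 + 1 = 0) :
    szU 1 1 * szL c (c ^ 4) = sz8M1 c := by
  ext i j
  fin_cases i <;> fin_cases j <;>
    simp [szU, szL, sz8M1, Matrix.mul_apply, Fin.sum_univ_four] <;> grind

theorem sz8M2_eq (h2 : (2 : F) = 0) (c : F) (hc : c ^ 3 + c ^ 2 + 1 = 0) :
    sz8M1 c * sz8M1 c = sz8M2 c := by
  ext i j
  fin_cases i <;> fin_cases j <;>
    simp [sz8M1, sz8M2, Matrix.mul_apply, Fin.sum_univ_four] <;> grind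

theorem sz8M4_eq (h2 : (2 : F) = 0) (c : F) (hc : c ^ 3 + c ^ 2 + 1 = 0) :
    sz8M2 c * sz8M2 c = sz8M4 c := by
  ext i j
  fin_cases i <;> fin_cases j <;>
    simp [sz8M2, sz8M4, Matrix.mul_apply, Fin.sum_univ_four] <;> grind

theorem sz8M8_eq (h2 : (2 : F) = 0) (c : F) (hc : c ^ 3 + c ^ 2 + 1 = 0) :
    sz8M4 c * sz8M4 c = sz8M8 c := by
  ext i j
  fin_cases i <;> fin_cases j <;>
    simp [sz8M4, sz8M8, Matrix.mul_apply, Fin.sum_univ_four] <;> grind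

theorem sz8M12_eq (h2 : (2 : F) = 0) (c : F) (hc : c ^ 3 + c ^ 2 + 1 = 0) :
    sz8M8 c * sz8M4 c = sz8M12 c := by
  ext i j
  fin_cases i <;> fin_cases j <;>
    simp [sz8M12, sz8M4, sz8M8, Matrix.mul_apply, Fin.sum_univ_four] <;> grind

theorem sz8M13_eq (h2 : (2 : F) = 0) (c : F) (hc : c ^ 3 + c ^ 2 + 1 = 0) :
    sz8M12 c * sz8M1 c = 1 := by
  ext i j
  fin_cases i <;> fin_cases j <;>
    simp [sz8M1, sz8M12, Matrix.mul_apply, Fin.sum_univ_four] <;> grind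

/-- Power number 1 of the product `szU 1 1 * szL c (c ^ 8)`, reduced modulo the relation on `c`. -/
def sz32M1 (c : F) : Matrix (Fin 4) (Fin 4) F :=
  !![c ^ 3, c ^ 3 + c ^ 2, c + 1, 1; c ^ 4 + c ^ 3, c ^ 3 + c ^ 2, 1, 0; c ^ 3 + c + 1, c ^ 3 + c ^ 2 + 1, c + 1, 1; c ^ 4 + 1, 0, c, 1]

/-- Power number 2 of the product `szU 1 1 * szL c (c ^ 8)`, reduced modulo the relation on `c`. -/
def sz32M2 (c : F) : Matrix (Fin 4) (Fin 4) F :=
  !![c ^ 4 + c ^ 2 + c + 1, c, c ^ 4 + c + 1, c ^ 3 + c; c ^ 2, c ^ 2 + c, c, c ^ 4 + c ^ 3 + 1; c ^ 4 + c ^ 2 + c + 1, c ^ 4 + c ^ 3 + c, c ^ 4 + c ^ 2 + c + 1, c ^ 3 + 1; c ^ 4 + c ^ 3 + c + 1, c ^ 3, c ^ 4 + c, c ^ 4 + c]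

/-- Power number 4 of the product `szU 1 1 * szL c (c ^ 8)`, reduced modulo the relation on `c`. -/
def sz32M4 (c : F) : Matrix (Fin 4) (Fin 4) F :=
  !![c ^ 3 + c + 1, c ^ 3 + c, 1, c ^ 3 + c ^ 2 + c + 1; c ^ 4 + c ^ 2, c ^ 4 + c ^ 3 + c + 1, c ^ 4 + c ^ 3 + c ^ 2 + c + 1, c ^ 4 + c ^ 3 + c ^ 2 + 1; c ^ 4 + c ^ 3 + c, c ^ 3 + c ^ 2 + c + 1, c ^ 4 + 1, c; c ^ 2, c ^ 3 + c ^ 2 + c + 1, c ^ 2, c ^ 4 + c ^ 3 + c ^ 2]

/-- Power number 8 of the product `szU 1 1 * szL c (c ^ 8)`, reduced modulo the relation on `c`. -/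
def sz32M8 (c : F) : Matrix (Fin 4) (Fin 4) F :=
  !![c ^ 4, 1, c ^ 4 + c ^ 3 + c + 1, c ^ 3 + c ^ 2 + 1; c, 0, c ^ 4 + c ^ 2 + c + 1, c ^ 4; c ^ 4 + c ^ 3 + 1, c ^ 3, c ^ 3 + c, c ^ 4 + c; c + 1, c ^ 4 + c ^ 3 + c ^ 2, 1, c ^ 3 + c ^ 2]

/-- Power number 16 of the product `szU 1 1 * szL c (c ^ 8)`, reduced modulo the relation on `c`. -/
def sz32M16 (c : F) : Matrix (Fin 4) (Fin 4) F :=
  !![c ^ 3 + 1, c ^ 3 + c ^ 2 + c, c + 1, c ^ 4 + c ^ 2 + c + 1; c ^ 4 + c ^ 3 + c ^ 2, c ^ 4 + c ^ 3, 1, c ^ 4 + c ^ 3 + c ^ 2 + 1; c ^ 3 + c + 1, c ^ 3 + c ^ 2 + 1, c ^ 2, c ^ 4 + c + 1; c ^ 2 + 1, c ^ 3 + c ^ 2 + c + 1, c + 1, c ^ 3 + c ^ 2]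

/-- Power number 32 of the product `szU 1 1 * szL c (c ^ 8)`, reduced modulo the relation on `c`. -/
def sz32M32 (c : F) : Matrix (Fin 4) (Fin 4) F :=
  !![c ^ 3 + c ^ 2 + c, 1, c ^ 2 + 1, c ^ 2 + c; c, c ^ 4 + c ^ 3 + 1, c ^ 4 + c ^ 3 + c ^ 2 + c + 1, c ^ 2 + c; c ^ 4 + c ^ 3 + c ^ 2 + 1, c ^ 3 + c ^ 2 + c + 1, c ^ 4, c ^ 3 + c ^ 2; c ^ 3 + 1, c ^ 4 + c ^ 2 + c, c ^ 4 + c ^ 3, 1]

/-- Power number 40 of the product `szU 1 1 * szL c (c ^ 8)`, reduced modulo the relation on `c`. -/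
def sz32M40 (c : F) : Matrix (Fin 4) (Fin 4) F :=
  !![1, 1, 0, 1; c, c + 1, 1, c + 1; 0, c ^ 3 + c ^ 2 + 1, c ^ 3 + c ^ 2, c ^ 3 + c ^ 2; c ^ 4 + 1, c ^ 3 + c + 1, c ^ 4 + c ^ 3, c ^ 3]

theorem sz32M1_eq (h2 : (2 : F) = 0) (c : F) (hc : c ^ 5 + c ^ 2 + 1 = 0) :
    szU 1 1 * szL c (c ^ 8) = sz32M1 c := by
  ext i j
  fin_cases i <;> fin_cases j <;>
    simp [szU, szL, sz32M1, Matrix.mul_apply, Fin.sum_univ_four] <;> grind

theorem sz32M2_eq (h2 : (2 : F) = 0) (c : F) (hc : c ^ 5 + c ^ 2 + 1 = 0) :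
    sz32M1 c * sz32M1 c = sz32M2 c := by
  ext i j
  fin_cases i <;> fin_cases j <;>
    simp [sz32M1, sz32M2, Matrix.mul_apply, Fin.sum_univ_four] <;> grind

theorem sz32M4_eq (h2 : (2 : F) = 0) (c : F) (hc : c ^ 5 + c ^ 2 + 1 = 0) :
    sz32M2 c * sz32M2 c = sz32M4 c := by
  ext i j
  fin_cases i <;> fin_cases j <;>
    simp [sz32M2, sz32M4, Matrix.mul_apply, Fin.sum_univ_four] <;> grind

theorem sz32M8_eq (h2 : (2 : F) = 0) (c : F) (hc : c ^ 5 + c ^ 2 + 1 = 0) :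
    sz32M4 c * sz32M4 c = sz32M8 c := by
  ext i j
  fin_cases i <;> fin_cases j <;>
    simp [sz32M4, sz32M8, Matrix.mul_apply, Fin.sum_univ_four] <;> grind

theorem sz32M16_eq (h2 : (2 : F) = 0) (c : F) (hc : c ^ 5 + c ^ 2 + 1 = 0) :
    sz32M8 c * sz32M8 c = sz32M16 c := by
  ext i j
  fin_cases i <;> fin_cases j <;>
    simp [sz32M16, sz32M8, Matrix.mul_apply, Fin.sum_univ_four] <;> grind

theorem sz32M32_eq (h2 : (2 : F) = 0) (c : F) (hc : c ^ 5 + c ^ 2 + 1 = 0) :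
    sz32M16 c * sz32M16 c = sz32M32 c := by
  ext i j
  fin_cases i <;> fin_cases j <;>
    simp [sz32M16, sz32M32, Matrix.mul_apply, Fin.sum_univ_four] <;> grind

theorem sz32M40_eq (h2 : (2 : F) = 0) (c : F) (hc : c ^ 5 + c ^ 2 + 1 = 0) :
    sz32M32 c * sz32M8 c = sz32M40 c := by
  ext i j
  fin_cases i <;> fin_cases j <;>
    simp [sz32M32, sz32M40, sz32M8, Matrix.mul_apply, Fin.sum_univ_four] <;> grind

theorem sz32M41_eq (h2 : (2 : F) = 0) (c : F) (hc : c ^ 5 + c ^ 2 + 1 = 0) :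
    sz32M40 c * sz32M1 c = 1 := by
  ext i j
  fin_cases i <;> fin_cases j <;>
    simp [sz32M1, sz32M40, Matrix.mul_apply, Fin.sum_univ_four] <;> grind

theorem charP_two_of_card [Fintype F] (k : ℕ) (hF : Fintype.card F = 2 ^ k) : CharP F 2 := by
  obtain ⟨p, hp⟩ := CharP.exists F
  have := hp
  obtain ⟨n, hpp, hn⟩ := FiniteField.card F p
  have hdvd : p ∣ 2 ^ k := by
    rw [← hF, hn]
    exact dvd_pow_self p n.ne_zero
  have hp2 : p = 2 := (Nat.prime_dvd_prime_iff_eq hpp Nat.prime_two).mp (hpp.dvd_of_dvd_pow hdvd)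
  subst hp2
  exact hp

theorem two_eq_zero_of_card [Fintype F] (k : ℕ) (hF : Fintype.card F = 2 ^ k) : (2 : F) = 0 := by
  have := charP_two_of_card k hF
  have h := CharP.cast_eq_zero F 2
  exact_mod_cast h

/-- A field with 8 elements contains a root of `X³ + X² + 1`. -/
theorem exists_root_8 [Fintype F] (hF : Fintype.card F = 8) : ∃ c : F, c ^ 3 + c ^ 2 + 1 = 0 := by
  have h2 : (2 : F) = 0 := two_eq_zero_of_card 3 (by rw [hF]; norm_num)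
  obtain ⟨a, ha0, ha1⟩ : ∃ a : F, a ≠ 0 ∧ a ≠ 1 := by
    by_contra hcon
    push Not at hcon
    have : Fintype.card F ≤ 2 := by
      classical
      have hsub : (Finset.univ : Finset F) ⊆ {0, 1} := by
        intro x _
        by_cases hx : x = 0
        · simp [hx]
        · simp [hcon x hx]
      calc Fintype.card F = (Finset.univ : Finset F).card := rfl
        _ ≤ ({0, 1} : Finset F).card := Finset.card_le_card hsub
        _ ≤ 2 := Finset.card_insert_le _ _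
    omega
  have h8 : a ^ 8 = a := by rw [← hF]; exact FiniteField.pow_card a
  have h7 : a ^ 7 = 1 := by
    have : a * a ^ 7 = a * 1 := by rw [mul_one, ← pow_succ']; exact h8
    exact mul_left_cancel₀ ha0 this
  have hprod : (a - 1) * ((a ^ 3 + a + 1) * (a ^ 3 + a ^ 2 + 1)) = 0 := by grind
  rcases mul_eq_zero.mp hprod with h | h
  · exact absurd (sub_eq_zero.mp h) ha1
  · rcases mul_eq_zero.mp h with h | h
    · refine ⟨a + 1, ?_⟩
      grind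
    · exact ⟨a, h⟩

/-- A field with 32 elements contains a root of `X⁵ + X² + 1`. -/
theorem exists_root_32 [Fintype F] (hF : Fintype.card F = 32) : ∃ c : F, c ^ 5 + c ^ 2 + 1 = 0 := by
  have h2 : (2 : F) = 0 := two_eq_zero_of_card 5 (by rw [hF]; norm_num)
  obtain ⟨a, ha0, ha1⟩ : ∃ a : F, a ≠ 0 ∧ a ≠ 1 := by
    by_contra hcon
    push Not at hcon
    have : Fintype.card F ≤ 2 := by
      classical
      have hsub : (Finset.univ : Finset F) ⊆ {0, 1} := by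
        intro x _
        by_cases hx : x = 0
        · simp [hx]
        · simp [hcon x hx]
      calc Fintype.card F = (Finset.univ : Finset F).card := rfl
        _ ≤ ({0, 1} : Finset F).card := Finset.card_le_card hsub
        _ ≤ 2 := Finset.card_insert_le _ _
    omega
  have h32 : a ^ 32 = a := by rw [← hF]; exact FiniteField.pow_card a
  have h31 : a ^ 31 = 1 := by
    have : a * a ^ 31 = a * 1 := by rw [mul_one, ← pow_succ']; exact h32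
    exact mul_left_cancel₀ ha0 this
  -- reciprocal and shift rules
  have recip : ∀ x y : F, x * y = 1 → x ^ 5 + x ^ 3 + 1 = 0 → y ^ 5 + y ^ 2 + 1 = 0 := by
    intro x y hxy hx
    have : y ^ 5 * (x ^ 5 + x ^ 3 + 1) = y ^ 5 + y ^ 2 + 1 := by
      have e5 : y ^ 5 * x ^ 5 = 1 := by rw [← mul_pow, mul_comm, hxy, one_pow]
      have e3 : y ^ 5 * x ^ 3 = y ^ 2 := by
        have : y ^ 5 * x ^ 3 = y ^ 2 * (y * x) ^ 3 := by ring
        rw [this, mul_comm y x, hxy, one_pow, mul_one]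
      rw [mul_add, mul_add, e5, e3, mul_one]; ring
    rw [← this, hx, mul_zero]
  have hprod : (a - 1) * ((a ^ 5 + a ^ 2 + 1) * (a ^ 5 + a ^ 3 + 1) *
      (a ^ 5 + a ^ 4 + a ^ 2 + a + 1) * (a ^ 5 + a ^ 4 + a ^ 3 + a + 1) *
      (a ^ 5 + a ^ 4 + a ^ 3 + a ^ 2 + 1) * (a ^ 5 + a ^ 3 + a ^ 2 + a + 1)) = 0 := by
    linear_combination h31 + ((-1) * a + (-2) * a ^ 2 + (-4) * a ^ 3 + (-6) * a ^ 4 + (-11) * a ^ 5 + (-14) * a ^ 6 + (-19) * a ^ 7 + (-24) * a ^ 8 + (-26) * a ^ 9 + (-33) * a ^ 10 + (-27) * a ^ 11 + (-28) * a ^ 12 + (-22) * a ^ 13 + (-12) * a ^ 14 + (-10) * a ^ 15 + (10) * a ^ 16 + (12) * a ^ 17 + (22) * a ^ 18 + (28) * a ^ 19 + (27) * a ^ 20 + (33) * a ^ 21 + (26) * a ^ 22 + (24) * a ^ 23 + (19) * a ^ 24 + (14) * a ^ 25 + (11) * a ^ 26 + (6) * a ^ 27 + (4) * a ^ 28 + (2) * a ^ 29 + a ^ 30) * h2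
  have ha1' : a + 1 ≠ 0 := by
    intro h
    apply ha1
    have : a = -1 := eq_neg_of_add_eq_zero_left h
    rw [this]; grind
  have hinv : a * a⁻¹ = 1 := mul_inv_cancel₀ ha0
  have hinv1 : (a + 1) * (a + 1)⁻¹ = 1 := mul_inv_cancel₀ ha1'
  have ha2 : a⁻¹ + 1 ≠ 0 := by
    intro h
    apply ha1
    have h3 : a * (a⁻¹ + 1) = 0 := by rw [h, mul_zero]
    rw [mul_add, hinv, mul_one] at h3
    have : a = -1 := eq_neg_of_add_eq_zero_right h3
    rw [this]; grind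
  have hinv2 : (a⁻¹ + 1) * (a⁻¹ + 1)⁻¹ = 1 := mul_inv_cancel₀ ha2
  rcases mul_eq_zero.mp hprod with h | h
  · exact absurd (sub_eq_zero.mp h) ha1
  rcases mul_eq_zero.mp h with h | h6
  rcases mul_eq_zero.mp h with h | h5
  rcases mul_eq_zero.mp h with h | h4
  rcases mul_eq_zero.mp h with h | h3
  rcases mul_eq_zero.mp h with h1 | h2'
  · exact ⟨a, h1⟩
  · exact ⟨a⁻¹, recip a a⁻¹ hinv h2'⟩
  · -- P5(a) = P1(a+1)
    refine ⟨a + 1, ?_⟩
    grind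
  · -- P6 = reciprocal of P5
    refine ⟨a⁻¹ + 1, ?_⟩
    have hb : (a⁻¹) ^ 5 + (a⁻¹) ^ 4 + (a⁻¹) ^ 2 + a⁻¹ + 1 = 0 := by grind
    grind
  · -- P4(a) = P2(a+1)
    refine ⟨(a + 1)⁻¹, recip (a + 1) _ hinv1 ?_⟩
    grind
  · -- P3 = reciprocal of P4
    refine ⟨(a⁻¹ + 1)⁻¹, recip (a⁻¹ + 1) _ hinv2 ?_⟩
    have hb : (a⁻¹) ^ 5 + (a⁻¹) ^ 4 + (a⁻¹) ^ 3 + (a⁻¹) ^ 2 + 1 = 0 := by grind
    grind

/-- Over the field with 8 elements the Suzuki group `Lie.Sz F 4` has an element of order 13. -/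
theorem exists_orderOf_eq_13 [Fintype F] (hF : Fintype.card F = 8) :
    ∃ g : ↥(Cfsg.Lie.Sz F 4), orderOf g = 13 := by
  have h2 : (2 : F) = 0 := two_eq_zero_of_card 3 (by rw [hF]; norm_num)
  have hθ : ∀ x : F, (x ^ 4) ^ 4 = x ^ 2 := by
    intro x
    have h8 : x ^ 8 = x := by rw [← hF]; exact FiniteField.pow_card x
    calc (x ^ 4) ^ 4 = (x ^ 8) ^ 2 := by ring
      _ = x ^ 2 := by rw [h8]
  obtain ⟨c, hc⟩ := exists_root_8 hF
  have hmem : szUU h2 1 ((1 : F) ^ 4) * szLU h2 c (c ^ 4) ∈ Cfsg.Lie.Sz F 4 :=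
    Subgroup.mul_mem _ (szUU_mem h2 4 (by norm_num) hθ 1) (szLU_mem h2 4 (by norm_num) hθ c)
  have hval : ((szUU h2 1 ((1 : F) ^ 4) * szLU h2 c (c ^ 4) : GL (Fin 4) F) :
      Matrix (Fin 4) (Fin 4) F) = sz8M1 c := by
    rw [← sz8M1_eq h2 c hc, one_pow]; rfl
  have p2 : sz8M1 c ^ 2 = sz8M2 c := by rw [pow_two, sz8M2_eq h2 c hc]
  have p4 : sz8M1 c ^ 4 = sz8M4 c := by
    have h0 : sz8M1 c ^ 4 = (sz8M1 c ^ 2) ^ 2 := pow_mul (sz8M1 c) 2 2
    rw [h0, p2, pow_two, sz8M4_eq h2 c hc]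
  have p8 : sz8M1 c ^ 8 = sz8M8 c := by
    have h0 : sz8M1 c ^ 8 = (sz8M1 c ^ 4) ^ 2 := pow_mul (sz8M1 c) 4 2
    rw [h0, p4, pow_two, sz8M8_eq h2 c hc]
  have p13 : sz8M1 c ^ 13 = 1 := by
    have h0 : sz8M1 c ^ 13 = sz8M1 c ^ 8 * sz8M1 c ^ 4 * sz8M1 c := by
      rw [← pow_add, ← pow_succ]
    rw [h0, p8, p4, sz8M12_eq h2 c hc, sz8M13_eq h2 c hc]
  refine ⟨⟨_, hmem⟩, ?_⟩
  rw [Subgroup.orderOf_mk]
  have : Fact (Nat.Prime 13) := ⟨by norm_num⟩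
  apply orderOf_eq_prime
  · apply Units.ext
    rw [Units.val_pow_eq_pow_val, hval, p13]; rfl
  · intro h
    have h1 := congrArg (fun g : GL (Fin 4) F => (g : Matrix (Fin 4) (Fin 4) F) 0 3) h
    simp only [hval] at h1
    simp [sz8M1] at h1

/-- Over the field with 32 elements the Suzuki group `Lie.Sz F 8` has an element of order 41. -/
theorem exists_orderOf_eq_41 [Fintype F] (hF : Fintype.card F = 32) :
    ∃ g : ↥(Cfsg.Lie.Sz F 8), orderOf g = 41 := by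
  have h2 : (2 : F) = 0 := two_eq_zero_of_card 5 (by rw [hF]; norm_num)
  have hθ : ∀ x : F, (x ^ 8) ^ 8 = x ^ 2 := by
    intro x
    have h32 : x ^ 32 = x := by rw [← hF]; exact FiniteField.pow_card x
    calc (x ^ 8) ^ 8 = (x ^ 32) ^ 2 := by ring
      _ = x ^ 2 := by rw [h32]
  obtain ⟨c, hc⟩ := exists_root_32 hF
  have hmem : szUU h2 1 ((1 : F) ^ 8) * szLU h2 c (c ^ 8) ∈ Cfsg.Lie.Sz F 8 :=
    Subgroup.mul_mem _ (szUU_mem h2 8 (by norm_num) hθ 1) (szLU_mem h2 8 (by norm_num) hθ c)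
  have hval : ((szUU h2 1 ((1 : F) ^ 8) * szLU h2 c (c ^ 8) : GL (Fin 4) F) :
      Matrix (Fin 4) (Fin 4) F) = sz32M1 c := by
    rw [← sz32M1_eq h2 c hc, one_pow]; rfl
  have p2 : sz32M1 c ^ 2 = sz32M2 c := by rw [pow_two, sz32M2_eq h2 c hc]
  have p4 : sz32M1 c ^ 4 = sz32M4 c := by
    have h0 : sz32M1 c ^ 4 = (sz32M1 c ^ 2) ^ 2 := pow_mul (sz32M1 c) 2 2
    rw [h0, p2, pow_two, sz32M4_eq h2 c hc]
  have p8 : sz32M1 c ^ 8 = sz32M8 c := by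
    have h0 : sz32M1 c ^ 8 = (sz32M1 c ^ 4) ^ 2 := pow_mul (sz32M1 c) 4 2
    rw [h0, p4, pow_two, sz32M8_eq h2 c hc]
  have p16 : sz32M1 c ^ 16 = sz32M16 c := by
    have h0 : sz32M1 c ^ 16 = (sz32M1 c ^ 8) ^ 2 := pow_mul (sz32M1 c) 8 2
    rw [h0, p8, pow_two, sz32M16_eq h2 c hc]
  have p32 : sz32M1 c ^ 32 = sz32M32 c := by
    have h0 : sz32M1 c ^ 32 = (sz32M1 c ^ 16) ^ 2 := pow_mul (sz32M1 c) 16 2
    rw [h0, p16, pow_two, sz32M32_eq h2 c hc]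
  have p41 : sz32M1 c ^ 41 = 1 := by
    have h0 : sz32M1 c ^ 41 = sz32M1 c ^ 32 * sz32M1 c ^ 8 * sz32M1 c := by
      rw [← pow_add, ← pow_succ]
    rw [h0, p32, p8, sz32M40_eq h2 c hc, sz32M41_eq h2 c hc]
  refine ⟨⟨_, hmem⟩, ?_⟩
  rw [Subgroup.orderOf_mk]
  have : Fact (Nat.Prime 41) := ⟨by norm_num⟩
  apply orderOf_eq_prime
  · apply Units.ext
    rw [Units.val_pow_eq_pow_val, hval, p41]; rfl
  · intro h
    have h1 := congrArg (fun g : GL (Fin 4) F => (g : Matrix (Fin 4) (Fin 4) F) 0 3) h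
    simp only [hval] at h1
    simp [sz32M1] at h1

end Explicit

end Cfsg.Agent.Lib.helper58
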